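import Groth.Agent.Sga4B.PurityStep
import Groth.Agent.Sga4B.FibreReg
import Groth.Agent.CalgA.RegBasic
import Groth.Agent.CalgB.Depth1
import Groth.Agent.S0247
import Mathlib.RingTheory.TensorProduct.Quotient
import Mathlib.RingTheory.Ideal.AssociatedPrime.Finiteness

/-!
Purity holds for every Noetherian local ring flat over a Noetherian local ring with regular closed
fibre of dimension at least two.
-/

set_option autoImplicit false
universe u

open AlgebraicGeometry CategoryTheory CategoryTheory.Limits RingTheory.Sequence IsLocalRing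

namespace Groth.Agent.Sga4B.FlatPurity

/-- A regular local ring of dimension at least two has a regular sequence of length two. -/
theorem exists_isWeaklyRegular_pair (F : Type u) [CommRing F] [IsRegularLocalRing F]
    (h : (2 : WithBot ℕ∞) ≤ ringKrullDim F) :
    ∃ x ∈ maximalIdeal F, ∃ y ∈ maximalIdeal F, IsWeaklyRegular F [x, y] := by
  have key : ∀ (G : Type u) [CommRing G] [IsRegularLocalRing G],
      (1 : WithBot ℕ∞) ≤ ringKrullDim G → maximalIdeal G ≠ ⊥ := by
    intro G _ _ h1 h2
    have h3 := IsRegularLocalRing.spanFinrank_maximalIdeal (R := G)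
    rw [h2, Submodule.spanFinrank_bot] at h3
    rw [← h3] at h1
    norm_num at h1
  obtain ⟨x, hx, hx2, -⟩ := CalgA.RegBasic.exists_notMem_sq_notMem_minimalPrimes (R := F)
      ∅ Set.finite_empty (by simp) (by simp) (key F (le_trans (by norm_num) h))
  obtain ⟨h3, h4⟩ := CalgA.RegBasic.quotient_of_notMem_sq x hx hx2
  have := CalgA.RegBasic.isDomain F
  have := CalgA.RegBasic.isDomain (F ⧸ Ideal.span {x})
  have hx0 : x ≠ 0 := fun h ↦ hx2 (h ▸ Ideal.zero_mem _)
  have h5 : (1 : WithBot ℕ∞) ≤ ringKrullDim (F ⧸ Ideal.span {x}) := by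
    obtain ⟨d, hd⟩ := CalgA.RegBasic.ringKrullDim_eq_natCast (F ⧸ Ideal.span {x})
    rw [← h4, hd] at h
    rw [hd]
    have : (2 : ℕ) ≤ d + 1 := by exact_mod_cast h
    have : 1 ≤ d := by omega
    exact_mod_cast this
  obtain ⟨z, hz, hz0⟩ := Submodule.exists_mem_ne_zero_of_ne_bot (key (F ⧸ Ideal.span {x}) h5)
  obtain ⟨y, rfl⟩ := Ideal.Quotient.mk_surjective z
  refine ⟨x, hx, y, ?_, ?_⟩
  · have : IsLocalHom (Ideal.Quotient.mk (Ideal.span {x})) :=
      IsLocalHom.of_surjective _ Ideal.Quotient.mk_surjective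
    rw [mem_maximalIdeal] at hz ⊢
    exact fun hu ↦ hz (hu.map _)
  · rw [isWeaklyRegular_cons_iff, isWeaklyRegular_singleton_iff]
    obtain ⟨e⟩ := FibreReg.exists_equiv_self x
    refine ⟨fun a b hab ↦ mul_left_cancel₀ hx0 hab, (e.isSMulRegular_congr y).2 fun a b hab ↦ ?_⟩
    exact mul_left_cancel₀ hz0 hab

variable (A B : Type u) [CommRing A] [IsLocalRing A] [IsNoetherianRing A] [CommRing B]
  [IsLocalRing B] [IsNoetherianRing B] [Algebra A B] [IsLocalHom (algebraMap A B)] [Module.Flat A B]

/-- A pair of elements in the maximal ideal, weakly regular with flat quotient. -/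
theorem exists_pair [IsRegularLocalRing (B ⧸ (maximalIdeal A).map (algebraMap A B))]
    (h : (2 : WithBot ℕ∞) ≤ ringKrullDim (B ⧸ (maximalIdeal A).map (algebraMap A B))) :
    ∃ x ∈ maximalIdeal B, ∃ y ∈ maximalIdeal B, IsWeaklyRegular B [x, y] ∧
      Module.Flat A (B ⧸ Ideal.ofList [x, y]) := by
  obtain ⟨x', hx', y', hy', h1⟩ := exists_isWeaklyRegular_pair _ h
  obtain ⟨x, rfl⟩ := Ideal.Quotient.mk_surjective x'
  obtain ⟨y, rfl⟩ := Ideal.Quotient.mk_surjective y'
  have key : ∀ z : B, Ideal.Quotient.mk ((maximalIdeal A).map (algebraMap A B)) z ∈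
      maximalIdeal (B ⧸ (maximalIdeal A).map (algebraMap A B)) → z ∈ maximalIdeal B := by
    intro z hz
    rw [mem_maximalIdeal] at hz ⊢
    exact fun hu ↦ hz (hu.map _)
  have h2 : IsWeaklyRegular (B ⧸ (maximalIdeal A).map (algebraMap A B)) [x, y] := by
    exact (isWeaklyRegular_map_algebraMap_iff (R := B) (S := B ⧸ (maximalIdeal A).map
      (algebraMap A B)) (M := B ⧸ (maximalIdeal A).map (algebraMap A B)) [x, y]).1 h1
  obtain ⟨h3, h4⟩ := FibreReg.isWeaklyRegular_and_flat A 2 B [x, y] rfl (by
    intro r hr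
    simp only [List.mem_cons, List.not_mem_nil, or_false] at hr
    rcases hr with rfl | rfl
    · exact key _ hx'
    · exact key _ hy') h2
  exact ⟨x, key x hx', y, key y hy', h3, h4⟩

theorem two_le_depth [IsRegularLocalRing (B ⧸ (maximalIdeal A).map (algebraMap A B))]
    (h : (2 : WithBot ℕ∞) ≤ ringKrullDim (B ⧸ (maximalIdeal A).map (algebraMap A B))) :
    (2 : ℕ∞) ≤ LocCoh.depth B B := by
  obtain ⟨x, hx, y, hy, h1, -⟩ := exists_pair A B h
  refine CalgB.Depth1.le_depth_of_isWeaklyRegular [x, y] ?_ h1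
  intro r hr
  simp only [List.mem_cons, List.not_mem_nil, or_false] at hr
  rcases hr with rfl | rfl
  · exact hx
  · exact hy

theorem three_le_depth [IsRegularLocalRing (B ⧸ (maximalIdeal A).map (algebraMap A B))]
    (h : (2 : WithBot ℕ∞) ≤ ringKrullDim (B ⧸ (maximalIdeal A).map (algebraMap A B)))
    (f : A) (hf : f ∈ maximalIdeal A) (hreg : f ∈ nonZeroDivisors A) :
    (3 : ℕ∞) ≤ LocCoh.depth B B := by
  obtain ⟨x, hx, y, hy, h1, h2⟩ := exists_pair A B h
  have h3 : IsWeaklyRegular B ([x, y] ++ [algebraMap A B f]) := by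
    rw [isWeaklyRegular_append_iff, isWeaklyRegular_singleton_iff]
    refine ⟨h1, ?_⟩
    have h4 : IsSMulRegular (B ⧸ Ideal.ofList [x, y]) f :=
      Module.Flat.isSMulRegular_of_nonZeroDivisors hreg
    have h5 : (Ideal.ofList [x, y] • ⊤ : Submodule B B) = Ideal.ofList [x, y] := by simp
    rw [h5]
    intro a b hab
    apply h4
    change f • a = f • b
    rw [← algebraMap_smul B f a, ← algebraMap_smul B f b]
    exact hab
  refine CalgB.Depth1.le_depth_of_isWeaklyRegular ([x, y] ++ [algebraMap A B f]) ?_ h3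
  intro r hr
  simp only [List.cons_append, List.nil_append, List.mem_cons, List.not_mem_nil, or_false] at hr
  rcases hr with rfl | rfl | rfl
  · exact hx
  · exact hy
  · rw [mem_maximalIdeal] at hf ⊢
    exact fun hu ↦ hf ((isUnit_map_iff _ _).1 hu)

/-- In a reduced Noetherian local ring which is not a field, the maximal ideal contains a
nonzerodivisor. -/
theorem exists_nonZeroDivisor [IsReduced A] (h : maximalIdeal A ≠ ⊥) :
    ∃ f ∈ maximalIdeal A, f ∈ nonZeroDivisors A := by
  by_contra! hcon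
  have h1 : ((maximalIdeal A : Ideal A) : Set A) ⊆ ⋃ p ∈ associatedPrimes A A, (p : Set A) := by
    rw [biUnion_associatedPrimes_eq_zero_divisors]
    intro f hf
    by_contra h2
    apply hcon f hf
    rw [mem_nonZeroDivisors_iff_right]
    intro z hz
    by_contra hz0
    exact h2 ⟨z, hz0, by rw [smul_eq_mul, mul_comm]; exact hz⟩
  obtain ⟨p, hp, hle⟩ := (Ideal.subset_union_prime_finite (associatedPrimes.finite A A)
    (f := id) 0 0 fun _ h _ _ ↦ h.1).1 h1
  have hpm : p = maximalIdeal A := le_antisymm (le_maximalIdeal hp.1.ne_top) hle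
  obtain ⟨hpr, a, ha⟩ := Submodule.isAssociatedPrime_iff.1 hp
  rw [hpm] at ha
  have hmem : ∀ f : A, f ∈ maximalIdeal A ↔ f * a = 0 := by
    intro f
    rw [ha, Submodule.mem_colon_singleton, Submodule.mem_bot, smul_eq_mul]
  by_cases hu : IsUnit a
  · apply h
    rw [eq_bot_iff]
    intro f hf
    rw [hmem, hu.mul_left_eq_zero] at hf
    exact hf
  · have h3 : a * a = 0 := (hmem a).1 hu
    have h4 : a = 0 := IsNilpotent.eq_zero ⟨2, by rw [pow_two]; exact h3⟩
    have h5 : (1 : A) ∈ maximalIdeal A := (hmem 1).2 (by rw [h4, mul_zero])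
    exact (Ideal.ne_top_iff_one _).1 (maximalIdeal.isMaximal A).ne_top h5

/-- Purity is invariant under isomorphism of local rings. -/
theorem purityHolds_of_ringEquiv {R S : Type u} [CommRing R] [IsLocalRing R] [CommRing S]
    [IsLocalRing S] (e : R ≃+* S) (h : FEt.PurityHolds S) : FEt.PurityHolds R :=
  PurityStep.purityHolds_of_nilpotent e.toRingHom e.surjective (fun x hx ↦ by
    have : x = 0 := e.injective (by rw [map_zero]; exact hx)
    rw [this]; exact IsNilpotent.zero) h

/-- Noetherian induction step. -/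
theorem step [IsRegularLocalRing (B ⧸ (maximalIdeal A).map (algebraMap A B))]
    (h : (2 : WithBot ℕ∞) ≤ ringKrullDim (B ⧸ (maximalIdeal A).map (algebraMap A B)))
    (H : ∀ (J : Ideal A) (_ : J ≠ ⊥) (_ : J ≤ maximalIdeal A)
      [IsLocalRing (B ⧸ J.map (algebraMap A B))], FEt.PurityHolds (B ⧸ J.map (algebraMap A B))) :
    FEt.PurityHolds B := by
  have hlocal : ∀ J : Ideal A, J ≤ maximalIdeal A → IsLocalRing (B ⧸ J.map (algebraMap A B)) := by
    intro J hJ
    apply CalgA.RegBasic.isLocalRing_quotient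
    intro htop
    have : J.map (algebraMap A B) ≤ maximalIdeal B := by
      rw [Ideal.map_le_iff_le_comap]
      intro f hf
      have hf := hJ hf
      rw [Ideal.mem_comap]
      rw [mem_maximalIdeal] at hf ⊢
      exact fun hu ↦ hf ((isUnit_map_iff _ _).1 hu)
    rw [htop, top_le_iff] at this
    exact (maximalIdeal.isMaximal B).ne_top this
  by_cases hred : IsReduced A
  · by_cases hm : maximalIdeal A = ⊥
    · -- the base is a field
      refine PurityStep.purityHolds_of_nilpotent
        (Ideal.Quotient.mk ((maximalIdeal A).map (algebraMap A B))) Ideal.Quotient.mk_surjective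
        (fun x hx ↦ ?_) (S0247.result _ h)
      rw [Ideal.Quotient.eq_zero_iff_mem, hm, Ideal.map_bot, Ideal.mem_bot] at hx
      rw [hx]; exact IsNilpotent.zero
    · obtain ⟨f, hf, hreg⟩ := exists_nonZeroDivisor A hm
      have hJ : Ideal.span {f} ≤ maximalIdeal A := (Ideal.span_singleton_le_iff_mem _).2 hf
      have hne : Ideal.span {f} ≠ ⊥ := by
        intro h0
        rw [Ideal.span_singleton_eq_bot] at h0
        rw [h0] at hreg
        exact zero_notMem_nonZeroDivisors hreg
      have hl := hlocal _ hJ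
      have h1 := H (Ideal.span {f}) hne hJ
      have hmap : (Ideal.span {f}).map (algebraMap A B) = Ideal.span {algebraMap A B f} := by
        rw [Ideal.map_span, Set.image_singleton]
      have hfB : algebraMap A B f ∈ maximalIdeal B := by
        rw [mem_maximalIdeal] at hf ⊢
        exact fun hu ↦ hf ((isUnit_map_iff _ _).1 hu)
      have hl' : IsLocalRing (B ⧸ Ideal.span {algebraMap A B f}) := by
        rw [← hmap]; exact hl
      refine PurityStep.purityHolds_of_quotient_span_singleton B (algebraMap A B f) hfB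
        (three_le_depth A B h f hf hreg) ?_
      exact purityHolds_of_ringEquiv (Ideal.quotEquivOfEq hmap.symm) h1
  · have hne : nilradical A ≠ ⊥ := fun h0 ↦ hred (nilradical_eq_bot_iff.1 h0)
    have hJ : nilradical A ≤ maximalIdeal A := nilradical_le_prime _
    have hl := hlocal _ hJ
    refine PurityStep.purityHolds_of_nilpotent
        (Ideal.Quotient.mk ((nilradical A).map (algebraMap A B))) Ideal.Quotient.mk_surjective
        (fun x hx ↦ ?_) (H _ hne hJ)
    rw [Ideal.Quotient.eq_zero_iff_mem] at hx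
    have hle : (nilradical A).map (algebraMap A B) ≤ nilradical B := by
      rw [Ideal.map_le_iff_le_comap]
      intro y hy
      rw [Ideal.mem_comap, mem_nilradical]
      exact (mem_nilradical.1 hy).map _
    exact mem_nilradical.1 (hle hx)

/-- Third isomorphism theorem for extended ideals. -/
theorem exists_quotQuot (A B : Type u) [CommRing A] [CommRing B] [Algebra A B] (J I : Ideal A)
    (h : J ≤ I) : Nonempty (((B ⧸ J.map (algebraMap A B)) ⧸ (I.map (Ideal.Quotient.mk J)).map
      (algebraMap (A ⧸ J) (B ⧸ J.map (algebraMap A B)))) ≃+* B ⧸ I.map (algebraMap A B)) := by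
  have hmap : (I.map (Ideal.Quotient.mk J)).map (algebraMap (A ⧸ J) (B ⧸ J.map (algebraMap A B))) =
      (I.map (algebraMap A B)).map (Ideal.Quotient.mk (J.map (algebraMap A B))) := by
    rw [Ideal.map_map, Ideal.map_map]
    rfl
  exact ⟨(Ideal.quotEquivOfEq hmap).trans (DoubleQuot.quotQuotEquivQuotOfLE (Ideal.map_mono h))⟩

/-- Purity holds for a Noetherian local ring which is flat over a Noetherian local ring with
regular closed fibre of dimension at least two. -/
theorem purityHolds [IsRegularLocalRing (B ⧸ (maximalIdeal A).map (algebraMap A B))]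
    (h : (2 : WithBot ℕ∞) ≤ ringKrullDim (B ⧸ (maximalIdeal A).map (algebraMap A B))) :
    FEt.PurityHolds B := by
  suffices H : ∀ (J : Ideal A) (_ : J ≤ maximalIdeal A) [IsLocalRing (B ⧸ J.map (algebraMap A B))],
      FEt.PurityHolds (B ⧸ J.map (algebraMap A B)) from
    step A B h fun J _ hJ _ ↦ H J hJ
  intro J
  induction J using IsNoetherian.induction with
  | hgt J ih =>
  intro hJ hloc
  have ih' : ∀ I : Ideal A, J < I → I ≤ maximalIdeal A →
    ∀ [IsLocalRing (B ⧸ I.map (algebraMap A B))], FEt.PurityHolds (B ⧸ I.map (algebraMap A B)) :=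
      ih
  clear ih
  revert J
  intro (J : Ideal A) hJ hloc ih
  have hJtop : J ≠ ⊤ := fun h0 ↦ (maximalIdeal.isMaximal A).ne_top (top_le_iff.1 (h0 ▸ hJ))
  have h1 : IsLocalRing (A ⧸ J) := CalgA.RegBasic.isLocalRing_quotient J hJtop
  have hmkB : IsLocalHom (Ideal.Quotient.mk (J.map (algebraMap A B))) :=
    IsLocalHom.of_surjective _ Ideal.Quotient.mk_surjective
  have h2 : IsLocalHom (algebraMap (A ⧸ J) (B ⧸ J.map (algebraMap A B))) := by
    constructor
    intro a' ha'
    obtain ⟨a, rfl⟩ := Ideal.Quotient.mk_surjective a'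
    have h5 : IsUnit (Ideal.Quotient.mk (J.map (algebraMap A B)) (algebraMap A B a)) := ha'
    exact ((isUnit_map_iff (algebraMap A B) a).1 (isUnit_of_map_unit _ _ h5)).map _
  have h3 : Module.Flat (A ⧸ J) (B ⧸ J.map (algebraMap A B)) :=
    Module.Flat.of_linearEquiv
      (Algebra.TensorProduct.quotIdealMapEquivQuotTensor B J).toLinearEquiv
  have hmax : (maximalIdeal A).map (Ideal.Quotient.mk J) = maximalIdeal (A ⧸ J) :=
    CalgA.RegBasic.map_maximalIdeal_quotient J
  obtain ⟨e⟩ := exists_quotQuot A B J (maximalIdeal A) hJ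
  rw [hmax] at e
  have h4 := IsRegularLocalRing.of_ringEquiv e.symm
  refine step (A ⧸ J) (B ⧸ J.map (algebraMap A B)) (ringKrullDim_eq_of_ringEquiv e.symm ▸ h) ?_
  intro J' hJ' hle hloc'
  let I : Ideal A := J'.comap (Ideal.Quotient.mk J)
  have hIJ : I.map (Ideal.Quotient.mk J) = J' :=
    Ideal.map_comap_of_surjective _ Ideal.Quotient.mk_surjective J'
  have hJI : J ≤ I := by
    intro x hx
    change Ideal.Quotient.mk J x ∈ J'
    rw [Ideal.Quotient.eq_zero_iff_mem.2 hx]
    exact J'.zero_mem
  have hlt : J < I := by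
    refine lt_of_le_of_ne hJI fun h0 ↦ hJ' ?_
    rw [← hIJ, ← h0, Ideal.map_quotient_self]
  have hIm : I ≤ maximalIdeal A := by
    have h6 : I ≠ ⊤ := by
      intro h0
      rw [h0, Ideal.map_top] at hIJ
      exact (maximalIdeal.isMaximal (A ⧸ J)).ne_top (top_le_iff.1 (hIJ ▸ hle))
    exact le_maximalIdeal h6
  obtain ⟨e'⟩ := exists_quotQuot A B J I hJI
  rw [hIJ] at e'
  have hlocI : IsLocalRing (B ⧸ I.map (algebraMap A B)) := e'.isLocalRing
  exact purityHolds_of_ringEquiv e' (ih I hlt hIm)

end Groth.Agent.Sga4B.FlatPurity
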