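import Groth.Agent.Sga4B.RegOpen

/-!
# Gluing of extensions of finite étale covers across the complement of a `RegOpen`
-/

set_option autoImplicit false
universe u

open CategoryTheory CategoryTheory.Limits TopologicalSpace Opposite AlgebraicGeometry

namespace Groth.Agent.Sga4B.RegGlue

open RegOpen Pi1A.FEtGlue

/-- Extension over a chart. -/
theorem exists_extension_chart {X : Scheme.{u}} (U : X.Opens) {P T : Scheme.{u}} (i : P ⟶ X)
    [IsOpenImmersion i] (t : T ⟶ P) [IsOpenImmersion t] (l : T ⟶ (U : Scheme.{u}))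
    (hl : l ≫ U.ι = t ≫ i) (ht : RegOpen t.opensRange) (hess : (FEt.restrict t).EssSurj)
    (V : FEt.Cat (U : Scheme.{u})) :
    ∃ E : FEt.Cat P, Nonempty ((FEt.restrict (pullback.snd U.ι i)).obj E ≅
      (FEt.restrict (pullback.fst U.ι i)).obj V) := by
  obtain ⟨E, ⟨e⟩⟩ := hess.mem_essImage ((FEt.restrict l).obj V)
  let t' : T ⟶ pullback U.ι i := pullback.lift l t hl
  have h1 : t' ≫ pullback.fst U.ι i = l := pullback.lift_fst _ _ _
  have h2 : t' ≫ pullback.snd U.ι i = t := pullback.lift_snd _ _ _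
  have hopen : IsOpenImmersion (t' ≫ pullback.snd U.ι i) := by rw [h2]; infer_instance
  have ht' : IsOpenImmersion t' := IsOpenImmersion.of_comp t' (pullback.snd U.ι i)
  have hreg : RegOpen t'.opensRange := by
    refine (ht.preimage (pullback.snd U.ι i)).mono ?_
    rintro z ⟨y, hy⟩
    refine ⟨y, (pullback.snd U.ι i).isOpenEmbedding.injective ?_⟩
    rw [← Scheme.Hom.comp_apply, h2]
    exact hy
  obtain ⟨hF, hF'⟩ := full_faithful_of_opensRange t' hreg
  refine ⟨E, ⟨(FEt.restrict t').preimageIso ?_⟩⟩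
  exact (restrictComp _ _).symm.app E ≪≫ (restrictCongr h2).app E ≪≫ e ≪≫
    (restrictCongr h1).symm.app V ≪≫ (restrictComp _ _).app V

/-- The opens over which `V` extends. -/
def Ext {X : Scheme.{u}} (U : X.Opens) (V : FEt.Cat (U : Scheme.{u})) : Set X.Opens :=
  {W | ∃ E : FEt.Cat (W : Scheme.{u}), Nonempty ((FEt.restrict (pullback.snd U.ι W.ι)).obj E ≅
      (FEt.restrict (pullback.fst U.ι W.ι)).obj V)}

theorem mem_ext_of_chart {X : Scheme.{u}} (U : X.Opens) (V : FEt.Cat (U : Scheme.{u}))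
    {P : Scheme.{u}} (i : P ⟶ X) [IsOpenImmersion i] (E : FEt.Cat P)
    (e : (FEt.restrict (pullback.snd U.ι i)).obj E ≅ (FEt.restrict (pullback.fst U.ι i)).obj V)
    (W : X.Opens) (hW : W ≤ i.opensRange) : W ∈ Ext U V := by
  let s : (W : Scheme.{u}) ⟶ P := IsOpenImmersion.lift i W.ι (by
    rw [Scheme.Opens.range_ι]; exact hW)
  have hs : s ≫ i = W.ι := IsOpenImmersion.lift_fac _ _ _
  let r : pullback U.ι W.ι ⟶ pullback U.ι i :=
    pullback.lift (pullback.fst _ _) (pullback.snd _ _ ≫ s) (by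
      rw [Category.assoc, hs, pullback.condition])
  have hr1 : r ≫ pullback.fst U.ι i = pullback.fst U.ι W.ι := pullback.lift_fst _ _ _
  have hr2 : r ≫ pullback.snd U.ι i = pullback.snd U.ι W.ι ≫ s := pullback.lift_snd _ _ _
  refine ⟨(FEt.restrict s).obj E, ⟨?_⟩⟩
  exact (restrictComp _ _).symm.app E ≪≫ (restrictCongr hr2).symm.app E ≪≫
    (restrictComp _ _).app E ≪≫ (FEt.restrict r).mapIso e ≪≫ (restrictComp _ _).symm.app V ≪≫
    (restrictCongr hr1).app V

/-- The cover by the opens over which `V` extends. -/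
noncomputable def cover {X : Scheme.{u}} (S : Set X.Opens) (hS : TopologicalSpace.Opens.IsBasis S) :
    X.OpenCover where
  I₀ := S
  X W := W.1
  f W := W.1.ι
  mem₀ := by
    rw [Scheme.presieve₀_mem_precoverage_iff]
    refine ⟨fun x ↦ ?_, inferInstance⟩
    obtain ⟨W, hW, hxW, -⟩ := TopologicalSpace.Opens.isBasis_iff_nbhd.mp hS
      (TopologicalSpace.Opens.mem_top x)
    exact ⟨⟨W, hW⟩, by simpa using hxW⟩

instance {X : Scheme.{u}} (S : Set X.Opens) (hS : TopologicalSpace.Opens.IsBasis S) :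
    Preorder (cover S hS).I₀ := inferInstanceAs (Preorder S)

theorem cover_opensRange {X : Scheme.{u}} (S : Set X.Opens)
    (hS : TopologicalSpace.Opens.IsBasis S) (W : S) :
    ((cover S hS).f W).opensRange = W.1 :=
  Scheme.Opens.opensRange_ι W.1

noncomputable instance {X : Scheme.{u}} (S : Set X.Opens)
    (hS : TopologicalSpace.Opens.IsBasis S) : (cover S hS).LocallyDirected :=
  .ofIsBasisOpensRange (by
    intro i j
    rw [cover_opensRange S hS i, cover_opensRange S hS j]
    rfl) (by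
    have : Set.range (fun i : (cover S hS).I₀ => ((cover S hS).f i).opensRange) = S := by
      ext W
      constructor
      · rintro ⟨W, rfl⟩
        change ((cover S hS).f W).opensRange ∈ S
        rw [cover_opensRange S hS W]
        exact W.2
      · intro hW
        exact ⟨⟨W, hW⟩, cover_opensRange S hS ⟨W, hW⟩⟩
    rw [this]
    exact hS)

/-- **Gluing.** -/
theorem isEquivalence_of_charts {X : Scheme.{u}} (U : X.Opens) (h : RegOpen U)
    (H : ∀ (V : FEt.Cat (U : Scheme.{u})) (x : X), ∃ (P : Scheme.{u}) (i : P ⟶ X)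
      (_ : IsOpenImmersion i) (E : FEt.Cat P), x ∈ Set.range i ∧
      Nonempty ((FEt.restrict (pullback.snd U.ι i)).obj E ≅
        (FEt.restrict (pullback.fst U.ι i)).obj V)) :
    (FEt.restrict U.ι).IsEquivalence := by
  obtain ⟨hfull, hfaithful⟩ := h.full_faithful
  suffices hess : (FEt.restrict U.ι).EssSurj from { }
  constructor
  intro V
  have hbasis : TopologicalSpace.Opens.IsBasis (Ext U V) := by
    rw [TopologicalSpace.Opens.isBasis_iff_nbhd]
    intro O x hx
    obtain ⟨P, i, _, E, hxi, ⟨e⟩⟩ := H V x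
    refine ⟨O ⊓ i.opensRange, mem_ext_of_chart U V i E e _ inf_le_right, ⟨hx, hxi⟩, inf_le_left⟩
  have hff : ∀ W : X.Opens, (FEt.restrict (pullback.snd U.ι W.ι)).Full ∧
      (FEt.restrict (pullback.snd U.ι W.ι)).Faithful := by
    intro W
    refine full_faithful_of_opensRange _ ((h.preimage W.ι).mono ?_)
    intro z hz
    change z ∈ Set.range (pullback.snd U.ι W.ι)
    rw [IsOpenImmersion.range_pullbackSnd]
    simpa using hz
  have hFull : ∀ W : Ext U V, (FEt.restrict (pullback.snd U.ι W.1.ι)).Full := fun W => (hff W.1).1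
  have hFaithful : ∀ W : Ext U V, (FEt.restrict (pullback.snd U.ι W.1.ι)).Faithful :=
    fun W => (hff W.1).2
  choose E e using fun W : Ext U V => W.2
  let 𝒰 := cover (Ext U V) hbasis
  have : Quiver.IsThin 𝒰.I₀ := inferInstanceAs (Quiver.IsThin (Ext U V))
  have : Small.{u} 𝒰.I₀ := inferInstanceAs (Small.{u} (Ext U V))
  exact ⟨_, restrict_glued (hFull := hFull) (hFaithful := hFaithful) U.ι 𝒰 V E
    (fun W => (e W).some)⟩

end Groth.Agent.Sga4B.RegGlue
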