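import Mathlib.Algebra.Homology.DerivedCategory.Ext.Basic
import Mathlib.Algebra.Homology.DerivedCategory.TStructure

/-!
# `Hom_D(A, B[a][i]) = Ext^{i-a}(A, B)`, explicit forms

`Q(single_0 A) ⟶ (Q(single_a B))⟦i⟧` is `Ext^q(A, B)` for `q = i - a ≥ 0` and `0` for `i < a`.
-/

set_option autoImplicit false
universe w w' v u

open CategoryTheory CategoryTheory.Limits CategoryTheory.Abelian

namespace Groth.Agent.Sga4B.PDHom

variable {C : Type u} [Category.{v} C] [Abelian C] [HasDerivedCategory.{w'} C]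

/-- `Q(single_a B)`. -/
noncomputable abbrev QS (a : ℤ) (B : C) : DerivedCategory C :=
  DerivedCategory.Q.obj ((CochainComplex.singleFunctor C a).obj B)

/-- `(single_a B)⟦i⟧ ≅ (single_0 B)⟦j⟧` for `j = i - a`. -/
noncomputable def shiftSingle (B : C) (a i j : ℤ) (h : j = i - a) :
    (QS a B)⟦i⟧ ≅ (QS 0 B)⟦j⟧ :=
  ((DerivedCategory.singleFunctors C).shiftIso i (a - i) a (by omega)).app B ≪≫
    (((DerivedCategory.singleFunctors C).shiftIso j (a - i) 0 (by omega)).app B).symm

/-- Postcomposition with an isomorphism as an additive equivalence. -/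
noncomputable def postIso {D : Type*} [Category D] [Preadditive D] (A : D) {B B' : D}
    (e : B ≅ B') : (A ⟶ B) ≃+ (A ⟶ B') where
  toFun f := f ≫ e.hom
  invFun f := f ≫ e.inv
  left_inv f := by simp
  right_inv f := by simp
  map_add' f g := by simp

/-- Precomposition with an isomorphism as an additive equivalence. -/
noncomputable def preIso {D : Type*} [Category D] [Preadditive D] {A A' : D} (e : A ≅ A')
    (B : D) : (A ⟶ B) ≃+ (A' ⟶ B) where
  toFun f := e.inv ≫ f
  invFun f := e.hom ≫ f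
  left_inv f := by simp
  right_inv f := by simp
  map_add' f g := by simp

section

variable [HasExt.{w} C]

/-- `Hom_D(A, B[q]) = Ext^q(A, B)`. -/
noncomputable def homExt (A B : C) (i : ℤ) (q : ℕ) (h : (q : ℤ) = i) :
    (QS 0 A ⟶ (QS 0 B)⟦i⟧) ≃+ Ext.{w} A B q := by
  subst h
  exact (Ext.homAddEquiv (X := A) (Y := B) (n := q)).symm

/-- `Hom_D(A, B[a][i]) = Ext^{i - a}(A, B)`. -/
noncomputable def homExt' (A B : C) (a i : ℤ) (q : ℕ) (h : (q : ℤ) = i - a) :
    (QS 0 A ⟶ (QS a B)⟦i⟧) ≃+ Ext.{w} A B q :=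
  (postIso (QS 0 A) (shiftSingle B a i q h)).trans (homExt A B q q rfl)

end

/-- `Hom_D(A, B[i]) = 0` for `i < 0`. -/
theorem subsingleton_hom (A B : C) (i : ℤ) (h : i < 0) :
    Subsingleton (QS 0 A ⟶ (QS 0 B)⟦i⟧) := by
  have h1 : DerivedCategory.IsLE (QS 0 A) 0 := inferInstance
  have h2 : DerivedCategory.IsGE (QS 0 B) 0 := inferInstance
  have h3 : DerivedCategory.IsGE ((QS 0 B)⟦i⟧) (-i) :=
    DerivedCategory.TStructure.t.isGE_shift (QS 0 B) 0 i (-i) (by omega)
  exact ⟨fun f g => (DerivedCategory.TStructure.t.zero f 0 (-i) (by omega)).trans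
    (DerivedCategory.TStructure.t.zero g 0 (-i) (by omega)).symm⟩

/-- `Hom_D(A, B[a][i]) = 0` for `i < a`. -/
theorem subsingleton_hom' (A B : C) (a i : ℤ) (h : i < a) :
    Subsingleton (QS 0 A ⟶ (QS a B)⟦i⟧) := by
  have := subsingleton_hom A B (i - a) (by omega)
  exact (postIso (QS 0 A) (shiftSingle B a i (i - a) rfl)).injective.subsingleton

end Groth.Agent.Sga4B.PDHom
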