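import Groth.Prelude.Def_EtModD2
import Groth.Prelude.Def_EtModW

/-!
# Short instances for `EtModW.Mod Λ X` (kernel speed)

After `open scoped Groth.Agent.Sga4B.PDInst` the instances `HasSheafify`, `HasWeakSheafify`, `HasExt`,
`EnoughInjectives`, ... for `EtModW.Mod Λ X` are named theorems (not auxiliary `_proof_n` of each
declaration), so that the kernel recognizes them at once.
-/

set_option autoImplicit false
universe u
open CategoryTheory CategoryTheory.Limits CategoryTheory.Abelian AlgebraicGeometry

namespace Groth.Agent.Sga4B.PDInst

variable (Λ : Type (u + 1)) [CommRing Λ] (X : Scheme.{u})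

theorem hasSheafifyMod : HasSheafify X.smallEtaleTopology (ModuleCat.{u + 1} Λ) := inferInstance

attribute [scoped instance 10000] hasSheafifyMod

theorem hasWeakSheafifyMod : HasWeakSheafify X.smallEtaleTopology (ModuleCat.{u + 1} Λ) :=
  inferInstance

attribute [scoped instance 10000] hasWeakSheafifyMod

theorem isGrothendieckAbelianMod : IsGrothendieckAbelian.{u + 1} (EtModW.Mod Λ X) := inferInstance

attribute [scoped instance 10000] isGrothendieckAbelianMod

theorem hasExtMod : HasExt.{u + 1} (EtModW.Mod Λ X) := inferInstance

attribute [scoped instance 10000] hasExtMod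

theorem enoughInjectivesMod : EnoughInjectives (EtModW.Mod Λ X) := inferInstance

attribute [scoped instance 10000] enoughInjectivesMod

end Groth.Agent.Sga4B.PDInst
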