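import Groth.Agent.Sga4B.ModExtU
import Groth.Agent.Sga4B.JFComp
import Groth.Prelude.Def_EtModD2
import Groth.Prelude.Def_EtModW
import Groth.Agent.Sga4B.PDHom
import Groth.Agent.Sga4B.PDInst
import Groth.Agent.Sga4B.HTools

/-!
# `Hom_{D(X, Λ)}(Λ_X, F[i]) = H^i(X, F)`

* `extConst F q : Ext^q_Λ(Λ_X, F) ≃+ H^q(X, F^ab)`
* `homConst F q : Hom_D(Λ_X, F[q]) ≃+ H^q(X, F^ab)`, `q : ℕ`
* `subsingleton_homConst`: `Hom_D(Λ_X, F[i]) = 0` for `i < 0`.
-/

set_option autoImplicit false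
universe u

open CategoryTheory CategoryTheory.Limits CategoryTheory.Abelian AlgebraicGeometry Opposite
open Groth.Agent.EtpbcA Groth.Agent.Etrest.ModAb Groth.Agent.Etcore.ExtMap
open Groth.Agent.Sga4B.DualShape Groth.Agent.Sga4B.ModExtU
open Groth.Agent.Etcore.EtInst
open scoped Groth.Agent.Etcore.EtInst Groth.Agent.Sga4B.PDInst

attribute [local instance 5000] CategoryTheory.Abelian.toPreadditive
  CategoryTheory.Preadditive.preadditiveHasZeroMorphisms

namespace Groth.Agent.Sga4B.PDConst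

variable (Λ : Type (u + 1)) [CommRing Λ] (X : Scheme.{u})

/-- The adjunction between constant sheaves of modules and global sections. -/
noncomputable abbrev modConstAdj :
    constantSheaf X.smallEtaleTopology (ModuleCat.{u + 1} Λ) ⊣
      (sheafSections X.smallEtaleTopology (ModuleCat.{u + 1} Λ)).obj (op (EtCoh.top X)) :=
  constantSheafAdj X.smallEtaleTopology (ModuleCat.{u + 1} Λ) (EtCore.topIsTerminal X)

/-- The unit section of `Λ_X`. -/
noncomputable def oneMod : EtModW.sect Λ (EtModW.constMod Λ X Λ) (EtCoh.top X) :=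
  ((modConstAdj Λ X).unit.app (ModuleCat.of Λ Λ)).hom (1 : Λ)

/-- The unit section of `Λ_X`, as a section of the underlying abelian sheaf. -/
noncomputable def oneAb : EtCoh.sect ((ab Λ X).obj (EtModW.constMod Λ X Λ)) (EtCoh.top X) :=
  oneMod Λ X

theorem bijective_oneMod (F : EtModW.Mod Λ X) :
    Function.Bijective (fun f : EtModW.constMod Λ X Λ ⟶ F =>
      (f.hom.app (op (EtCoh.top X))).hom (oneMod Λ X)) := by
  have h1 : (fun f : EtModW.constMod Λ X Λ ⟶ F =>
      (f.hom.app (op (EtCoh.top X))).hom (oneMod Λ X)) =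
      (fun g : ModuleCat.of Λ Λ ⟶ F.obj.obj (op (EtCoh.top X)) => g.hom (1 : Λ)) ∘
        ((modConstAdj Λ X).homEquiv (ModuleCat.of Λ Λ) F) := by
    funext f
    change _ = (((modConstAdj Λ X).homEquiv (ModuleCat.of Λ Λ) F) f).hom (1 : Λ)
    rw [Adjunction.homEquiv_unit]
    rfl
  rw [h1]
  refine Function.Bijective.comp ?_ (Equiv.bijective _)
  constructor
  · intro a b hab
    apply ModuleCat.hom_ext
    exact LinearMap.ext_ring hab
  · intro m
    refine ⟨ModuleCat.ofHom (LinearMap.toSpanSingleton Λ (F.obj.obj (op (EtCoh.top X))) m), ?_⟩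
    exact LinearMap.toSpanSingleton_apply_one Λ _ m

theorem bijective_oneAb (F : EtModW.Mod Λ X) :
    Function.Bijective (fun f : EtModW.constMod Λ X Λ ⟶ F =>
      ((ab Λ X).map f).hom.app (op (EtCoh.top X)) (oneAb Λ X)) :=
  bijective_oneMod Λ X F

theorem bijective_extMap_one (F : EtModW.Mod Λ X) (q : ℕ) :
    Function.Bijective (extMap (ab Λ X) (secMap (EtCoh.top X) (oneAb Λ X)) F q) :=
  bijective_extMap (EtCoh.top X) Λ (EtModW.constMod Λ X Λ) (oneAb Λ X) (bijective_oneAb Λ X) F q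

/-- `Ext^q_Λ(Λ_X, F) = H^q(X, F^ab)`. -/
noncomputable def extConst (F : EtModW.Mod Λ X) (q : ℕ) :
    Ext.{u + 1} (EtModW.constMod Λ X Λ) F q ≃+ HH X ((ab Λ X).obj F) q :=
  (AddEquiv.ofBijective _ (bijective_extMap_one Λ X F q)).trans
    (HTools.extPrecomp (JFComp.topIso ℤ X).symm ((ab Λ X).obj F) q)

section

attribute [local instance] HasDerivedCategory.standard

/-- `Hom_D(Λ_X, F[q]) = H^q(X, F^ab)`. -/
noncomputable def homConst (F : EtModW.Mod Λ X) (i : ℤ) (q : ℕ) (h : (q : ℤ) = i) :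
    ((DerivedCategory.Q.obj ((CochainComplex.singleFunctor (EtModW.Mod Λ X) 0).obj
      (EtModW.constMod Λ X Λ))) ⟶ (DerivedCategory.Q.obj
        ((CochainComplex.singleFunctor (EtModW.Mod Λ X) 0).obj F))⟦i⟧) ≃+
      HH X ((ab Λ X).obj F) q :=
  (PDHom.homExt (EtModW.constMod Λ X Λ) F i q h).trans (extConst Λ X F q)

theorem subsingleton_homConst (F : EtModW.Mod Λ X) (i : ℤ) (h : i < 0) :
    Subsingleton ((DerivedCategory.Q.obj ((CochainComplex.singleFunctor (EtModW.Mod Λ X) 0).obj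
      (EtModW.constMod Λ X Λ))) ⟶ (DerivedCategory.Q.obj
        ((CochainComplex.singleFunctor (EtModW.Mod Λ X) 0).obj F))⟦i⟧) :=
  PDHom.subsingleton_hom (EtModW.constMod Λ X Λ) F i h

/-- `Hom_D(F, K[-a][i]) = Ext^{i - a}(F, K)` for sheaves of modules. -/
noncomputable def homExtMod (F K : EtModW.Mod Λ X) (a i : ℤ) (q : ℕ) (h : (q : ℤ) = i - a) :
    ((DerivedCategory.Q.obj ((CochainComplex.singleFunctor (EtModW.Mod Λ X) 0).obj F)) ⟶
      (DerivedCategory.Q.obj ((CochainComplex.singleFunctor (EtModW.Mod Λ X) a).obj K))⟦i⟧) ≃+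
      Ext.{u + 1} F K q :=
  PDHom.homExt' F K a i q h

theorem subsingleton_homExtMod (F K : EtModW.Mod Λ X) (a i : ℤ) (h : i < a) :
    Subsingleton ((DerivedCategory.Q.obj
      ((CochainComplex.singleFunctor (EtModW.Mod Λ X) 0).obj F)) ⟶
      (DerivedCategory.Q.obj ((CochainComplex.singleFunctor (EtModW.Mod Λ X) a).obj K))⟦i⟧) :=
  PDHom.subsingleton_hom' F K a i h

end

end Groth.Agent.Sga4B.PDConst
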