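import Groth.Agent.Etrest.ModAb
import Groth.Agent.CurvesA.MuConst
import Groth.Agent.Sga4B.PDInst

/-!
# Sheaves of `ℤ/n`-modules and their underlying abelian sheaves

* `full_ab`: the forgetful functor from sheaves of `ℤ/n`-modules to abelian sheaves is fully faithful.
* `nonempty_iso_of_ab`: two sheaves of `ℤ/n`-modules with isomorphic underlying abelian sheaves are isomorphic.
* `nonempty_iso_kummer`: over a separably closed field a Kummer sheaf of `ℤ/n`-modules is isomorphic to any
  sheaf of `ℤ/n`-modules whose underlying abelian sheaf is constant with value `ℤ/n`.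
-/

set_option autoImplicit false
universe u

open CategoryTheory CategoryTheory.Limits AlgebraicGeometry Opposite
open Groth.Agent.Etrest.ModAb
open scoped Groth.Agent.Sga4B.PDInst

namespace Groth.Agent.Sga4B.PDKummer

variable {n : ℕ} {X : Scheme.{u}}

/-- `ℤ/n` in the universe `u + 1`. -/
abbrev Lam (n : ℕ) : Type (u + 1) := ULift.{u + 1} (ZMod n)

theorem smul_eq_zsmul {M : Type*} [AddCommGroup M] [Module (Lam.{u} n) M] (m : ℤ) (x : M) :
    (ULift.up (m : ZMod n) : Lam.{u} n) • x = m • x := by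
  have h : (ULift.up (m : ZMod n) : Lam.{u} n) = m • (1 : Lam.{u} n) := by
    apply ULift.ext
    change (m : ZMod n) = m • (1 : ZMod n)
    rw [zsmul_eq_mul, mul_one]
  rw [h, smul_assoc, one_smul]

theorem map_smul_of_add {M N : Type*} [AddCommGroup M] [AddCommGroup N] [Module (Lam.{u} n) M]
    [Module (Lam.{u} n) N] (φ : M →+ N) (r : Lam.{u} n) (x : M) : φ (r • x) = r • φ x := by
  obtain ⟨r⟩ := r
  obtain ⟨m, rfl⟩ := ZMod.intCast_surjective r
  rw [smul_eq_zsmul, smul_eq_zsmul, map_zsmul]

/-- Morphisms of the underlying abelian sheaves are linear. -/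
noncomputable def preimage {F G : EtModW.Mod (Lam.{u} n) X}
    (φ : (ab (Lam.{u} n) X).obj F ⟶ (ab (Lam.{u} n) X).obj G) : F ⟶ G where
  hom :=
    { app := fun U => ModuleCat.ofHom
        { toFun := fun x => (φ.hom.app U).hom x
          map_add' := fun x y => map_add (φ.hom.app U).hom x y
          map_smul' := fun r x => map_smul_of_add (M := F.obj.obj U) (N := G.obj.obj U)
            (φ.hom.app U).hom r x }
      naturality := fun U V g => by
        apply ModuleCat.hom_ext
        apply LinearMap.ext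
        intro x
        exact ConcreteCategory.congr_hom (φ.hom.naturality g) x }

theorem map_preimage {F G : EtModW.Mod (Lam.{u} n) X}
    (φ : (ab (Lam.{u} n) X).obj F ⟶ (ab (Lam.{u} n) X).obj G) :
    (ab (Lam.{u} n) X).map (preimage φ) = φ := by
  apply Sheaf.hom_ext
  rfl

instance full_ab : (ab (Lam.{u} n) X).Full := ⟨fun φ => ⟨preimage φ, map_preimage φ⟩⟩

theorem nonempty_iso_of_ab {F G : EtModW.Mod (Lam.{u} n) X}
    (e : (ab (Lam.{u} n) X).obj F ≅ (ab (Lam.{u} n) X).obj G) : Nonempty (F ≅ G) :=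
  ⟨(ab (Lam.{u} n) X).preimageIso e⟩

/-- Over a separably closed field, a Kummer sheaf is `ℤ/n`. -/
theorem nonempty_iso_kummer (k : Type u) [Field k] [IsSepClosed k] (hn : (n : k) ≠ 0)
    (f : X ⟶ Spec (CommRingCat.of k)) (μ K : EtModW.Mod (Lam.{u} n) X) (hμ : EtModD.IsKummer n μ)
    (hK : Nonempty ((ab (Lam.{u} n) X).obj K ≅ EtCoh.const X (ZMod n))) : Nonempty (K ≅ μ) := by
  obtain ⟨e⟩ := hK
  obtain ⟨e'⟩ := hμ
  obtain ⟨e''⟩ := CurvesA.MuConst.nonempty_iso_const_mu_of_isSepClosed k n hn f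
  exact nonempty_iso_of_ab (e ≪≫ e'' ≪≫ e'.symm)

end Groth.Agent.Sga4B.PDKummer
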