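import Groth.Agent.EtpbcA.FLC
import Mathlib.AlgebraicGeometry.Morphisms.UniversallyOpen
import Mathlib.AlgebraicGeometry.Morphisms.Flat

/-!
# Stalks of a finite locally constant sheaf on a connected scheme are all isomorphic
-/

set_option autoImplicit false
universe u
open CategoryTheory CategoryTheory.Limits AlgebraicGeometry Opposite

namespace Groth.Agent.Sga4B.FLCConn

open Groth.Agent.EtpbcA.Germ Groth.Agent.EtpbcA.FLC

variable {X : Scheme.{u}}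

/-- A geometric point whose image is the image of `v : V.left` lifts to `V`, through `v`. -/
theorem exists_fib {Ω : Type u} [Field Ω] [IsSepClosed Ω] (ξ : Spec (CommRingCat.of Ω) ⟶ X)
    (V : X.Etale) (v : V.left) (hv : V.hom v = ξ default) :
    ∃ t : Fib ξ V, pt ξ t = v := by
  obtain ⟨l, hl, hl'⟩ := Scheme.exists_fac_of_etale_of_isSepClosed V.hom ξ v hv
  exact ⟨Over.homMk l hl, hl'⟩

theorem nonempty_equiv_of_isConstVia {F : EtCoh.Ab X} {M N : Type} [AddCommGroup M] [AddCommGroup N]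
    {U V : X.Etale} {φ : M →+ EtCoh.sect F U} {ψ : N →+ EtCoh.sect F V}
    (hφ : IsConstVia F U φ) (hψ : IsConstVia F V ψ) (a : U.left) (b : V.left) (h : U.hom a = V.hom b) :
    Nonempty (M ≃+ N) := by
  obtain ⟨Ω, _, _, ξ, t, rfl⟩ := exists_geomPt a
  rw [hom_pt] at h
  obtain ⟨s, rfl⟩ := exists_fib ξ V b h.symm
  let e1 : M ≃+ ((EtCoh.stalk ξ).obj F : Type (u + 1)) :=
    AddEquiv.ofBijective ((germ ξ F t).comp φ) (hφ Ω ξ t)
  let e2 : N ≃+ ((EtCoh.stalk ξ).obj F : Type (u + 1)) :=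
    AddEquiv.ofBijective ((germ ξ F s).comp ψ) (hψ Ω ξ s)
  exact ⟨e1.trans e2.symm⟩

/-- On a connected scheme, all geometric stalks of a finite locally constant sheaf are isomorphic to one
finite group. -/
theorem exists_stalk_equiv [ConnectedSpace X] (F : EtCoh.Ab X) (hF : EtCoh.IsFiniteLocallyConstant F) :
    ∃ (M : Type) (_ : AddCommGroup M) (_ : Finite M), ∀ (Ω : Type u) [Field Ω] [IsSepClosed Ω]
      (ξ : Spec (CommRingCat.of Ω) ⟶ X), Nonempty (M ≃+ ((EtCoh.stalk ξ).obj F : Type (u + 1))) := by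
  rw [flc_iff] at hF
  obtain ⟨x0⟩ := ‹ConnectedSpace X›.toNonempty
  obtain ⟨U0, u0, M, _, _, φ0, hu0, hφ0⟩ := hF x0
  refine ⟨M, inferInstance, inferInstance, ?_⟩
  let S : Set X := {x | ∃ (U : X.Etale) (u : U.left) (N : Type) (_ : AddCommGroup N)
    (φ : N →+ EtCoh.sect F U), U.hom u = x ∧ IsConstVia F U φ ∧ Nonempty (M ≃+ N)}
  have hS : IsOpen S := by
    rw [isOpen_iff_forall_mem_open]
    rintro x ⟨U, u, N, _, φ, hu, hφ, e⟩
    refine ⟨Set.range U.hom, ?_, U.hom.isOpenMap.isOpen_range, ⟨u, hu⟩⟩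
    rintro _ ⟨v, rfl⟩
    exact ⟨U, v, N, inferInstance, φ, rfl, hφ, e⟩
  have hS' : IsOpen Sᶜ := by
    rw [isOpen_iff_forall_mem_open]
    intro x hx
    obtain ⟨U, u, N, _, _, φ, hu, hφ⟩ := hF x
    refine ⟨Set.range U.hom, ?_, U.hom.isOpenMap.isOpen_range, ⟨u, hu⟩⟩
    rintro _ ⟨v, rfl⟩ hv
    obtain ⟨V, v', N', _, ψ, hv', hψ, ⟨e⟩⟩ := hv
    obtain ⟨e'⟩ := nonempty_equiv_of_isConstVia hψ hφ v' v hv'
    exact hx ⟨U, u, N, inferInstance, φ, hu, hφ, ⟨e.trans e'⟩⟩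
  have hun : S = Set.univ := by
    have hcl : IsClopen S := ⟨⟨hS'⟩, hS⟩
    exact hcl.eq_univ ⟨x0, U0, u0, M, inferInstance, φ0, hu0, hφ0, ⟨AddEquiv.refl M⟩⟩
  intro Ω _ _ ξ
  have hx : ξ default ∈ S := by rw [hun]; trivial
  obtain ⟨U, u, N, _, φ, hu, hφ, ⟨e⟩⟩ := hx
  obtain ⟨t, ht⟩ := exists_fib ξ U u hu
  exact ⟨e.trans (AddEquiv.ofBijective ((germ ξ F t).comp φ) (hφ Ω ξ t))⟩

end Groth.Agent.Sga4B.FLCConn
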