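import Mathlib.RingTheory.Henselian
import Mathlib.FieldTheory.IsSepClosed
import Mathlib.RingTheory.LocalRing.ResidueField.Basic
import Mathlib.RingTheory.Localization.Away.Basic

/-!
# Units of `A[1/x]` for `x` a prime element, and `n`-th roots of units of strictly henselian rings
-/

set_option autoImplicit false

universe u

namespace Groth.Agent.Sga4B.UnitsAway

open IsLocalRing Polynomial

/-- A unit of a henselian local ring with separably closed residue field is an `n`-th power, `n`
invertible. -/
theorem exists_pow_eq (A : Type u) [CommRing A] [HenselianLocalRing A]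
    [IsSepClosed (ResidueField A)] (n : ℕ) (hn : IsUnit (n : A)) (a : Aˣ) :
    ∃ b : Aˣ, a = b ^ n := by
  have hn0 : n ≠ 0 := by
    rintro rfl
    simp at hn
  have hnk : NeZero (n : ResidueField A) := by
    constructor
    have := hn.map (residue A)
    rw [map_natCast] at this
    exact this.ne_zero
  obtain ⟨z, hz⟩ := IsSepClosed.exists_pow_nat_eq (residue A (a : A)) n
  obtain ⟨b₀, hb₀⟩ := residue_surjective z
  have hmon : (X ^ n - C (a : A)).Monic := monic_X_pow_sub_C _ hn0
  have h1 : (X ^ n - C (a : A)).eval b₀ ∈ maximalIdeal A := by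
    rw [← residue_eq_zero_iff]
    simp [hb₀, hz]
  have hz0 : z ≠ 0 := by
    rintro rfl
    rw [zero_pow hn0] at hz
    exact (a.isUnit.map (residue A)).ne_zero hz.symm
  have hb₀u : IsUnit b₀ := by
    by_contra hcon
    apply hz0
    rw [← hb₀, residue_eq_zero_iff]
    exact hcon
  have h2 : IsUnit ((X ^ n - C (a : A)).derivative.eval b₀) := by
    simp only [derivative_sub, derivative_X_pow, derivative_C, sub_zero, eval_mul, eval_natCast,
      eval_pow, eval_X, eval_C, map_natCast]
    exact hn.mul (hb₀u.pow _)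
  obtain ⟨b, hb, -⟩ := HenselianLocalRing.is_henselian _ hmon b₀ h1 h2
  have hb' : b ^ n = a := by
    simpa [IsRoot.def, sub_eq_zero] using hb
  have hbu : IsUnit b := by
    rw [← isUnit_pow_iff hn0, hb']
    exact a.isUnit
  obtain ⟨c, rfl⟩ := hbu
  exact ⟨c, Units.ext (by simpa using hb'.symm)⟩

variable {A B : Type*} [CommRing A] [IsDomain A] [CommRing B] [Algebra A B]
  {x : A} (hx : Prime x) [IsLocalization.Away x B]

/-- The unit `x` of `A[1/x]`. -/
noncomputable def xUnit (x : A) (B : Type*) [CommRing B] [Algebra A B] [IsLocalization.Away x B] : Bˣ :=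
  (IsLocalization.Away.algebraMap_isUnit x).unit

@[simp] theorem coe_xUnit : ((xUnit x B : Bˣ) : B) = algebraMap A B x := rfl

include hx in
theorem exists_eq_zpow_mul (u : Bˣ) : ∃ (k : ℤ) (a : Aˣ), u = (xUnit x B) ^ k * Units.map (algebraMap A B) a := by
  have hinj : Function.Injective (algebraMap A B) :=
    IsLocalization.injective _ (powers_le_nonZeroDivisors_of_noZeroDivisors hx.ne_zero)
  obtain ⟨l, a, ha⟩ := IsLocalization.Away.surj x (u : B)
  obtain ⟨m, b, hb⟩ := IsLocalization.Away.surj x ((u⁻¹ : Bˣ) : B)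
  have hab : a * b = x ^ (l + m) := by
    apply hinj
    rw [map_mul, ← ha, ← hb, map_pow, pow_add]
    have : (u : B) * ((u⁻¹ : Bˣ) : B) = 1 := Units.mul_inv u
    linear_combination (algebraMap A B x ^ l * algebraMap A B x ^ m) * this
  obtain ⟨i, hi, has⟩ := (dvd_prime_pow hx _).1 (Dvd.intro _ hab)
  obtain ⟨v, hv⟩ := has.symm
  refine ⟨(i : ℤ) - l, v, ?_⟩
  rw [zpow_sub, zpow_natCast, zpow_natCast, mul_right_comm, eq_mul_inv_iff_mul_eq]
  apply Units.ext
  simp only [Units.val_mul, Units.val_pow_eq_pow_val, coe_xUnit, Units.coe_map, MonoidHom.coe_coe]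
  rw [ha, ← hv, map_mul, map_pow]

include hx in
theorem eq_zero_of_zpow_eq {j : ℤ} {a : Aˣ}
    (h : (xUnit x B) ^ j = Units.map (algebraMap A B) a) : j = 0 := by
  have hinj : Function.Injective (algebraMap A B) :=
    IsLocalization.injective _ (powers_le_nonZeroDivisors_of_noZeroDivisors hx.ne_zero)
  have key : ∀ (j : ℕ) (a : Aˣ), (xUnit x B) ^ j = Units.map (algebraMap A B) a → j = 0 := by
    intro j a h
    by_contra hj
    have h1 : x ^ j = a := by
      apply hinj
      rw [map_pow]
      simpa using congrArg Units.val h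
    have h2 : IsUnit (x ^ j) := h1 ▸ a.isUnit
    exact hx.not_unit ((isUnit_pow_iff hj).1 h2)
  rcases Int.le_total 0 j with hj | hj
  · lift j to ℕ using hj
    rw [zpow_natCast] at h
    exact_mod_cast key j a h
  · obtain ⟨k, rfl⟩ : ∃ k : ℕ, j = -k := ⟨j.natAbs, by omega⟩
    rw [zpow_neg, zpow_natCast, inv_eq_iff_eq_inv, ← map_inv] at h
    have := key k a⁻¹ h
    omega

end Groth.Agent.Sga4B.UnitsAway
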