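import Mathlib.AlgebraicGeometry.AlgClosed.Basic
import Mathlib.AlgebraicGeometry.PullbackCarrier
import Mathlib.AlgebraicGeometry.Morphisms.QuasiFinite

/-!
# Geometric points of finite schemes

Lifts of a geometric point with algebraically closed field along a finite morphism: they exist
over every point of the fibre and are finite in number.
-/

set_option autoImplicit false
universe u
set_option linter.unusedSectionVars false

open CategoryTheory CategoryTheory.Limits AlgebraicGeometry

namespace Groth.Agent.Sga4B.GeomPts

variable {Y V : Scheme.{u}} {Ω : Type u} [Field Ω] [IsAlgClosed Ω] (g : Y ⟶ V) [IsFinite g]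
  (s : Spec (CommRingCat.of Ω) ⟶ V)

theorem isClosed_singleton_pullback (z : ↥(pullback g s)) : IsClosed ({z} : Set ↥(pullback g s)) := by
  have h1 := (pullback.snd g s).isDiscrete_preimage_singleton default
  have h2 : (pullback.snd g s) ⁻¹' {default} = Set.univ := by
    ext w
    simp only [Set.mem_preimage, Set.mem_singleton_iff, Set.mem_univ, iff_true]
    exact Subsingleton.elim _ _
  rw [h2] at h1
  have h3 : DiscreteTopology ↥(pullback g s) := isDiscrete_univ_iff.1 h1
  exact isClosed_discrete _

theorem exists_lift_geom (y : Y) (h : g y = s default) :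
    ∃ ζ : Spec (CommRingCat.of Ω) ⟶ Y, ζ ≫ g = s ∧ ζ default = y := by
  obtain ⟨z, hz1, hz2⟩ := Scheme.Pullback.exists_preimage_pullback (f := g) (g := s) y default h
  refine ⟨pointOfClosedPoint (pullback.snd g s) z (isClosed_singleton_pullback g s z) ≫
    pullback.fst g s, ?_, ?_⟩
  · rw [Category.assoc, pullback.condition, pointOfClosedPoint_comp_assoc]
  · rw [Scheme.Hom.comp_apply, pointOfClosedPoint_apply, hz1]

theorem finite_lifts : Finite {ζ : Spec (CommRingCat.of Ω) ⟶ Y // ζ ≫ g = s} := by
  have hfin : Finite ↥(pullback g s) := by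
    have h1 : ((pullback.snd g s) ⁻¹' {default}).Finite :=
      (pullback.snd g s).finite_preimage_singleton default
    have h2 : (pullback.snd g s) ⁻¹' {default} = Set.univ := by
      ext w
      simp only [Set.mem_preimage, Set.mem_singleton_iff, Set.mem_univ, iff_true]
      exact Subsingleton.elim _ _
    rw [h2] at h1
    exact Set.finite_univ_iff.1 h1
  have hfin2 : Finite {p : Spec (CommRingCat.of Ω) ⟶ pullback g s // p ≫ pullback.snd g s = 𝟙 _} :=
    Finite.of_injective _ (pointEquivClosedPoint (pullback.snd g s)).injective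
  refine Finite.of_injective
    (fun ζ : {ζ : Spec (CommRingCat.of Ω) ⟶ Y // ζ ≫ g = s} =>
      (⟨pullback.lift ζ.1 (𝟙 _) (by rw [ζ.2, Category.id_comp]), pullback.lift_snd _ _ _⟩ :
        {p : Spec (CommRingCat.of Ω) ⟶ pullback g s // p ≫ pullback.snd g s = 𝟙 _})) ?_
  intro ζ ζ' h
  apply Subtype.ext
  have := congrArg (fun p => p.1 ≫ pullback.fst g s) h
  exact (pullback.lift_fst _ _ _).symm.trans (this.trans (pullback.lift_fst _ _ _))

end Groth.Agent.Sga4B.GeomPts
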