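import Groth.Agent.Sga4B.TraceMap
import Groth.Agent.Sga4B.GeomPts

/-!
# Local splitting of sections of `f_* f⁻¹ F` for `f` finite
-/

set_option autoImplicit false
universe u
set_option linter.unusedSectionVars false

open CategoryTheory CategoryTheory.Limits AlgebraicGeometry Opposite

namespace Groth.Agent.Sga4B.LocSplit

open EtUnit UnitInj ClopenRank TraceRel TraceMap GeomPts

/-- étale covers of `Y` are refined, locally on `V`, by pullbacks of étale covers of `V` -/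
def Refine {Y V : Scheme.{u}} (g : Y ⟶ V) : Prop :=
  ∀ (v : V) (W : Scheme.{u}) (w : W ⟶ Y) [AlgebraicGeometry.Etale w],
    (∀ y : Y, g y = v → y ∈ Set.range w) →
    ∃ (V' : Scheme.{u}) (h : V' ⟶ V) (_ : AlgebraicGeometry.Etale h) (v' : V'), h v' = v ∧
      ∃ l : pullback g h ⟶ W, l ≫ w = pullback.fst g h

variable {X S : Scheme.{u}} (f : X ⟶ S) [EtCoh.BCCont f]

/-- the point of `X ×_S V` given by a point of `X` and a point of `V` -/
noncomputable def mkPt {Ω : Type u} [Field Ω] [IsSepClosed Ω] (ξ : Spec (CommRingCat.of Ω) ⟶ X)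
    (V : S.Etale) (s : Spec (CommRingCat.of Ω) ⟶ V.left) (e : s ≫ V.hom = ξ ≫ f) :
    (Scheme.pointSmallEtale ξ).fiber.obj ((EtCoh.bc f).obj V) :=
  Over.homMk (pullback.lift s ξ e) (pullback.lift_snd _ _ _)

theorem mkPt_left_pr {Ω : Type u} [Field Ω] [IsSepClosed Ω] (ξ : Spec (CommRingCat.of Ω) ⟶ X)
    (V : S.Etale) (s : Spec (CommRingCat.of Ω) ⟶ V.left) (e : s ≫ V.hom = ξ ≫ f) :
    (mkPt f ξ V s e).left ≫ pr f V = s := pullback.lift_fst _ _ _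

theorem mkPt_left_hom {Ω : Type u} [Field Ω] [IsSepClosed Ω] (ξ : Spec (CommRingCat.of Ω) ⟶ X)
    (V : S.Etale) (s : Spec (CommRingCat.of Ω) ⟶ V.left) (e : s ≫ V.hom = ξ ≫ f) :
    (mkPt f ξ V s e).left ≫ ((EtCoh.bc f).obj V).hom = ξ := pullback.lift_snd _ _ _

theorem pt_ext {Ω : Type u} [Field Ω] [IsSepClosed Ω] {ξ : Spec (CommRingCat.of Ω) ⟶ X}
    {V : S.Etale} {x y : (Scheme.pointSmallEtale ξ).fiber.obj ((EtCoh.bc f).obj V)}
    (h : x.left ≫ pr f V = y.left ≫ pr f V) : x = y := by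
  apply Over.OverMorphism.ext
  apply pullback.hom_ext
  · exact h
  · exact (Over.w x).trans (Over.w y).symm

theorem map_mkPt {Ω : Type u} [Field Ω] [IsSepClosed Ω] (ξ : Spec (CommRingCat.of Ω) ⟶ X)
    {V V' : S.Etale} (g : V' ⟶ V) (s : Spec (CommRingCat.of Ω) ⟶ V'.left)
    (e : s ≫ V'.hom = ξ ≫ f) (s' : Spec (CommRingCat.of Ω) ⟶ V.left) (h : s ≫ g.left = s')
    (e' : s' ≫ V.hom = ξ ≫ f) :
    (Scheme.pointSmallEtale ξ).fiber.map ((EtCoh.bc f).map g) (mkPt f ξ V' s e) =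
      mkPt f ξ V s' e' := by
  apply pt_ext
  rw [mkPt_left_pr]
  calc ((mkPt f ξ V' s e).left ≫ ((EtCoh.bc f).map g).left) ≫ pr f V
      = (mkPt f ξ V' s e).left ≫ (((EtCoh.bc f).map g).left ≫ pr f V) := Category.assoc _ _ _
    _ = (mkPt f ξ V' s e).left ≫ (pr f V' ≫ g.left) := congrArg _ (map_left_pr f g)
    _ = ((mkPt f ξ V' s e).left ≫ pr f V') ≫ g.left := (Category.assoc _ _ _).symm
    _ = s ≫ g.left := congrArg (· ≫ g.left) (mkPt_left_pr f ξ V' s e)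
    _ = s' := h

/-- every point is an `mkPt` -/
theorem exists_mkPt {Ω : Type u} [Field Ω] [IsSepClosed Ω] {ξ : Spec (CommRingCat.of Ω) ⟶ X}
    {V : S.Etale} (x : (Scheme.pointSmallEtale ξ).fiber.obj ((EtCoh.bc f).obj V)) :
    ∃ (s : Spec (CommRingCat.of Ω) ⟶ V.left) (e : s ≫ V.hom = ξ ≫ f), x = mkPt f ξ V s e := by
  have e : (x.left ≫ pr f V) ≫ V.hom = ξ ≫ f := by
    have h1 : x.left ≫ ((EtCoh.bc f).obj V).hom = ξ := Over.w x
    have h2 : pr f V ≫ V.hom = ((EtCoh.bc f).obj V).hom ≫ f := (isPullback_pr f V).w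
    rw [Category.assoc]
    calc x.left ≫ pr f V ≫ V.hom = x.left ≫ ((EtCoh.bc f).obj V).hom ≫ f := congrArg _ h2
      _ = (x.left ≫ ((EtCoh.bc f).obj V).hom) ≫ f := (Category.assoc _ _ _).symm
      _ = ξ ≫ f := congrArg (· ≫ f) h1
  refine ⟨x.left ≫ pr f V, e, pt_ext f ?_⟩
  exact (mkPt_left_pr f ξ V _ e).symm

/-- the index of the component of a coproduct -/
noncomputable def compIdx {ι : Type u} (Z : ι → Scheme.{u}) (y : ↥(∐ Z)) : ι :=
  ((sigmaMk Z).symm y).1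

theorem isLocallyConstant_compIdx {ι : Type u} (Z : ι → Scheme.{u}) :
    IsLocallyConstant (compIdx Z) := by
  have h1 : IsLocallyConstant (fun x : (Σ i, Z i) => x.1) := by
    intro s
    rw [isOpen_sigma_iff]
    intro i
    by_cases hi : i ∈ s
    · convert isOpen_univ
      ext z
      simp [hi]
    · convert isOpen_empty
      ext z
      simp [hi]
  exact h1.comp_continuous (sigmaMk Z).symm.continuous

theorem mem_range_of_compIdx {ι : Type u} (Z : ι → Scheme.{u}) (y : ↥(∐ Z)) :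
    y ∈ Set.range (Sigma.ι Z (compIdx Z y)) := by
  obtain ⟨⟨i, z⟩, rfl⟩ := (sigmaMk Z).surjective y
  have h : compIdx Z ((sigmaMk Z) ⟨i, z⟩) = i := by
    rw [compIdx, Homeomorph.symm_apply_apply]
  rw [h]
  exact ⟨z, (sigmaMk_mk Z i z).symm⟩

variable [IsFinite f]

theorem locSplit (hR : ∀ V : S.Etale, Refine (pr f V)) : LocSplit f := by
  intro F V t v
  let Ω := AlgebraicClosure (V.left.residueField v)
  let vb : Spec (CommRingCat.of Ω) ⟶ V.left := geomPt V.left v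
  let η : Spec (CommRingCat.of Ω) ⟶ S := vb ≫ V.hom
  let I : Type u := {ξ : Spec (CommRingCat.of Ω) ⟶ X // ξ ≫ f = η}
  have : Finite I := finite_lifts f η
  -- germs
  have h1 : ∀ ξ : I, ∃ (V₀ : S.Etale) (s : Spec (CommRingCat.of Ω) ⟶ V₀.left)
      (e : s ≫ V₀.hom = ξ.1 ≫ f) (m : EtCoh.sect F V₀),
      germ ξ.1 ((EtCoh.pull f).obj F) ((EtCoh.bc f).obj V₀) (mkPt f ξ.1 V₀ s e) (usec f F V₀ m) =
      germ ξ.1 ((EtCoh.pull f).obj F) ((EtCoh.bc f).obj V) (mkPt f ξ.1 V vb ξ.2.symm) t := by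
    intro ξ
    obtain ⟨V₀, x, m, hm⟩ := exists_usec_germ f ξ.1 F
      (germ ξ.1 ((EtCoh.pull f).obj F) ((EtCoh.bc f).obj V) (mkPt f ξ.1 V vb ξ.2.symm) t)
    obtain ⟨s, e, rfl⟩ := exists_mkPt f x
    exact ⟨V₀, s, e, m, hm⟩
  choose V₀ s₀ e₀ m₀ hm₀ using h1
  -- common refinement
  classical
  have := Fintype.ofFinite I
  let Ψ := Scheme.pointSmallEtale η
  obtain ⟨E, hE⟩ := IsCofiltered.inf_objs_exists
    (insert (Ψ.fiber.elementsMk V (Over.homMk vb rfl : Over.mk η ⟶ (Scheme.Etale.forget S).obj V))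
      (Finset.univ.image (fun ξ : I => Ψ.fiber.elementsMk (V₀ ξ) (Over.homMk (s₀ ξ)
        ((e₀ ξ).trans ξ.2) : Over.mk η ⟶ (Scheme.Etale.forget S).obj (V₀ ξ)))))
  obtain ⟨V₁, p₁⟩ := E
  let s₁ : Spec (CommRingCat.of Ω) ⟶ V₁.left := p₁.left
  have e₁ : s₁ ≫ V₁.hom = η := Over.w p₁
  obtain ⟨g, hg⟩ : ∃ g : V₁ ⟶ V, s₁ ≫ g.left = vb := by
    obtain ⟨g, hg⟩ := (hE (Finset.mem_insert_self _ _)).some
    exact ⟨g, congrArg (fun a : Over.mk η ⟶ (Scheme.Etale.forget S).obj V => a.left) hg⟩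
  have h2 : ∀ ξ : I, ∃ g : V₁ ⟶ V₀ ξ, s₁ ≫ g.left = s₀ ξ := by
    intro ξ
    obtain ⟨g, hg⟩ := (hE (Finset.mem_insert_of_mem (Finset.mem_image_of_mem _
      (Finset.mem_univ ξ)))).some
    exact ⟨g, congrArg (fun a : Over.mk η ⟶ (Scheme.Etale.forget S).obj (V₀ ξ) => a.left) hg⟩
  choose g₀ hg₀ using h2
  let t₁ := ((EtCoh.pull f).obj F).obj.map ((EtCoh.bc f).map g).op t
  let m₁ : I → EtCoh.sect F V₁ := fun ξ => F.obj.map (g₀ ξ).op (m₀ ξ)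
  have h3 : ∀ ξ : I, germ ξ.1 ((EtCoh.pull f).obj F) ((EtCoh.bc f).obj V₁)
      (mkPt f ξ.1 V₁ s₁ (e₁.trans ξ.2.symm)) (usec f F V₁ (m₁ ξ)) =
      germ ξ.1 ((EtCoh.pull f).obj F) ((EtCoh.bc f).obj V₁)
      (mkPt f ξ.1 V₁ s₁ (e₁.trans ξ.2.symm)) t₁ := by
    intro ξ
    rw [← usec_map, germ_map, germ_map, map_mkPt f ξ.1 (g₀ ξ) s₁ _ (s₀ ξ) (hg₀ ξ) (e₀ ξ),
      map_mkPt f ξ.1 g s₁ _ vb hg ξ.2.symm, hm₀]
  simp only [germ_eq_iff] at h3
  choose W₁ k₁ w₁ hw₁ hk₁ using h3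
  let Z : I → Scheme.{u} := fun ξ => (W₁ ξ).left
  let w : (∐ Z) ⟶ ((EtCoh.bc f).obj V₁).left := Sigma.desc (fun ξ => (k₁ ξ).left)
  have hw : AlgebraicGeometry.Etale w :=
    IsZariskiLocalAtSource.sigmaDesc (P := @AlgebraicGeometry.Etale)
      (fun ξ => (inferInstance : AlgebraicGeometry.Etale (k₁ ξ).left))
  have hw' : ∀ ξ, Sigma.ι Z ξ ≫ w = (k₁ ξ).left := fun ξ => Sigma.ι_desc _ _
  have hcov : ∀ y : ((EtCoh.bc f).obj V₁).left, pr f V₁ y = s₁ default → y ∈ Set.range w := by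
    intro y hy
    obtain ⟨ζ, hζ, hζy⟩ := exists_lift_geom (pr f V₁) s₁ y hy
    let ξ' : Spec (CommRingCat.of Ω) ⟶ X := ζ ≫ ((EtCoh.bc f).obj V₁).hom
    have hξ' : ξ' ≫ f = η := by
      have h2 : pr f V₁ ≫ V₁.hom = ((EtCoh.bc f).obj V₁).hom ≫ f := (isPullback_pr f V₁).w
      calc (ζ ≫ ((EtCoh.bc f).obj V₁).hom) ≫ f = ζ ≫ (((EtCoh.bc f).obj V₁).hom ≫ f) :=
            Category.assoc _ _ _
        _ = ζ ≫ (pr f V₁ ≫ V₁.hom) := congrArg _ h2.symm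
        _ = (ζ ≫ pr f V₁) ≫ V₁.hom := (Category.assoc _ _ _).symm
        _ = s₁ ≫ V₁.hom := congrArg (· ≫ V₁.hom) hζ
        _ = η := e₁
    let ξ : I := ⟨ξ', hξ'⟩
    have e2 : (mkPt f ξ.1 V₁ s₁ (e₁.trans ξ.2.symm)).left = ζ := by
      apply pullback.hom_ext
      · exact (mkPt_left_pr f ξ.1 V₁ s₁ (e₁.trans ξ.2.symm)).trans hζ.symm
      · exact mkPt_left_hom f ξ.1 V₁ s₁ (e₁.trans ξ.2.symm)
    have e3 : (w₁ ξ).left ≫ (k₁ ξ).left = ζ := by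
      rw [← e2]
      exact congrArg (fun a : Over.mk ξ.1 ⟶ (Scheme.Etale.forget X).obj ((EtCoh.bc f).obj V₁) =>
        a.left) (hw₁ ξ)
    let z : Z ξ := (w₁ ξ).left (default : Spec (CommRingCat.of Ω))
    refine ⟨Sigma.ι Z ξ z, ?_⟩
    have e4 : w (Sigma.ι Z ξ z) = (k₁ ξ).left z := by
      rw [← Scheme.Hom.comp_apply, hw']
    rw [e4, ← hζy, ← e3]
    rfl
  obtain ⟨V', h, hh, v', hv', l, hl⟩ := hR V₁ (s₁ default) (∐ Z) w hcov
  have hV₁ : AlgebraicGeometry.Etale V₁.hom := V₁.prop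
  let V₂ : S.Etale := MorphismProperty.Over.mk ⊤ (h ≫ V₁.hom)
    (inferInstanceAs (AlgebraicGeometry.Etale (h ≫ V₁.hom)))
  let g₂ : V₂ ⟶ V₁ := MorphismProperty.Over.homMk h rfl
  have sq : IsPullback ((EtCoh.bc f).map g₂).left (pr f V₂) (pr f V₁) h := isPullback_map f g₂
  let l' : ((EtCoh.bc f).obj V₂).left ⟶ ∐ Z := sq.isoPullback.hom ≫ l
  have hl' : l' ≫ w = ((EtCoh.bc f).map g₂).left := by
    calc (sq.isoPullback.hom ≫ l) ≫ w = sq.isoPullback.hom ≫ (l ≫ w) := Category.assoc _ _ _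
      _ = sq.isoPullback.hom ≫ pullback.fst (pr f V₁) h := congrArg _ hl
      _ = ((EtCoh.bc f).map g₂).left := sq.isoPullback_hom_fst
  have hgv : g.left (h v') = v := by
    rw [hv']
    have : (s₁ ≫ g.left) default = v := by
      rw [hg]
      exact geomPt_apply _ _ _
    exact this
  refine ⟨V₂, g₂ ≫ g, v', hgv, I, inferInstance, fun y => compIdx Z (l' y),
    (isLocallyConstant_compIdx Z).comp_continuous l'.continuous,
    fun ξ => F.obj.map g₂.op (m₁ ξ), ?_⟩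
  intro ξ U k hk
  have hrange : Set.range (k.left ≫ l') ⊆ Set.range (Sigma.ι Z ξ) := by
    rintro _ ⟨u, rfl⟩
    have h5 := mem_range_of_compIdx Z (l' (k.left u))
    have hk' : compIdx Z (l' (k.left u)) = ξ := hk u
    rw [hk'] at h5
    exact h5
  let a : U.left ⟶ (W₁ ξ).left := IsOpenImmersion.lift (Sigma.ι Z ξ) (k.left ≫ l') hrange
  have ha : a ≫ Sigma.ι Z ξ = k.left ≫ l' := IsOpenImmersion.lift_fac _ _ _
  have ha2 : a ≫ (k₁ ξ).left = k.left ≫ ((EtCoh.bc f).map g₂).left := by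
    calc a ≫ (k₁ ξ).left = a ≫ (Sigma.ι Z ξ ≫ w) := congrArg _ (hw' ξ).symm
      _ = (a ≫ Sigma.ι Z ξ) ≫ w := (Category.assoc _ _ _).symm
      _ = (k.left ≫ l') ≫ w := congrArg (· ≫ w) ha
      _ = k.left ≫ (l' ≫ w) := Category.assoc _ _ _
      _ = _ := congrArg _ hl'
  have ha3 : a ≫ (W₁ ξ).hom = U.hom := by
    have h6 : (k₁ ξ).left ≫ ((EtCoh.bc f).obj V₁).hom = (W₁ ξ).hom := Over.w (k₁ ξ).hom
    have h7 : ((EtCoh.bc f).map g₂).left ≫ ((EtCoh.bc f).obj V₁).hom =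
      ((EtCoh.bc f).obj V₂).hom := Over.w ((EtCoh.bc f).map g₂).hom
    have h8 : k.left ≫ ((EtCoh.bc f).obj V₂).hom = U.hom := Over.w k.hom
    calc a ≫ (W₁ ξ).hom = a ≫ ((k₁ ξ).left ≫ ((EtCoh.bc f).obj V₁).hom) := congrArg _ h6.symm
      _ = (a ≫ (k₁ ξ).left) ≫ ((EtCoh.bc f).obj V₁).hom := (Category.assoc _ _ _).symm
      _ = (k.left ≫ ((EtCoh.bc f).map g₂).left) ≫ ((EtCoh.bc f).obj V₁).hom :=
        congrArg (· ≫ _) ha2
      _ = k.left ≫ (((EtCoh.bc f).map g₂).left ≫ ((EtCoh.bc f).obj V₁).hom) :=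
        Category.assoc _ _ _
      _ = k.left ≫ ((EtCoh.bc f).obj V₂).hom := congrArg _ h7
      _ = U.hom := h8
  let a' : U ⟶ W₁ ξ := MorphismProperty.Over.homMk a ha3
  have ha' : a' ≫ k₁ ξ = k ≫ (EtCoh.bc f).map g₂ := by
    apply MorphismProperty.Over.Hom.ext
    exact ha2
  have e5 : ∀ s : EtCoh.sect ((EtCoh.pull f).obj F) ((EtCoh.bc f).obj V₁),
      ((EtCoh.pull f).obj F).obj.map k.op
        (((EtCoh.pull f).obj F).obj.map ((EtCoh.bc f).map g₂).op s) =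
      ((EtCoh.pull f).obj F).obj.map a'.op (((EtCoh.pull f).obj F).obj.map (k₁ ξ).op s) := by
    intro s
    rw [map_map_apply, map_map_apply, ha']
  have e6 : ((EtCoh.pull f).obj F).obj.map ((EtCoh.bc f).map (g₂ ≫ g)).op t =
      ((EtCoh.pull f).obj F).obj.map ((EtCoh.bc f).map g₂).op t₁ := by
    rw [Functor.map_comp, ← map_map_apply]
  rw [e6, ← usec_map, e5, e5]
  exact congrArg _ (hk₁ ξ).symm

end Groth.Agent.Sga4B.LocSplit
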