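import Groth.Agent.Sga4A.EtSplitG
import Groth.Agent.Sga4B.LocSplit
import Mathlib.AlgebraicGeometry.Morphisms.Integral
import Mathlib.AlgebraicGeometry.Fiber
import Mathlib.AlgebraicGeometry.Morphisms.UniversallyOpen
import Mathlib.AlgebraicGeometry.Morphisms.Etale

/-!
# Étale neighbourhoods splitting étale covers of integral morphisms
-/

set_option autoImplicit false
universe u
set_option linter.unusedSectionVars false

open CategoryTheory CategoryTheory.Limits AlgebraicGeometry Opposite TensorProduct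

namespace Groth.Agent.Sga4B.RefineInt

open LocSplit

/-- pointwise version of `Refine` -/
def RefineAt {Y V : Scheme.{u}} (g : Y ⟶ V) (v : V) : Prop :=
  ∀ (W : Scheme.{u}) (w : W ⟶ Y) [AlgebraicGeometry.Etale w],
    (∀ y : Y, g y = v → y ∈ Set.range w) →
    ∃ (V' : Scheme.{u}) (h : V' ⟶ V) (_ : AlgebraicGeometry.Etale h) (v' : V'), h v' = v ∧
      ∃ l : pullback g h ⟶ W, l ≫ w = pullback.fst g h

theorem refine_iff {Y V : Scheme.{u}} (g : Y ⟶ V) : Refine g ↔ ∀ v, RefineAt g v := Iff.rfl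

theorem RefineAt.precomp_iso {Y Y' V : Scheme.{u}} (e : Y' ⟶ Y) [IsIso e] (g : Y ⟶ V) (v : V)
    (hg : RefineAt g v) : RefineAt (e ≫ g) v := by
  intro W w _ hw
  obtain ⟨V', h, hh, v', hv', l, hl⟩ := hg W (w ≫ e) (by
    intro y hy
    obtain ⟨z, hz⟩ := hw (inv e y) (by
      rw [← Scheme.Hom.comp_apply, IsIso.inv_hom_id_assoc, hy])
    refine ⟨z, ?_⟩
    rw [Scheme.Hom.comp_apply, hz, ← Scheme.Hom.comp_apply, IsIso.inv_hom_id]
    rfl)
  refine ⟨V', h, hh, v', hv', pullback.lift (pullback.fst _ _ ≫ e) (pullback.snd _ _)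
    (by rw [Category.assoc]; exact pullback.condition) ≫ l, ?_⟩
  rw [← cancel_mono e, Category.assoc, Category.assoc, hl, pullback.lift_fst]

theorem RefineAt.of_openImmersion {Y V V₁ : Scheme.{u}} (g : Y ⟶ V) (i : V₁ ⟶ V)
    [IsOpenImmersion i] (v₁ : V₁) (hg : RefineAt (pullback.snd g i) v₁) : RefineAt g (i v₁) := by
  intro W w _ hw
  obtain ⟨V', h, hh, v', hv', l, hl⟩ := hg (pullback w (pullback.fst g i))
    (pullback.snd w (pullback.fst g i)) (by
      intro y hy
      obtain ⟨z, hz⟩ := hw (pullback.fst g i y) (by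
        rw [← Scheme.Hom.comp_apply, pullback.condition, Scheme.Hom.comp_apply, hy])
      obtain ⟨t, ht1, ht2⟩ := Scheme.Pullback.exists_preimage_pullback z y hz
      exact ⟨t, ht2⟩)
  have : AlgebraicGeometry.Etale i := inferInstance
  refine ⟨V', h ≫ i, inferInstance, v', ?_, ?_⟩
  · rw [Scheme.Hom.comp_apply, hv']
  · let a : pullback g (h ≫ i) ⟶ pullback (pullback.snd g i) h :=
      pullback.lift (pullback.lift (pullback.fst _ _) (pullback.snd _ _ ≫ h)
        (by rw [Category.assoc]; exact pullback.condition)) (pullback.snd _ _)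
        (pullback.lift_snd _ _ _)
    refine ⟨a ≫ l ≫ pullback.fst _ _, ?_⟩
    calc (a ≫ l ≫ pullback.fst w (pullback.fst g i)) ≫ w
        = a ≫ l ≫ pullback.fst w (pullback.fst g i) ≫ w := by simp only [Category.assoc]
      _ = a ≫ l ≫ pullback.snd w (pullback.fst g i) ≫ pullback.fst g i := by
          rw [pullback.condition]
      _ = a ≫ (l ≫ pullback.snd w (pullback.fst g i)) ≫ pullback.fst g i := by
          simp only [Category.assoc]
      _ = a ≫ pullback.fst _ _ ≫ pullback.fst g i := by rw [hl]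
      _ = (a ≫ pullback.fst _ _) ≫ pullback.fst g i := by simp only [Category.assoc]
      _ = pullback.fst g (h ≫ i) := by
          rw [pullback.lift_fst, pullback.lift_fst]

theorem refineAt_Spec {R S : CommRingCat.{u}} (φ : R ⟶ S) (hφ : φ.hom.IsIntegral)
    (v : Spec R) : RefineAt (Spec.map φ) v := by
  intro W w _ hw
  letI := φ.hom.toAlgebra
  have hint : Algebra.IsIntegral R S := ⟨hφ⟩
  -- affine opens of `W` covering the fibre
  have hc : IsCompact (Spec.map φ ⁻¹' {v}) := by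
    have : IsIntegralHom (Spec.map φ) := by
      rw [IsIntegralHom.SpecMap_iff]
      exact hφ
    exact (Spec.map φ).isCompact_preimage_singleton v
  have hw1 : ∀ y : (Spec.map φ ⁻¹' {v} : Set (Spec S)), ∃ O : W.Opens, IsAffineOpen O ∧
      y.1 ∈ w '' O := by
    intro y
    obtain ⟨x, hx⟩ := hw y.1 y.2
    obtain ⟨O, hO, hxO, -⟩ := exists_isAffineOpen_mem_and_subset (x := x) (U := ⊤) trivial
    exact ⟨O, hO, x, hxO, hx⟩
  choose O hO hy using hw1
  obtain ⟨s, hs⟩ := hc.elim_finite_subcover (fun y => (w '' (O y : Set W)))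
    (fun y => w.isOpenMap _ (O y).2) (fun y hy' => Set.mem_iUnion.2 ⟨⟨y, hy'⟩, hy ⟨y, hy'⟩⟩)
  let Z : s → Scheme.{u} := fun y => (O y.1).toScheme
  have hZ : ∀ y, IsAffine (Z y) := fun y => hO y.1
  let a : (∐ Z) ⟶ W := Sigma.desc (fun y => (O y.1).ι)
  have ha : AlgebraicGeometry.Etale a :=
    IsZariskiLocalAtSource.sigmaDesc (P := @AlgebraicGeometry.Etale)
      (fun y => (inferInstance : AlgebraicGeometry.Etale (O y.1).ι))
  have ha' : ∀ y, Sigma.ι Z y ≫ a = (O y.1).ι := fun y => Sigma.ι_desc _ _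
  have hIA : IsAffine (∐ Z) := inferInstance
  let T : CommRingCat.{u} := Γ(∐ Z, ⊤)
  let e : (∐ Z) ≅ Spec T := (∐ Z).isoSpec
  obtain ⟨τ, hτ⟩ := Spec.map_surjective (e.inv ≫ a ≫ w)
  have hτe : AlgebraicGeometry.Etale (Spec.map τ) := by
    rw [hτ]
    infer_instance
  letI := τ.hom.toAlgebra
  have hST : Algebra.Etale S T := by
    rw [HasRingHomProperty.Spec_iff (P := @AlgebraicGeometry.Etale)] at hτe
    exact hτe
  let Ω := AlgebraicClosure v.asIdeal.ResidueField
  let ψ : R →+* Ω := (algebraMap v.asIdeal.ResidueField Ω).comp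
    (algebraMap R v.asIdeal.ResidueField)
  have hψ : RingHom.ker ψ = v.asIdeal := by
    rw [← RingHom.comap_ker, (RingHom.injective_iff_ker_eq_bot _).1
      (algebraMap v.asIdeal.ResidueField Ω).injective, ← RingHom.ker_eq_comap_bot,
      Ideal.ker_algebraMap_residueField]
  have hΩ : IsSepClosed Ω := inferInstance
  obtain ⟨N, σ, hσ⟩ := Groth.Agent.Sga4A.EtSplit.exists_nbhd_section (S := S) (T := T) ψ (by
    intro Q hQ
    rw [hψ] at hQ
    have hQ' : Q ∈ (Spec.map φ ⁻¹' {v} : Set (Spec S)) := PrimeSpectrum.ext hQ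
    obtain ⟨y, hy1, x, hx, hxQ⟩ : ∃ y, y ∈ s ∧ Q ∈ w '' (O y) := by
      obtain ⟨y, hy, h⟩ := Set.mem_iUnion₂.1 (hs hQ')
      exact ⟨y, hy, h⟩
    refine ⟨e.hom (Sigma.ι Z ⟨y, hy1⟩ ⟨x, hx⟩), ?_⟩
    change Spec.map τ (e.hom (Sigma.ι Z ⟨y, hy1⟩ ⟨x, hx⟩)) = Q
    rw [hτ, ← Scheme.Hom.comp_apply, ← Scheme.Hom.comp_apply, Iso.hom_inv_id_assoc]
    have h1 : (Sigma.ι Z ⟨y, hy1⟩ ≫ a ≫ w) = (O y).ι ≫ w := by
      rw [← Category.assoc, ha']
    rw [h1, Scheme.Hom.comp_apply]
    exact hxQ)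
  let h : Spec (CommRingCat.of N.carrier) ⟶ Spec R := Spec.map (CommRingCat.ofHom (algebraMap R N.carrier))
  have hh : AlgebraicGeometry.Etale h := by
    rw [HasRingHomProperty.Spec_iff (P := @AlgebraicGeometry.Etale)]
    exact RingHom.etale_algebraMap.2 N.etale
  refine ⟨_, h, hh, ⟨RingHom.ker N.map, RingHom.ker_isPrime _⟩, ?_, ?_⟩
  · apply PrimeSpectrum.ext
    change (RingHom.ker N.map).comap (algebraMap R N.carrier) = v.asIdeal
    rw [RingHom.comap_ker, N.comp_algebraMap, hψ]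
  · have sq := isPullback_SpecMap_of_isPushout _ _ _ _
      (CommRingCat.isPushout_tensorProduct R N.carrier S)
    let b : pullback (Spec.map φ) h ⟶ Spec (CommRingCat.of (N.carrier ⊗[R] S)) :=
      sq.lift (pullback.snd _ _) (pullback.fst _ _) pullback.condition.symm
    refine ⟨b ≫ Spec.map (CommRingCat.ofHom σ) ≫ e.inv ≫ a, ?_⟩
    have h1 : Spec.map (CommRingCat.ofHom σ) ≫ Spec.map τ =
      Spec.map (CommRingCat.ofHom (S := N.carrier ⊗[R] S)
        Algebra.TensorProduct.includeRight.toRingHom) := by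
      rw [← Spec.map_comp]
      congr 1
      apply CommRingCat.hom_ext
      exact hσ
    calc (b ≫ Spec.map (CommRingCat.ofHom σ) ≫ e.inv ≫ a) ≫ w
        = b ≫ Spec.map (CommRingCat.ofHom σ) ≫ (e.inv ≫ a ≫ w) := by simp only [Category.assoc]
      _ = b ≫ Spec.map (CommRingCat.ofHom σ) ≫ Spec.map τ := by rw [hτ]
      _ = pullback.fst _ _ := by
        rw [h1]
        exact sq.lift_snd _ _ _

theorem refine_of_isIntegralHom {Y V : Scheme.{u}} (g : Y ⟶ V) [IsIntegralHom g] : Refine g := by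
  intro v
  obtain ⟨U, hU, hv, -⟩ := exists_isAffineOpen_mem_and_subset (x := v) (U := ⊤) trivial
  have hv' : v ∈ Set.range hU.fromSpec := by
    rw [hU.range_fromSpec]
    exact hv
  obtain ⟨v₁, rfl⟩ := hv'
  apply RefineAt.of_openImmersion
  have hint : IsIntegralHom (pullback.snd g hU.fromSpec) := inferInstance
  have hA : IsAffine (pullback g hU.fromSpec) := isAffine_of_isAffineHom (pullback.snd g hU.fromSpec)
  let e := (pullback g hU.fromSpec).isoSpec
  obtain ⟨φ, hφ⟩ := Spec.map_surjective (e.inv ≫ pullback.snd g hU.fromSpec)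
  have h1 : pullback.snd g hU.fromSpec = e.hom ≫ Spec.map φ := by
    rw [hφ, Iso.hom_inv_id_assoc]
  rw [h1]
  apply RefineAt.precomp_iso
  apply refineAt_Spec
  have : IsIntegralHom (Spec.map φ) := by
    rw [hφ]
    infer_instance
  rwa [IsIntegralHom.SpecMap_iff] at this

end Groth.Agent.Sga4B.RefineInt
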