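import Groth.Agent.CurvesA.MuConst
import Mathlib.RingTheory.Henselian
import Mathlib.RingTheory.Polynomial.Cyclotomic.Roots

/-!
# `μ_n` is constant over a ring containing a root of the `n`-th cyclotomic polynomial

* `nonempty_iso_const_mu`: `A` a ring, `n` invertible in `A`, `ζ : A` a root of the `n`-th cyclotomic
  polynomial, `X` a scheme over `Spec A`: `const X (ZMod n) ≅ mu X n`.
* `exists_isRoot_cyclotomic`: such a `ζ` exists if `A` is strictly henselian local.
* `nonempty_iso_const_mu_of_strictlyHenselian`.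
-/

set_option autoImplicit false

universe u

open CategoryTheory CategoryTheory.Limits AlgebraicGeometry Opposite

namespace Groth.Agent.Sga4B.MuConstLocal

open Groth.Agent.CurvesA.MuConst

/-- a unit with `u ^ n = 1` on a scheme over a ring containing an everywhere primitive `n`-th root of unity `ζ`
(`n` invertible) is locally a power of `ζ`. -/
theorem exists_open_eq_pow (A : Type u) [CommRing A] (n : ℕ) (hn0 : n ≠ 0) (hn : IsUnit (n : A)) (ζ : A)
    (hζu : IsUnit ζ) (hζ1 : ζ ^ n = 1)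
    (hζ : ∀ (L : Type u) [Field L] (φ : A →+* L), IsPrimitiveRoot (φ ζ) n)
    (Y : Scheme.{u}) (f : A →+* Γ(Y, ⊤)) (a : Γ(Y, ⊤)) (ha : a ^ n = 1) (y : Y) :
    ∃ (V : Y.Opens) (k : ℕ), y ∈ V ∧ Y.presheaf.map (homOfLE (le_top (a := V))).op a =
      Y.presheaf.map (homOfLE (le_top (a := V))).op (f (ζ ^ k)) := by
  let g : Γ(Y, ⊤) →+* Y.presheaf.stalk y := (Y.presheaf.germ ⊤ y trivial).hom
  let r : Y.presheaf.stalk y →+* Y.residueField y := (Y.residue y).hom
  let F : A →+* Y.residueField y := r.comp (g.comp f)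
  have hF : IsPrimitiveRoot (F ζ) n := hζ (Y.residueField y) F
  have h1 : (r (g a)) ^ n = 1 := by rw [← map_pow, ← map_pow, ha, map_one, map_one]
  have : NeZero n := ⟨hn0⟩
  obtain ⟨k, -, hk⟩ := hF.eq_pow_of_pow_eq_one h1
  have hζu' : IsUnit (g (f (ζ ^ k))) := by
    have : IsUnit (ζ ^ k) := hζu.pow k
    exact (this.map f).map g
  obtain ⟨c, hc⟩ := hζu'
  -- w = a / ζ^k
  have hw : ((c⁻¹ : (Y.presheaf.stalk y)ˣ) * g a) ^ n = 1 := by
    rw [mul_pow, ← map_pow, ha, map_one, mul_one, ← Units.val_pow_eq_pow_val, inv_pow]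
    have : c ^ n = 1 := by
      ext
      rw [Units.val_pow_eq_pow_val, hc, ← map_pow, ← map_pow, ← pow_mul, mul_comm k n, pow_mul, hζ1]
      simp
    rw [this]
    simp
  set w := ((c⁻¹ : (Y.presheaf.stalk y)ˣ) * g a) with hwdef
  have hrw : r w = 1 := by
    rw [hwdef, map_mul]
    have h2 : r (g a) = r c := by
      rw [← hk, hc]
      change (r (g (f ζ))) ^ k = _
      rw [← map_pow, ← map_pow, ← map_pow]
    rw [h2, ← map_mul]
    simp
  have hgeom : (w - 1) * (∑ i ∈ Finset.range n, w ^ i) = 0 := by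
    rw [mul_comm, geom_sum_mul, hw, sub_self]
  have hunit : IsUnit (∑ i ∈ Finset.range n, w ^ i) := by
    have h3 : r (∑ i ∈ Finset.range n, w ^ i) ≠ 0 := by
      rw [map_sum]
      simp only [map_pow, hrw, one_pow, Finset.sum_const, Finset.card_range, nsmul_eq_mul, mul_one]
      have : ((n : ℕ) : Y.residueField y) = F (n : A) := by simp
      rw [this]
      exact (hn.map F).ne_zero
    by_contra hcon
    exact h3 ((IsLocalRing.residue_eq_zero_iff _).2 ((IsLocalRing.mem_maximalIdeal _).2 hcon))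
  have hw1 : w = 1 := by
    have := (hunit.mul_left_eq_zero).1 hgeom
    exact sub_eq_zero.1 this
  have hga : g a = g (f (ζ ^ k)) := by
    have : (c : Y.presheaf.stalk y) * w = c := by rw [hw1, mul_one]
    rw [← hc, ← this, hwdef]
    simp
  obtain ⟨V, hyV, i1, i2, h⟩ := TopCat.Presheaf.germ_eq (U := ⊤) (V := ⊤) Y.presheaf y trivial trivial
    a (f (ζ ^ k)) hga
  exact ⟨V, k, hyV, h⟩

section

variable {X : Scheme.{u}} (A : Type u) [CommRing A] (f : X ⟶ Spec (CommRingCat.of A))

/-- structure map of an étale `X`-scheme, `X` over `Spec A`. -/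
noncomputable def str (U : X.Etale) : A →+* Γ(U.left, ⊤) :=
  ((U.hom ≫ f).appTop.hom).comp (Scheme.ΓSpecIso (CommRingCat.of A)).inv.hom

theorem str_map {U V : X.Etale} (g : V ⟶ U) (a : A) :
    g.left.appTop.hom (str A f U a) = str A f V a := by
  have h : g.left ≫ U.hom = V.hom := MorphismProperty.Over.w g
  change (((U.hom ≫ f).appTop ≫ g.left.appTop).hom ((Scheme.ΓSpecIso (CommRingCat.of A)).inv.hom a)) = _
  rw [← Scheme.Hom.comp_appTop, ← Category.assoc, h]
  rfl

variable (n : ℕ) (hn : IsUnit (n : A)) (ζ : A) (hζ : (Polynomial.cyclotomic n A).IsRoot ζ)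

include f hn hζ in
theorem nonempty_iso_const_mu [Nontrivial A] : Nonempty (EtCoh.const X (ZMod n) ≅ EtCoh.mu X n) := by
  have hn0 : n ≠ 0 := by
    rintro rfl
    simp at hn
  have : NeZero n := ⟨hn0⟩
  have hprim : ∀ (L : Type u) [Field L] (φ : A →+* L), IsPrimitiveRoot (φ ζ) n := by
    intro L _ φ
    have : NeZero (n : L) := ⟨by
      have h1 := hn.map φ
      rw [map_natCast] at h1
      exact h1.ne_zero⟩
    rw [← Polynomial.isRoot_cyclotomic_iff, ← Polynomial.map_cyclotomic n φ]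
    exact hζ.map
  have hζ1 : ζ ^ n = 1 := by
    have h1 : (Polynomial.X ^ n - 1 : Polynomial A).IsRoot ζ :=
      hζ.dvd (Polynomial.cyclotomic.dvd_X_pow_sub_one n A)
    simpa [Polynomial.IsRoot.def, sub_eq_zero] using h1
  have hζu : IsUnit ζ := IsUnit.of_pow_eq_one hζ1 hn0
  -- the section ζ
  let z : Aˣ := hζu.unit
  have hz : (z : A) = ζ := rfl
  let s : EtCoh.sect (EtCoh.Gm X) (EtCoh.top X) := ofUnit (Units.map (str A f (EtCoh.top X)).toMonoidHom z)
  have hs : n • s = 0 := by
    apply unitOf_injective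
    rw [unitOf_nsmul, unitOf_ofUnit, unitOf_zero, ← map_pow]
    have : z ^ n = 1 := by
      ext
      rw [Units.val_pow_eq_pow_val, hz, hζ1, Units.val_one]
    rw [this, map_one]
  obtain ⟨t, ht⟩ := exists_muι_eq n _ s hs
  have hnt : n • t = 0 := nsmul_mu n _ t
  let φ : ZMod n →+ EtCoh.sect (EtCoh.mu X n) (EtCoh.top X) :=
    ZMod.lift n ⟨zmultiplesHom _ t, by simpa using hnt⟩
  have hφ : ∀ k : ℕ, φ (k : ZMod n) = k • t := by
    intro k
    have := ZMod.lift_coe n (⟨zmultiplesHom _ t, by simpa using hnt⟩ : {f : ℤ →+ EtCoh.sect (EtCoh.mu X n) (EtCoh.top X) // f n = 0}) (k : ℤ)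
    simpa using this
  have hval : ∀ (U : X.Etale) (k : ℕ), ((unitOf ((EtCoh.muι X n).hom.app (op U)
      ((EtCoh.mu X n).obj.map (toTop U).op (φ (k : ZMod n)))) : (Γ(U.left, ⊤))ˣ) : Γ(U.left, ⊤)) =
        str A f U (ζ ^ k) := by
    intro U k
    have h1 : (EtCoh.muι X n).hom.app (op U) ((EtCoh.mu X n).obj.map (toTop U).op (φ (k : ZMod n))) =
        (EtCoh.Gm X).obj.map (toTop U).op ((EtCoh.muι X n).hom.app (op (EtCoh.top X)) (φ (k : ZMod n))) :=
      NatTrans.naturality_apply (EtCoh.muι X n).hom (toTop U).op _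
    rw [h1, unitOf_map, hφ, map_nsmul, ht, unitOf_nsmul, unitOf_ofUnit, Units.val_pow_eq_pow_val, map_pow,
      map_pow]
    congr 1
    exact str_map A f (toTop U) ζ
  refine nonempty_iso_const (EtCoh.mu X n) (ZMod n) φ ?_ ?_
  · intro U hU m hm
    obtain ⟨k, rfl⟩ : ∃ k : ℕ, (k : ZMod n) = m := ⟨m.val, ZMod.natCast_zmod_val m⟩
    have h1 := hval U k
    rw [hm, map_zero, unitOf_zero, Units.val_one] at h1
    obtain ⟨x⟩ := hU
    let F : A →+* U.left.residueField x :=
      ((U.left.presheaf.germ ⊤ x trivial) ≫ U.left.residue x).hom.comp (str A f U)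
    have h2 : (F ζ) ^ k = 1 := by
      have h3 := congrArg ((U.left.presheaf.germ ⊤ x trivial) ≫ U.left.residue x).hom h1
      rw [map_one, map_pow, map_pow] at h3
      exact h3.symm
    rw [ZMod.natCast_eq_zero_iff]
    exact ((hprim _ F).pow_eq_one_iff_dvd k).1 h2
  · intro U t' x
    set a := unitOf ((EtCoh.muι X n).hom.app (op U) t') with ha
    have han : ((a : (Γ(U.left, ⊤))ˣ) : Γ(U.left, ⊤)) ^ n = 1 := by
      rw [← Units.val_pow_eq_pow_val, ha, ← unitOf_nsmul, ← map_nsmul, nsmul_mu, map_zero, unitOf_zero,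
        Units.val_one]
    obtain ⟨V, k, hxV, hk⟩ := exists_open_eq_pow A n hn0 hn ζ hζu hζ1 hprim U.left (str A f U) a han x
    refine ⟨openSub U V, openSubι U V, ⟨x, hxV⟩, (k : ZMod n), rfl, ?_⟩
    apply muι_app_injective
    apply unitOf_injective
    ext
    rw [hval]
    have h1 : (EtCoh.muι X n).hom.app (op (openSub U V)) ((EtCoh.mu X n).obj.map (openSubι U V).op t') =
        (EtCoh.Gm X).obj.map (openSubι U V).op ((EtCoh.muι X n).hom.app (op U) t') :=
      NatTrans.naturality_apply (EtCoh.muι X n).hom (openSubι U V).op _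
    rw [h1, unitOf_map, ← str_map A f (openSubι U V)]
    have h2 : (V.ι.appTop).hom (a : Γ(U.left, ⊤)) = (V.ι.appTop).hom (str A f U (ζ ^ k)) := by
      have h3 : V.ι.appTop = U.left.presheaf.map (homOfLE (le_top (a := V))).op ≫
          U.left.presheaf.map (homOfLE (by simp : V.ι ''ᵁ ⊤ ≤ V)).op := by
        rw [← Functor.map_comp]
        rfl
      rw [h3]
      exact congrArg (U.left.presheaf.map (homOfLE (by simp : V.ι ''ᵁ ⊤ ≤ V)).op).hom hk
    exact h2

end

/-- Over a strictly henselian local ring in which `n` is invertible the `n`-th cyclotomic polynomial has a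
root. -/
theorem exists_isRoot_cyclotomic (A : Type u) [CommRing A] [HenselianLocalRing A]
    [IsSepClosed (IsLocalRing.ResidueField A)] (n : ℕ) (hn : IsUnit (n : A)) :
    ∃ ζ : A, (Polynomial.cyclotomic n A).IsRoot ζ := by
  have hnk : ((n : ℕ) : IsLocalRing.ResidueField A) ≠ 0 := by
    have h1 := hn.map (IsLocalRing.residue A)
    rw [map_natCast] at h1
    exact h1.ne_zero
  have : NeZero ((n : ℕ) : IsLocalRing.ResidueField A) := ⟨hnk⟩
  obtain ⟨ζ₀, hζ₀⟩ := HasEnoughRootsOfUnity.exists_primitiveRoot (IsLocalRing.ResidueField A) n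
  have hroot : (Polynomial.cyclotomic n (IsLocalRing.ResidueField A)).IsRoot ζ₀ :=
    Polynomial.isRoot_cyclotomic_iff.2 hζ₀
  have hsep : (Polynomial.cyclotomic n (IsLocalRing.ResidueField A)).Separable :=
    Polynomial.separable_cyclotomic n _
  obtain ⟨a₀, ha₀⟩ := IsLocalRing.residue_surjective ζ₀
  have hT : HenselianLocalRing A := inferInstance
  have h := ((HenselianLocalRing.TFAE A).out 0 1).1 hT
  obtain ⟨ζ, hζ, -⟩ := h (Polynomial.cyclotomic n A) (Polynomial.cyclotomic.monic n A) ζ₀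
    (by
      rw [Polynomial.aeval_def, IsLocalRing.ResidueField.algebraMap_eq, ← Polynomial.eval_map,
        Polynomial.map_cyclotomic]
      exact hroot)
    (by
      rw [Polynomial.aeval_def, IsLocalRing.ResidueField.algebraMap_eq, ← Polynomial.eval_map,
        ← Polynomial.derivative_map, Polynomial.map_cyclotomic]
      exact hsep.eval₂_derivative_ne_zero (RingHom.id _) (by simpa [Polynomial.IsRoot.def] using hroot))
  exact ⟨ζ, hζ⟩

theorem nonempty_iso_const_mu_of_strictlyHenselian {X : Scheme.{u}} (A : Type u) [CommRing A]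
    (hA : EtCoh.IsStrictlyHenselianLocalRing A) (f : X ⟶ Spec (CommRingCat.of A)) (n : ℕ)
    (hn : IsUnit (n : A)) : Nonempty (EtCoh.const X (ZMod n) ≅ EtCoh.mu X n) := by
  obtain ⟨_, hs⟩ := hA
  obtain ⟨ζ, hζ⟩ := exists_isRoot_cyclotomic A n hn
  exact nonempty_iso_const_mu A f n hn ζ hζ

end Groth.Agent.Sga4B.MuConstLocal
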