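import Groth.Prelude.Def_Hensel
import Groth.Prelude.Def_Hens2
import Groth.Prelude.Def_EtBase
import Groth.Agent.Hensel.Exist

/-!
# Strict henselizations: small tools

* `isStrictHenselization_of_isHenselization`: a henselization with separably closed residue field is a strict
  henselization.
* `isStrictHenselization_of_ringEquiv`: change of the base ring along an isomorphism.
-/

set_option autoImplicit false

universe u

open CategoryTheory CategoryTheory.Limits AlgebraicGeometry Opposite

namespace Groth.Agent.Sga4B.StrictHensTools

open IsLocalRing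

theorem isStrictHenselization_of_isHenselization (R S : Type u) [CommRing R] [IsLocalRing R] [CommRing S]
    [IsLocalRing S] [Algebra R S] [IsLocalHom (algebraMap R S)] [Hensel.IsHenselization R S]
    [IsSepClosed (ResidueField S)] : Hensel.IsStrictHenselization R S := by
  have hbij : Function.Bijective (ResidueField.map (algebraMap R S)) :=
    Groth.Agent.Hensel.Exist.residueField_bijective_of_isHenselization R S
  refine ⟨Hensel.IsHenselization.henselian R, ?_, ?_⟩
  · refine ⟨inferInstance, ?_⟩
    constructor
    intro x
    obtain ⟨y, rfl⟩ := hbij.2 x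
    exact isSeparable_algebraMap y
  · intro T _ _ f _ τ hτ
    obtain ⟨g, hg, hu⟩ := Hensel.IsHenselization.universal (R := R) (S := S) T f inferInstance
    refine ⟨g, ⟨hg, ?_⟩, fun g' hg' => hu g' hg'.1⟩
    -- `g` maps the maximal ideal into the maximal ideal
    have hloc : (maximalIdeal S).map g ≤ maximalIdeal T := by
      rw [← Groth.Agent.Hensel.Exist.map_maximalIdeal_of_isHenselization R S, Ideal.map_map, hg]
      exact ((IsLocalRing.local_hom_TFAE f).out 0 2).1 ‹IsLocalHom f›
    intro x
    obtain ⟨y, hy⟩ := hbij.2 (residue S x)
    obtain ⟨r, rfl⟩ := residue_surjective y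
    rw [← hy]
    have h1 : τ ((ResidueField.map (algebraMap R S)) (residue R r)) = ResidueField.map f (residue R r) :=
      congrArg (fun φ => φ (residue R r)) hτ
    rw [h1, ResidueField.map_residue]
    rw [ResidueField.map_residue, ← sub_eq_zero, ← map_sub, residue_eq_zero_iff] at hy
    have h2 : g (algebraMap R S r - x) ∈ maximalIdeal T := hloc (Ideal.mem_map_of_mem g hy)
    rw [map_sub, ← residue_eq_zero_iff, map_sub, sub_eq_zero] at h2
    rw [← h2, ← hg]
    rfl

theorem isHenselization_of_ringEquiv (R R' S : Type u) [CommRing R] [IsLocalRing R] [CommRing R']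
    [IsLocalRing R'] [CommRing S] [IsLocalRing S] [Algebra R S] [IsLocalHom (algebraMap R S)]
    [Algebra R' S] [IsLocalHom (algebraMap R' S)] (e : R' ≃+* R)
    (he : ∀ r, algebraMap R' S r = algebraMap R S (e r)) [Hensel.IsHenselization R S] :
    Hensel.IsHenselization R' S := by
  have he' : algebraMap R' S = (algebraMap R S).comp e.toRingHom := RingHom.ext he
  have hs : algebraMap R S = (algebraMap R' S).comp e.symm.toRingHom := by
    rw [he']; ext r; simp
  refine ⟨Hensel.IsHenselization.henselian R, ?_⟩
  intro T _ _ f hf
  have hf' : IsLocalHom (f.comp e.symm.toRingHom) := by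
    have : IsLocalHom e.symm.toRingHom := ⟨fun a ha => by
      have h := ha.map e
      simpa using h⟩
    exact RingHom.isLocalHom_comp _ _
  obtain ⟨g, hg, hu⟩ := Hensel.IsHenselization.universal (R := R) (S := S) T (f.comp e.symm.toRingHom) hf'
  refine ⟨g, ?_, fun g' hg' => hu g' ?_⟩
  · change g.comp (algebraMap R' S) = f
    rw [he', ← RingHom.comp_assoc, hg]
    ext r; simp
  · change g'.comp (algebraMap R S) = f.comp e.symm.toRingHom
    rw [hs, ← RingHom.comp_assoc]
    exact congrArg (fun h => RingHom.comp h e.symm.toRingHom) hg'

end Groth.Agent.Sga4B.StrictHensTools
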