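import Groth.Agent.S0620
import Groth.Agent.Sga4B.StrictHensTools
import Groth.Agent.Sga4B.FLCConn
import Groth.Agent.Etbase.StalkPull
import Groth.Agent.Etbase.OverStalk
import Groth.Agent.Etcore.OpenClosed
import Groth.Agent.EtpbcA.OverSite2
import Groth.Agent.Etrest.IsoInv
import Groth.Prelude.Def_EtCore

/-!
# Stalks of higher direct images on affine schemes

* `nonempty_stalk_iso_of_restr`: sheaves that are isomorphic etale locally have isomorphic stalks.
* `nonempty_H_const_equiv`: cohomology of constant sheaves is invariant under isomorphisms of schemes.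
* `nonempty_stalk_Rpush_away`: stalk of `R^n j_* (const)`, `j : D(t) → Spec R₀`, at a prime `P`, in terms of the
  henselization of `(R₀)_P` (if its residue field is separably closed).
* `nonempty_stalk_push_pull_const`: stalk of `i_* i^* const` at a geometric point through the closed subscheme.
-/

set_option autoImplicit false

universe u

open CategoryTheory CategoryTheory.Limits AlgebraicGeometry Opposite

namespace Groth.Agent.Sga4B.StalkLocal

open Groth.Agent.Etbase.StalkPull

/-- Sheaves that are isomorphic etale locally have isomorphic stalks. -/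
theorem nonempty_stalk_iso_of_restr {X : Scheme.{u}} {F G : EtCoh.Ab X} {ι : Type u} (V : ι → X.Etale)
    (hV : EtCoh.Covers V) (h : ∀ a, Nonempty (EtCoh.restr F (V a) ≅ EtCoh.restr G (V a)))
    {Ω : Type u} [Field Ω] [IsSepClosed Ω] (ξ : Spec (CommRingCat.of Ω) ⟶ X) :
    Nonempty ((EtCoh.stalk ξ).obj F ≅ (EtCoh.stalk ξ).obj G) := by
  obtain ⟨a, v, hv⟩ := hV (ξ default)
  obtain ⟨l, hl, -⟩ := Scheme.exists_fac_of_etale_of_isSepClosed (V a).hom ξ v hv
  obtain ⟨e⟩ := h a
  let e' : (EtCoh.pull (EtpbcA.OverSite.str (V a))).obj F ≅ (EtCoh.pull (EtpbcA.OverSite.str (V a))).obj G :=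
    (EtpbcA.OverSite.transport (V a)).preimageIso
      ((EtpbcA.OverSite.pullTransportIso (V a)).app F ≪≫ e ≪≫
        ((EtpbcA.OverSite.pullTransportIso (V a)).app G).symm)
  have hl' : l ≫ EtpbcA.OverSite.str (V a) = ξ := hl
  subst hl'
  exact ⟨(stalkPullIso (EtpbcA.OverSite.str (V a)) l).app F ≪≫ (EtCoh.stalk l).mapIso e' ≪≫
    ((stalkPullIso (EtpbcA.OverSite.str (V a)) l).app G).symm⟩

/-- Cohomology of constant sheaves is invariant under isomorphisms of schemes. -/
theorem nonempty_H_const_equiv {A B : Scheme.{u}} (f : A ⟶ B) [IsIso f] (M : Type) [AddCommGroup M] (n : ℕ) :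
    Nonempty (EtCoh.H B (EtCoh.const B M) n ≃+ EtCoh.H A (EtCoh.const A M) n) :=
  ⟨(Etrest.IsoInv.HIso f (EtCoh.const B M) n).trans (Etrest.IsoInv.HCongr (EtCore.pullConst f M) n)⟩

/-- The stalk of a constant sheaf. -/
theorem nonempty_stalk_const {X : Scheme.{u}} (M : Type) [AddCommGroup M] {Ω : Type u} [Field Ω]
    [IsSepClosed Ω] (ξ : Spec (CommRingCat.of Ω) ⟶ X) :
    Nonempty ((EtCoh.stalk ξ).obj (EtCoh.const X M) ≃+ M) :=
  ⟨(Groth.Agent.Etbase.OverStalk.sheafFiberConstantSheafIso
    (Scheme.pointSmallEtale ξ) (AddCommGrpCat.of (ULift.{u + 1} M))).addCommGroupIsoToAddEquiv.trans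
      AddEquiv.ulift⟩

/-- The stalk of `i_* i^* const` at a geometric point of the closed subscheme. -/
theorem nonempty_stalk_push_pull_const {X Y : Scheme.{u}} (i : Y ⟶ X) [IsClosedImmersion i]
    (M : Type) [AddCommGroup M] {Ω : Type u} [Field Ω] [IsSepClosed Ω]
    (ξ : Spec (CommRingCat.of Ω) ⟶ X) (h : ξ default ∈ Set.range i) :
    Nonempty ((EtCoh.stalk ξ).obj ((EtCoh.push i).obj ((EtCoh.pull i).obj (EtCoh.const X M))) ≃+ M) := by
  have := Etcore.OpenClosed.isIso_stalk_unit i ξ h (EtCoh.const X M)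
  obtain ⟨e⟩ := nonempty_stalk_const M ξ
  exact ⟨(asIso ((EtCoh.stalk ξ).map ((EtCoh.pullPushAdj i).unit.app
    (EtCoh.const X M)))).symm.addCommGroupIsoToAddEquiv.trans e⟩

section Affine

variable (R₀ : Type u) [CommRing R₀] (P : Ideal R₀) [hP : P.IsPrime]

/-- the point of the spectrum. -/
abbrev pnt : PrimeSpectrum R₀ := ⟨P, hP⟩

/-- The stalk of the structure sheaf is the localization. -/
theorem exists_stalkEquiv :
    ∃ e : (Spec (CommRingCat.of R₀)).presheaf.stalk (pnt R₀ P) ≃+* Localization.AtPrime P,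
      e.toRingHom.comp (StructureSheaf.toStalk R₀ (pnt R₀ P)).hom = algebraMap R₀ (Localization.AtPrime P) := by
  let a : Algebra R₀ ((Spec (CommRingCat.of R₀)).presheaf.stalk (pnt R₀ P)) :=
    (StructureSheaf.toStalk R₀ (pnt R₀ P)).hom.toAlgebra
  have h : IsLocalization.AtPrime ((Spec (CommRingCat.of R₀)).presheaf.stalk (pnt R₀ P)) P :=
    StructureSheaf.IsLocalization.to_stalk R₀ (pnt R₀ P)
  let e := IsLocalization.algEquiv P.primeCompl ((Spec (CommRingCat.of R₀)).presheaf.stalk (pnt R₀ P))
    (Localization.AtPrime P)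
  refine ⟨e.toRingEquiv, ?_⟩
  ext r
  exact e.commutes r

variable (B : Type u) [CommRing B] [IsLocalRing B] [Algebra (Localization.AtPrime P) B]
  [IsLocalHom (algebraMap (Localization.AtPrime P) B)] [Hensel.IsHenselization (Localization.AtPrime P) B]
  [IsSepClosed (IsLocalRing.ResidueField B)]

/-- The composite `R₀ → (R₀)_P → B`. -/
abbrev toB : R₀ →+* B := (algebraMap (Localization.AtPrime P) B).comp (algebraMap R₀ (Localization.AtPrime P))

/-- S0620 on an affine scheme at a prime with separably closed residue field. -/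
theorem nonempty_stalk_Rpush {U : Scheme.{u}} (j : U ⟶ Spec (CommRingCat.of R₀)) [QuasiCompact j]
    [QuasiSeparated j] (F : EtCoh.Ab U) (n : ℕ) :
    Nonempty ((EtCoh.stalk (Spec.map (CommRingCat.ofHom (IsLocalRing.residue B)) ≫
        Spec.map (CommRingCat.ofHom (toB R₀ P B)))).obj ((EtCoh.Rpush j n).obj F) ≃+
      EtCoh.H (pullback j (Spec.map (CommRingCat.ofHom (toB R₀ P B))))
        ((EtCoh.pull (pullback.fst j (Spec.map (CommRingCat.ofHom (toB R₀ P B))))).obj F) n) := by
  obtain ⟨e, he⟩ := exists_stalkEquiv R₀ P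
  let a : Algebra ((Spec (CommRingCat.of R₀)).presheaf.stalk (pnt R₀ P)) B :=
    ((algebraMap (Localization.AtPrime P) B).comp e.toRingHom).toAlgebra
  have hloc : IsLocalHom (algebraMap ((Spec (CommRingCat.of R₀)).presheaf.stalk (pnt R₀ P)) B) := by
    have : IsLocalHom e.toRingHom := ⟨fun a ha => by
      have h := ha.map e.symm
      simpa using h⟩
    exact RingHom.isLocalHom_comp _ _
  have h1 : Hensel.IsHenselization ((Spec (CommRingCat.of R₀)).presheaf.stalk (pnt R₀ P)) B :=
    StrictHensTools.isHenselization_of_ringEquiv (Localization.AtPrime P) _ B e (fun r => rfl)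
  have h2 := StrictHensTools.isStrictHenselization_of_isHenselization
    ((Spec (CommRingCat.of R₀)).presheaf.stalk (pnt R₀ P)) B
  obtain ⟨E⟩ := S0620.result j F (pnt R₀ P) B n
  have h3 : Hens2.specOf (Spec (CommRingCat.of R₀)) (pnt R₀ P) B =
      Spec.map (CommRingCat.ofHom (toB R₀ P B)) := by
    rw [Hens2.specOf, Spec.fromSpecStalk_eq']
    refine (Spec.map_comp _ _).symm.trans ?_
    congr 1
    ext r
    exact congrArg (algebraMap (Localization.AtPrime P) B) (congrArg (fun φ => φ r) he)
  rw [Hens2.geomPt, h3] at E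
  exact ⟨E.addCommGroupIsoToAddEquiv⟩

/-- The fibre product of `D(t) → Spec R₀` with `Spec B → Spec R₀` is `Spec B[1/t]`. -/
theorem exists_isoPullback (t : R₀) :
    Nonempty (Spec (CommRingCat.of (Localization.Away (toB R₀ P B t))) ≅
      pullback (Spec.map (CommRingCat.ofHom (algebraMap R₀ (Localization.Away t))))
        (Spec.map (CommRingCat.ofHom (toB R₀ P B)))) := by
  let fm : Localization.Away t →+* Localization.Away (toB R₀ P B t) :=
    IsLocalization.Away.map _ _ (toB R₀ P B) t
  have hfm : fm.comp (algebraMap R₀ (Localization.Away t)) =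
      (algebraMap B (Localization.Away (toB R₀ P B t))).comp (toB R₀ P B) :=
    IsLocalization.map_comp _
  have hloc : IsLocalization ((Submonoid.powers t).map (toB R₀ P B)) (Localization.Away (toB R₀ P B t)) := by
    rw [Submonoid.map_powers]
    infer_instance
  have h := CommRingCat.isPushout_of_isLocalization (toB R₀ P B) fm hfm (Submonoid.powers t)
  have h2 := (isPullback_SpecMap_of_isPushout _ _ _ _ h).flip
  exact ⟨h2.isoPullback⟩

/-- The stalk of `R^n j_* (const)` at `P`, `j : D(t) → Spec R₀`. -/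
theorem nonempty_stalk_Rpush_away (t : R₀) (M : Type) [AddCommGroup M] (n : ℕ) :
    Nonempty ((EtCoh.stalk (Spec.map (CommRingCat.ofHom (IsLocalRing.residue B)) ≫
        Spec.map (CommRingCat.ofHom (toB R₀ P B)))).obj
        ((EtCoh.Rpush (Spec.map (CommRingCat.ofHom (algebraMap R₀ (Localization.Away t)))) n).obj
          ((EtCoh.pull (Spec.map (CommRingCat.ofHom (algebraMap R₀ (Localization.Away t))))).obj
            (EtCoh.const _ M))) ≃+
      EtCoh.H (Spec (CommRingCat.of (Localization.Away (toB R₀ P B t)))) (EtCoh.const _ M) n) := by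
  set j := Spec.map (CommRingCat.ofHom (algebraMap R₀ (Localization.Away t))) with hj
  obtain ⟨e1⟩ := nonempty_stalk_Rpush R₀ P B j ((EtCoh.pull j).obj (EtCoh.const _ M)) n
  obtain ⟨i⟩ := exists_isoPullback R₀ P B t
  rw [← hj] at i
  obtain ⟨e3⟩ := nonempty_H_const_equiv i.hom M n
  let c : (EtCoh.pull (pullback.fst j (Spec.map (CommRingCat.ofHom (toB R₀ P B))))).obj
      ((EtCoh.pull j).obj (EtCoh.const _ M)) ≅ EtCoh.const _ M :=
    (EtCoh.pull _).mapIso (EtCore.pullConst j M) ≪≫ EtCore.pullConst _ M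
  exact ⟨(e1.trans (Etrest.IsoInv.HCongr c n)).trans e3⟩

end Affine

end Groth.Agent.Sga4B.StalkLocal
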