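import Groth.Agent.Sga4B.TwoRow
import Groth.Agent.S0101
import Groth.Agent.S0476
import Groth.Prelude.Def_EtCore

/-!
# Etale cohomology: edge maps of the Leray spectral sequence of `f : X ⟶ Y` and the two-row sequence

* `highH f m n i : H^n(X, G) ⟶ H^i(Y, R^m f_* G)` (`i + m = n`, `R^q f_* G = 0` for `q > m`),
* `lowH f m n i : H^i(Y, R^m f_* G) ⟶ H^n(X, G)` (`i + m = n`, `R^q f_* G = 0` for `q < m`),
natural in `G`; `exact_lowH_highH`; `highH_bijective`; `lowH_bijective`; `subsingleton_H`.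
-/

set_option autoImplicit false
set_option linter.auxLemma false
universe u
open CategoryTheory CategoryTheory.Limits CategoryTheory.Abelian AlgebraicGeometry Opposite
open Groth.Agent.Etrest

namespace Groth.Agent.Sga4B.TwoRowEt

attribute [local instance 10000] EtCoh.H._proof_1 EtCoh.Rpush._proof_2
theorem he (X : Scheme.{u}) : HasExt.{u + 1} (EtCoh.Ab X) := EtCoh.H._proof_4 X
attribute [local instance 10000] he
theorem hinj (X : Scheme.{u}) : EnoughInjectives (EtCoh.Ab X) := inferInstance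
attribute [local instance 10000] hinj

theorem hPullAdd {X Y : Scheme.{u}} (f : X ⟶ Y) : (EtCoh.pull f).Additive := inferInstance
theorem hPullPFC {X Y : Scheme.{u}} (f : X ⟶ Y) : PreservesFiniteColimits (EtCoh.pull f) := inferInstance
theorem hPullPFL {X Y : Scheme.{u}} (f : X ⟶ Y) : PreservesFiniteLimits (EtCoh.pull f) :=
  Groth.Agent.S0101.result f
attribute [local instance 10000] hPullAdd hPullPFL hPullPFC

theorem hasKInj (X : Scheme.{u}) : RDer3.HasKInj (EtCoh.Ab X) where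
  out K := by
    obtain ⟨I, f, hI, hf, -, -⟩ := Groth.Agent.S0476.result K
    exact ⟨I, f, hI, hf⟩
attribute [local instance 10000] hasKInj

/-- `H^n(X, G)` is `Ext^n(Z_X, G)`. -/
noncomputable def HE (X : Scheme.{u}) (G : EtCoh.Ab X) (n : ℕ) :
    EtCoh.H X G n ≃+ Ext.{u + 1} (EtCoh.const X ℤ) G n := AddEquiv.refl _

theorem HE_map (X : Scheme.{u}) (n : ℕ) {G G' : EtCoh.Ab X} (g : G ⟶ G') (x : EtCoh.H X G n) :
    HE X G' n (((EtCoh.HF X n).map g).hom x) = (HE X G n x).comp (Ext.mk₀ g) (add_zero n) := rfl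

variable {X Y : Scheme.{u}} (f : X ⟶ Y)

section Ext

/-- `Ext^n(Z_X, G) ≃ Ext^n(f^{-1} Z_Y, G)`. -/
noncomputable def cmp (G : EtCoh.Ab X) (n : ℕ) :
    Ext.{u + 1} (EtCoh.const X ℤ) G n ≃+ Ext.{u + 1} ((EtCoh.pull f).obj (EtCoh.const Y ℤ)) G n where
  toFun x := (Ext.mk₀ (EtCore.pullConst f ℤ).hom).comp x (zero_add n)
  invFun x := (Ext.mk₀ (EtCore.pullConst f ℤ).inv).comp x (zero_add n)
  left_inv x := by
    beta_reduce
    rw [Ext.mk₀_comp_mk₀_assoc, Iso.inv_hom_id, Ext.mk₀_id_comp]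
  right_inv x := by
    beta_reduce
    rw [Ext.mk₀_comp_mk₀_assoc, Iso.hom_inv_id, Ext.mk₀_id_comp]
  map_add' x y := Ext.comp_add _ _ _ _

theorem cmp_apply (G : EtCoh.Ab X) (n : ℕ) (x : Ext.{u + 1} (EtCoh.const X ℤ) G n) :
    cmp f G n x = (Ext.mk₀ (EtCore.pullConst f ℤ).hom).comp x (zero_add n) := rfl

theorem cmp_naturality (n : ℕ) {G G' : EtCoh.Ab X} (g : G ⟶ G') (x : Ext.{u + 1} (EtCoh.const X ℤ) G n) :
    cmp f G' n (x.comp (Ext.mk₀ g) (add_zero n)) = (cmp f G n x).comp (Ext.mk₀ g) (add_zero n) := by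
  rw [cmp_apply, cmp_apply, Ext.comp_assoc_of_third_deg_zero]

/-- `TwoRow.high` for the direct image. -/
noncomputable def high0 (m n i : ℕ) (h : i + m = n) (G : EtCoh.Ab X)
    (hG : ∀ q, m < q → IsZero ((EtCoh.Rpush f q).obj G)) :
    Ext.{u + 1} ((EtCoh.pull f).obj (EtCoh.const Y ℤ)) G n →+
      Ext.{u + 1} (EtCoh.const Y ℤ) ((EtCoh.Rpush f m).obj G) i :=
  TwoRow.high (EtCoh.pullPushAdj f) m n i h (EtCoh.const Y ℤ) G hG

/-- `TwoRow.low` for the direct image. -/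
noncomputable def low0 (m n i : ℕ) (h : i + m = n) (G : EtCoh.Ab X)
    (hG : ∀ q, q < m → IsZero ((EtCoh.Rpush f q).obj G)) :
    Ext.{u + 1} (EtCoh.const Y ℤ) ((EtCoh.Rpush f m).obj G) i →+
      Ext.{u + 1} ((EtCoh.pull f).obj (EtCoh.const Y ℤ)) G n :=
  TwoRow.low (EtCoh.pullPushAdj f) m n i h (EtCoh.const Y ℤ) G hG

theorem high0_naturality (m n i : ℕ) (h : i + m = n) {G G' : EtCoh.Ab X} (g : G ⟶ G')
    (hG : ∀ q, m < q → IsZero ((EtCoh.Rpush f q).obj G))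
    (hG' : ∀ q, m < q → IsZero ((EtCoh.Rpush f q).obj G'))
    (x : Ext.{u + 1} ((EtCoh.pull f).obj (EtCoh.const Y ℤ)) G n) :
    high0 f m n i h G' hG' (x.comp (Ext.mk₀ g) (add_zero n)) =
      (high0 f m n i h G hG x).comp (Ext.mk₀ ((EtCoh.Rpush f m).map g)) (add_zero i) :=
  TwoRow.high_naturality (EtCoh.pullPushAdj f) m n i h (EtCoh.const Y ℤ) g hG hG' x

theorem low0_naturality (m n i : ℕ) (h : i + m = n) {G G' : EtCoh.Ab X} (g : G ⟶ G')
    (hG : ∀ q, q < m → IsZero ((EtCoh.Rpush f q).obj G))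
    (hG' : ∀ q, q < m → IsZero ((EtCoh.Rpush f q).obj G'))
    (x : Ext.{u + 1} (EtCoh.const Y ℤ) ((EtCoh.Rpush f m).obj G) i) :
    low0 f m n i h G' hG' (x.comp (Ext.mk₀ ((EtCoh.Rpush f m).map g)) (add_zero i)) =
      (low0 f m n i h G hG x).comp (Ext.mk₀ g) (add_zero n) :=
  TwoRow.low_naturality (EtCoh.pullPushAdj f) m n i h (EtCoh.const Y ℤ) g hG hG' x

theorem exact0 (m m' n i i' : ℕ) (hm : m + 1 = m') (h : i + m = n) (h' : i' + m' = n)
    (G : EtCoh.Ab X) (hG : ∀ q, q < m → IsZero ((EtCoh.Rpush f q).obj G))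
    (hG' : ∀ q, m' < q → IsZero ((EtCoh.Rpush f q).obj G)) :
    Function.Exact (low0 f m n i h G hG) (high0 f m' n i' h' G hG') :=
  TwoRow.exact_low_high (EtCoh.pullPushAdj f) m m' n i i' hm h h' (EtCoh.const Y ℤ) G hG hG'

theorem high0_bijective (m n i : ℕ) (h : i + m = n) (G : EtCoh.Ab X)
    (hG : ∀ q, m < q → IsZero ((EtCoh.Rpush f q).obj G))
    (hv : ∀ q j : ℕ, q < m → (j + q = n ∨ j + q = n + 1) →
      Subsingleton (Ext.{u + 1} (EtCoh.const Y ℤ) ((EtCoh.Rpush f q).obj G) j)) :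
    Function.Bijective (high0 f m n i h G hG) :=
  TwoRow.high_bijective (EtCoh.pullPushAdj f) m n i h (EtCoh.const Y ℤ) G hG hv

theorem low0_bijective (m b n i : ℕ) (h : i + m = n) (G : EtCoh.Ab X)
    (hG : ∀ q, q < m → IsZero ((EtCoh.Rpush f q).obj G))
    (hb : ∀ q, b < q → IsZero ((EtCoh.Rpush f q).obj G))
    (hv : ∀ q j : ℕ, m < q → q ≤ b → (j + q = n ∨ j + q + 1 = n) →
      Subsingleton (Ext.{u + 1} (EtCoh.const Y ℤ) ((EtCoh.Rpush f q).obj G) j)) :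
    Function.Bijective (low0 f m n i h G hG) :=
  TwoRow.low_bijective (EtCoh.pullPushAdj f) m b n i h (EtCoh.const Y ℤ) G hG hb hv

theorem subsingleton0 (b n : ℕ) (G : EtCoh.Ab X) (hb : ∀ q, b < q → IsZero ((EtCoh.Rpush f q).obj G))
    (hv : ∀ q j : ℕ, q ≤ b → j + q = n →
      Subsingleton (Ext.{u + 1} (EtCoh.const Y ℤ) ((EtCoh.Rpush f q).obj G) j)) :
    Subsingleton (Ext.{u + 1} ((EtCoh.pull f).obj (EtCoh.const Y ℤ)) G n) :=
  TwoRow.subsingleton_of (EtCoh.pullPushAdj f) b n (EtCoh.const Y ℤ) G hb hv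

end Ext

/-- `H^n(X, G) ≃ Ext^n(f^{-1} Z_Y, G)`. -/
noncomputable def HP (G : EtCoh.Ab X) (n : ℕ) :
    EtCoh.H X G n ≃+ Ext.{u + 1} ((EtCoh.pull f).obj (EtCoh.const Y ℤ)) G n :=
  (HE X G n).trans (cmp f G n)

theorem HP_map (n : ℕ) {G G' : EtCoh.Ab X} (g : G ⟶ G') (x : EtCoh.H X G n) :
    HP f G' n (((EtCoh.HF X n).map g).hom x) = (HP f G n x).comp (Ext.mk₀ g) (add_zero n) :=
  (congrArg (cmp f G' n) (HE_map X n g x)).trans (cmp_naturality f n g _)

/-- The edge map `H^n(X, G) ⟶ H^i(Y, R^m f_* G)`, `i + m = n`, if `R^q f_* G = 0` for `q > m`. -/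
noncomputable def highH (m n i : ℕ) (h : i + m = n) (G : EtCoh.Ab X)
    (hG : ∀ q, m < q → IsZero ((EtCoh.Rpush f q).obj G)) :
    EtCoh.H X G n →+ EtCoh.H Y ((EtCoh.Rpush f m).obj G) i :=
  ((HE Y ((EtCoh.Rpush f m).obj G) i).symm.toAddMonoidHom.comp (high0 f m n i h G hG)).comp
    (HP f G n).toAddMonoidHom

/-- The edge map `H^i(Y, R^m f_* G) ⟶ H^n(X, G)`, `i + m = n`, if `R^q f_* G = 0` for `q < m`. -/
noncomputable def lowH (m n i : ℕ) (h : i + m = n) (G : EtCoh.Ab X)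
    (hG : ∀ q, q < m → IsZero ((EtCoh.Rpush f q).obj G)) :
    EtCoh.H Y ((EtCoh.Rpush f m).obj G) i →+ EtCoh.H X G n :=
  ((HP f G n).symm.toAddMonoidHom.comp (low0 f m n i h G hG)).comp
    (HE Y ((EtCoh.Rpush f m).obj G) i).toAddMonoidHom

theorem HE_highH (m n i : ℕ) (h : i + m = n) (G : EtCoh.Ab X)
    (hG : ∀ q, m < q → IsZero ((EtCoh.Rpush f q).obj G)) (x : EtCoh.H X G n) :
    HE Y ((EtCoh.Rpush f m).obj G) i (highH f m n i h G hG x) = high0 f m n i h G hG (HP f G n x) :=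
  (HE Y ((EtCoh.Rpush f m).obj G) i).apply_symm_apply _

theorem HP_lowH (m n i : ℕ) (h : i + m = n) (G : EtCoh.Ab X)
    (hG : ∀ q, q < m → IsZero ((EtCoh.Rpush f q).obj G)) (x : EtCoh.H Y ((EtCoh.Rpush f m).obj G) i) :
    HP f G n (lowH f m n i h G hG x) = low0 f m n i h G hG (HE Y ((EtCoh.Rpush f m).obj G) i x) :=
  (HP f G n).apply_symm_apply _

theorem highH_naturality (m n i : ℕ) (h : i + m = n) {G G' : EtCoh.Ab X} (g : G ⟶ G')
    (hG : ∀ q, m < q → IsZero ((EtCoh.Rpush f q).obj G))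
    (hG' : ∀ q, m < q → IsZero ((EtCoh.Rpush f q).obj G')) (x : EtCoh.H X G n) :
    highH f m n i h G' hG' (((EtCoh.HF X n).map g).hom x) =
      ((EtCoh.HF Y i).map ((EtCoh.Rpush f m).map g)).hom (highH f m n i h G hG x) := by
  apply (HE Y ((EtCoh.Rpush f m).obj G') i).injective
  exact (HE_highH f m n i h G' hG' _).trans ((congrArg (high0 f m n i h G' hG') (HP_map f n g x)).trans
    ((high0_naturality f m n i h g hG hG' _).trans
      ((congrArg (fun y => Ext.comp y (Ext.mk₀ ((EtCoh.Rpush f m).map g)) (add_zero i))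
        (HE_highH f m n i h G hG x)).symm.trans (HE_map Y i ((EtCoh.Rpush f m).map g) _).symm)))

theorem lowH_naturality (m n i : ℕ) (h : i + m = n) {G G' : EtCoh.Ab X} (g : G ⟶ G')
    (hG : ∀ q, q < m → IsZero ((EtCoh.Rpush f q).obj G))
    (hG' : ∀ q, q < m → IsZero ((EtCoh.Rpush f q).obj G')) (x : EtCoh.H Y ((EtCoh.Rpush f m).obj G) i) :
    lowH f m n i h G' hG' (((EtCoh.HF Y i).map ((EtCoh.Rpush f m).map g)).hom x) =
      ((EtCoh.HF X n).map g).hom (lowH f m n i h G hG x) := by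
  apply (HP f G' n).injective
  exact (HP_lowH f m n i h G' hG' _).trans ((congrArg (low0 f m n i h G' hG')
    (HE_map Y i ((EtCoh.Rpush f m).map g) x)).trans ((low0_naturality f m n i h g hG hG' _).trans
      ((congrArg (fun y => Ext.comp y (Ext.mk₀ g) (add_zero n)) (HP_lowH f m n i h G hG x)).symm.trans
        (HP_map f n g _).symm)))

/-- The two-row Leray sequence `H^i(Y, R^m f_* G) ⟶ H^n(X, G) ⟶ H^{i'}(Y, R^{m+1} f_* G)`
(`i + m = n = i' + m + 1`) is exact if `R^q f_* G = 0` for `q ∉ {m, m+1}`. -/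
theorem exact_lowH_highH (m m' n i i' : ℕ) (hm : m + 1 = m') (h : i + m = n) (h' : i' + m' = n)
    (G : EtCoh.Ab X) (hG : ∀ q, q < m → IsZero ((EtCoh.Rpush f q).obj G))
    (hG' : ∀ q, m' < q → IsZero ((EtCoh.Rpush f q).obj G)) :
    Function.Exact (lowH f m n i h G hG) (highH f m' n i' h' G hG') := by
  have h1 := exact0 f m m' n i i' hm h h' G hG hG'
  intro x
  constructor
  · intro hx
    have h2 : high0 f m' n i' h' G hG' (HP f G n x) = 0 :=
      (HE_highH f m' n i' h' G hG' x).symm.trans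
        ((congrArg (HE Y ((EtCoh.Rpush f m').obj G) i') hx).trans (map_zero _))
    obtain ⟨y, hy⟩ := (h1 _).1 h2
    refine ⟨(HE Y ((EtCoh.Rpush f m).obj G) i).symm y, (HP f G n).injective ?_⟩
    exact (HP_lowH f m n i h G hG _).trans ((congrArg (low0 f m n i h G hG)
      ((HE Y ((EtCoh.Rpush f m).obj G) i).apply_symm_apply y)).trans hy)
  · rintro ⟨y, rfl⟩
    apply (HE Y ((EtCoh.Rpush f m').obj G) i').injective
    exact (HE_highH f m' n i' h' G hG' _).trans ((congrArg (high0 f m' n i' h' G hG')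
      (HP_lowH f m n i h G hG y)).trans (((h1 _).2 ⟨_, rfl⟩).trans (map_zero _).symm))

/-- Top degree criterion: `highH` is bijective if `H^j(Y, R^q f_* G) = 0` for `q < m`,
`j + q ∈ {n, n+1}`. -/
theorem highH_bijective (m n i : ℕ) (h : i + m = n) (G : EtCoh.Ab X)
    (hG : ∀ q, m < q → IsZero ((EtCoh.Rpush f q).obj G))
    (hv : ∀ q j : ℕ, q < m → (j + q = n ∨ j + q = n + 1) →
      Subsingleton (EtCoh.H Y ((EtCoh.Rpush f q).obj G) j)) :
    Function.Bijective (highH f m n i h G hG) :=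
  (HE Y ((EtCoh.Rpush f m).obj G) i).symm.bijective.comp
    ((high0_bijective f m n i h G hG (fun q j h1 h2 =>
      @Equiv.subsingleton _ _ (HE Y ((EtCoh.Rpush f q).obj G) j).symm.toEquiv (hv q j h1 h2))).comp
      (HP f G n).bijective)

/-- Bottom criterion: `lowH` is bijective if `H^j(Y, R^q f_* G) = 0` for `m < q ≤ b`,
`j + q ∈ {n - 1, n}`, and `R^q f_* G = 0` for `q > b`. -/
theorem lowH_bijective (m b n i : ℕ) (h : i + m = n) (G : EtCoh.Ab X)
    (hG : ∀ q, q < m → IsZero ((EtCoh.Rpush f q).obj G))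
    (hb : ∀ q, b < q → IsZero ((EtCoh.Rpush f q).obj G))
    (hv : ∀ q j : ℕ, m < q → q ≤ b → (j + q = n ∨ j + q + 1 = n) →
      Subsingleton (EtCoh.H Y ((EtCoh.Rpush f q).obj G) j)) :
    Function.Bijective (lowH f m n i h G hG) :=
  (HP f G n).symm.bijective.comp
    ((low0_bijective f m b n i h G hG hb (fun q j h1 h2 h3 =>
      @Equiv.subsingleton _ _ (HE Y ((EtCoh.Rpush f q).obj G) j).symm.toEquiv (hv q j h1 h2 h3))).comp
      (HE Y ((EtCoh.Rpush f m).obj G) i).bijective)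

/-- `H^n(X, G) = 0` if `H^j(Y, R^q f_* G) = 0` for all `j + q = n`. -/
theorem subsingleton_H (b n : ℕ) (G : EtCoh.Ab X) (hb : ∀ q, b < q → IsZero ((EtCoh.Rpush f q).obj G))
    (hv : ∀ q j : ℕ, q ≤ b → j + q = n → Subsingleton (EtCoh.H Y ((EtCoh.Rpush f q).obj G) j)) :
    Subsingleton (EtCoh.H X G n) :=
  @Equiv.subsingleton _ _ (HP f G n).toEquiv (subsingleton0 f b n G hb (fun q j h1 h2 =>
    @Equiv.subsingleton _ _ (HE Y ((EtCoh.Rpush f q).obj G) j).symm.toEquiv (hv q j h1 h2)))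

end Groth.Agent.Sga4B.TwoRowEt
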