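import Groth.Agent.Sga4B.DualIface
import Groth.Agent.Sga4B.TwoRowEt
import Groth.Agent.Sga4B.JFComp
import Groth.Agent.Sga4B.ShriekTools
import Groth.Agent.Etbase.RepSheaf

/-!
# Module D8 of the Poincaré duality project: the induction step

`PkgA n P d` (the package of `DualShape.Pkg`, with affine good neighbourhoods) for `S` implies
`PkgA n X (d + 1)` for a relative curve `p : X ⟶ S`.
-/

set_option autoImplicit false
universe u
open CategoryTheory CategoryTheory.Limits AlgebraicGeometry Opposite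
open Groth.Agent.Sga4B.DualShape hiding IsGood StmtV StmtV3 StmtStep StmtC2
open Groth.Agent.Sga4B.DualIface

namespace Groth.Agent.Sga4B.DualStep

/-- The package, with affine good neighbourhoods. -/
structure PkgA (n : ℕ) (P : Scheme.{u}) (d : ℕ) : Prop extends Pkg n P d where
  goodA : ∀ (U : P.Etale) (x : U.left),
    ∃ (V : P.Etale) (g : V ⟶ U), IsAffine V.left ∧ x ∈ Set.range g.left ∧
      Function.Bijective (HLS n (2 * d) (toTop V))

/-! ### Preliminaries -/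

theorem killedBy_Rpush {X S : Scheme.{u}} (p : X ⟶ S) (n : ℕ) (F : EtCoh.Ab X)
    (h : EtCoh.KilledBy n F) (q : ℕ) : EtCoh.KilledBy n ((EtCoh.Rpush p q).obj F) :=
  ShriekTools.killedBy_map (EtCoh.Rpush p q) n F h

theorem additive_HF (X : Scheme.{u}) (i : ℕ) : (EtCoh.HF X i).Additive :=
  inferInstanceAs (Sheaf.functorH _ i).Additive
attribute [local instance] additive_HF

theorem subsingleton_H_of_isZero {X : Scheme.{u}} {F : EtCoh.Ab X} (h : IsZero F) (i : ℕ) :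
    Subsingleton (EtCoh.H X F i) :=
  AddCommGrpCat.subsingleton_of_isZero (Functor.map_isZero (EtCoh.HF X i) h)

/-- A morphism from an affine scheme to a separated scheme is affine. -/
theorem isAffineHom_of_isSeparated {Z S : Scheme.{u}} [IsAffine Z] [S.IsSeparated] (f : Z ⟶ S) :
    IsAffineHom f :=
  IsAffineHom.of_comp f (terminal.from S)

/-- An affine open neighbourhood as an object of the étale site. -/
theorem exists_affine_nbhd {X : Scheme.{u}} (V : X.Etale) (v : V.left) :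
    ∃ (W : X.Etale) (k : W ⟶ V) (w : W.left), IsAffine W.left ∧ k.left w = v := by
  obtain ⟨O, hO, hv, -⟩ := exists_isAffineOpen_mem_and_subset (U := (⊤ : V.left.Opens)) (x := v)
    (by trivial)
  refine ⟨Scheme.Etale.mk (O.ι ≫ V.hom), MorphismProperty.Over.homMk O.ι rfl trivial, ⟨v, hv⟩, hO,
    rfl⟩

theorem HLS_comp {X : Scheme.{u}} (n i : ℕ) {U V W : X.Etale} (g : U ⟶ V) (h : V ⟶ W) :
    HLS n i (g ≫ h) = HLS n i g ≫ HLS n i h :=
  (congrArg (EtCoh.HF X i).map ((JF X (ZMod n)).map_comp g h)).trans ((EtCoh.HF X i).map_comp _ _)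

section Step

variable {n : ℕ} {X S : Scheme.{u}} {p : X ⟶ S}

theorem isZero_R0 (hV0 : StmtV0 n p) (V : X.Etale) [IsAffine V.left] :
    ∀ q, q < 1 → IsZero ((EtCoh.Rpush p q).obj (LS n V)) := by
  intro q hq
  obtain rfl : q = 0 := by omega
  exact (hV0 V).of_iso ((EtCoh.push p).rightDerivedZeroIsoSelf.app _)

theorem R_comp (q : ℕ) {U V W : X.Etale} (g : U ⟶ V) (h : V ⟶ W) :
    (EtCoh.Rpush p q).map (LSmap n (g ≫ h)) =
      (EtCoh.Rpush p q).map (LSmap n g) ≫ (EtCoh.Rpush p q).map (LSmap n h) :=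
  (congrArg (EtCoh.Rpush p q).map ((JF X (ZMod n)).map_comp g h)).trans
    ((EtCoh.Rpush p q).map_comp _ _)

theorem HR_comp (q i : ℕ) {U V W : X.Etale} (g : U ⟶ V) (h : V ⟶ W) :
    (EtCoh.HF S i).map ((EtCoh.Rpush p q).map (LSmap n (g ≫ h))) =
      (EtCoh.HF S i).map ((EtCoh.Rpush p q).map (LSmap n g)) ≫
        (EtCoh.HF S i).map ((EtCoh.Rpush p q).map (LSmap n h)) :=
  (congrArg (EtCoh.HF S i).map (R_comp q g h)).trans ((EtCoh.HF S i).map_comp _ _)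

/-- `highH` is bijective in degree `2 (d + 1)`. -/
theorem high_bijective (d : ℕ) (hCd : StmtCd n p)
    (hcd : ∀ (F : EtCoh.Ab S), EtCoh.KilledBy n F → ∀ q : ℕ, 2 * d < q → Subsingleton (EtCoh.H S F q))
    (F : EtCoh.Ab X) (hF : EtCoh.KilledBy n F) :
    Function.Bijective (TwoRowEt.highH p 2 (2 * (d + 1)) (2 * d) (by omega) F (hCd F hF)) :=
  TwoRowEt.highH_bijective p 2 (2 * (d + 1)) (2 * d) (by omega) F (hCd F hF)
    (fun q j h1 h2 => hcd _ (killedBy_Rpush p n F hF q) j (by omega))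

theorem cd_step (d : ℕ) (hCd : StmtCd n p)
    (hcd : ∀ (F : EtCoh.Ab S), EtCoh.KilledBy n F → ∀ q : ℕ, 2 * d < q → Subsingleton (EtCoh.H S F q))
    (F : EtCoh.Ab X) (hF : EtCoh.KilledBy n F) (q : ℕ) (hq : 2 * (d + 1) < q) :
    Subsingleton (EtCoh.H X F q) :=
  TwoRowEt.subsingleton_H p 2 q F (hCd F hF)
    (fun q' j h1 h2 => hcd _ (killedBy_Rpush p n F hF q') j (by omega))

/-- The bijectivity of `H^{2d+2}(X, F) ⟶ H^{2d+2}(X, G)` from that of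
`H^{2d}(S, R²p_* F) ⟶ H^{2d}(S, R²p_* G)`. -/
theorem map_bijective (d : ℕ) (hCd : StmtCd n p)
    (hcd : ∀ (F : EtCoh.Ab S), EtCoh.KilledBy n F → ∀ q : ℕ, 2 * d < q → Subsingleton (EtCoh.H S F q))
    {F G : EtCoh.Ab X} (hF : EtCoh.KilledBy n F) (hG : EtCoh.KilledBy n G) (φ : F ⟶ G)
    (h : IsIso ((EtCoh.HF S (2 * d)).map ((EtCoh.Rpush p 2).map φ))) :
    Function.Bijective ((EtCoh.HF X (2 * (d + 1))).map φ) := by
  have b1 := high_bijective d hCd hcd F hF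
  have b2 := high_bijective d hCd hcd G hG
  have b3 : Function.Bijective ((EtCoh.HF S (2 * d)).map ((EtCoh.Rpush p 2).map φ)) :=
    ConcreteCategory.bijective_of_isIso _
  refine (Function.Bijective.of_comp_iff' b2 _).1 ?_
  have h1 : (TwoRowEt.highH p 2 (2 * (d + 1)) (2 * d) (by omega) G (hCd G hG)) ∘
      ((EtCoh.HF X (2 * (d + 1))).map φ) =
      ((EtCoh.HF S (2 * d)).map ((EtCoh.Rpush p 2).map φ)) ∘
        (TwoRowEt.highH p 2 (2 * (d + 1)) (2 * d) (by omega) F (hCd F hF)) :=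
    funext (fun x => TwoRowEt.highH_naturality p 2 (2 * (d + 1)) (2 * d) (by omega) φ (hCd F hF)
      (hCd G hG) x)
  exact h1 ▸ b3.comp b1

theorem isIso_R2 {V : X.Etale} {S' : S.Etale} [IsAffine S'.left] (b : V ⟶ (EtCoh.bc p).obj S')
    (hb : IsGood n p b) : IsIso ((EtCoh.Rpush p 2).map (LSmap n b)) :=
  hb S' (𝟙 S') V b (𝟙 V) (IsPullback.of_vert_isIso ⟨by
    rw [CategoryTheory.Functor.map_id, Category.comp_id, Category.id_comp]⟩)

theorem isIso_tau [S.IsSeparated]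
    (τ : JF S (ZMod n) ⟶ EtCoh.bc p ⋙ JF X (ZMod n) ⋙ EtCoh.Rpush p 2)
    (hτ : ∀ (S' : S.Etale) [IsSeparated S'.hom] [QuasiCompact S'.hom], IsIso (τ.app S'))
    (S' : S.Etale) [IsAffine S'.left] : IsIso (τ.app S') := by
  have h : IsAffineHom S'.hom := isAffineHom_of_isSeparated (Z := S'.left) (S := S) S'.hom
  exact hτ S'

theorem isIso_tau_top
    (τ : JF S (ZMod n) ⟶ EtCoh.bc p ⋙ JF X (ZMod n) ⋙ EtCoh.Rpush p 2)
    (hτ : ∀ (S' : S.Etale) [IsSeparated S'.hom] [QuasiCompact S'.hom], IsIso (τ.app S')) :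
    IsIso (τ.app (EtCoh.top S)) := by
  have h1 : IsSeparated (EtCoh.top S).hom := inferInstanceAs (IsSeparated (𝟙 S))
  have h2 : QuasiCompact (EtCoh.top S).hom := inferInstanceAs (QuasiCompact (𝟙 S))
  exact hτ _

theorem tau_comm (τ : JF S (ZMod n) ⟶ EtCoh.bc p ⋙ JF X (ZMod n) ⋙ EtCoh.Rpush p 2) (j : ℕ)
    {S' S'' : S.Etale} (h : S'' ⟶ S') :
    HLS n j h ≫ (EtCoh.HF S j).map (τ.app S') = (EtCoh.HF S j).map (τ.app S'') ≫
      (EtCoh.HF S j).map ((EtCoh.Rpush p 2).map (LSmap n ((EtCoh.bc p).map h))) :=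
  ((EtCoh.HF S j).map_comp _ _).symm.trans ((congrArg (EtCoh.HF S j).map (τ.naturality h)).trans
    ((EtCoh.HF S j).map_comp _ _))

theorem square_comm {V V'' : X.Etale} {S' S'' : S.Etale} (h : S'' ⟶ S')
    (b : V ⟶ (EtCoh.bc p).obj S') (b'' : V'' ⟶ (EtCoh.bc p).obj S'') (g : V'' ⟶ V)
    (sq : b'' ≫ (EtCoh.bc p).map h = g ≫ b) (j : ℕ) :
    (EtCoh.HF S j).map ((EtCoh.Rpush p 2).map (LSmap n g)) ≫
      (EtCoh.HF S j).map ((EtCoh.Rpush p 2).map (LSmap n b)) =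
      (EtCoh.HF S j).map ((EtCoh.Rpush p 2).map (LSmap n b'')) ≫
        (EtCoh.HF S j).map ((EtCoh.Rpush p 2).map (LSmap n ((EtCoh.bc p).map h))) := by
  rw [← Functor.map_comp, ← Functor.map_comp, ← Functor.map_comp, ← Functor.map_comp,
    ← Functor.map_comp, ← Functor.map_comp, sq]

theorem R2_map_zero [S.IsSeparated]
    (τ : JF S (ZMod n) ⟶ EtCoh.bc p ⋙ JF X (ZMod n) ⋙ EtCoh.Rpush p 2)
    (hτ : ∀ (S' : S.Etale) [IsSeparated S'.hom] [QuasiCompact S'.hom], IsIso (τ.app S')) (j : ℕ)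
    {S' S'' : S.Etale} [IsAffine S'.left] [IsAffine S''.left] (h : S'' ⟶ S') (hz : HLS n j h = 0)
    {V V'' : X.Etale} (b : V ⟶ (EtCoh.bc p).obj S') (b'' : V'' ⟶ (EtCoh.bc p).obj S'')
    (g : V'' ⟶ V) (sq : IsPullback b'' g ((EtCoh.bc p).map h) b) (hb : IsGood n p b) :
    (EtCoh.HF S j).map ((EtCoh.Rpush p 2).map (LSmap n g)) = 0 := by
  have i1 := isIso_R2 b hb
  have i2 := isIso_tau τ hτ S''
  have h1 := tau_comm τ j h
  rw [hz, zero_comp] at h1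
  have h2 : (EtCoh.HF S j).map ((EtCoh.Rpush p 2).map (LSmap n ((EtCoh.bc p).map h))) = 0 := by
    rw [← cancel_epi ((EtCoh.HF S j).map (τ.app S'')), comp_zero]
    exact h1.symm
  rw [← cancel_mono ((EtCoh.HF S j).map ((EtCoh.Rpush p 2).map (LSmap n b))), zero_comp,
    square_comm h b b'' g sq.w j, h2, comp_zero]

/-! ### Points -/

theorem exists_of_isPullback {P A B C : Scheme.{u}} {a : P ⟶ A} {b : P ⟶ B} {f : A ⟶ C}
    {g : B ⟶ C} (sq : IsPullback a b f g) (x : A) (y : B) (h : f x = g y) :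
    ∃ z : P, a z = x ∧ b z = y := by
  obtain ⟨z, hz1, hz2⟩ := Scheme.Pullback.exists_preimage_pullback x y h
  refine ⟨sq.isoPullback.inv z, ?_, ?_⟩
  · rw [← Scheme.Hom.comp_apply, IsPullback.isoPullback_inv_fst, hz1]
  · rw [← Scheme.Hom.comp_apply, IsPullback.isoPullback_inv_snd, hz2]

/-- The image in `S'` of a point of `V ⟶ p⁻¹S'`. -/
noncomputable def pt {V : X.Etale} {S' : S.Etale} (b : V ⟶ (EtCoh.bc p).obj S') (v : V.left) :
    S'.left :=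
  (pullback.fst S'.hom p : ((EtCoh.bc p).obj S').left ⟶ S'.left) (b.left v)

theorem exists_pt {V V'' : X.Etale} {S' S'' : S.Etale} (h : S'' ⟶ S')
    (b : V ⟶ (EtCoh.bc p).obj S') (b'' : V'' ⟶ (EtCoh.bc p).obj S'') (g : V'' ⟶ V)
    (sq : IsPullback b'' g ((EtCoh.bc p).map h) b) (v : V.left) (s : S''.left)
    (hs : h.left s = pt b v) : ∃ v'' : V''.left, g.left v'' = v := by
  obtain ⟨w, hw, -⟩ := exists_of_isPullback (EtCoh.isPullback_bc_map p h) (b.left v) s hs.symm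
  obtain ⟨z, -, hz⟩ := exists_of_isPullback (Etbase.RepSheaf.isPullback_left sq) w v hw
  exact ⟨z, hz⟩

theorem isAffine_of_sq {V V'' : X.Etale} {S' S'' : S.Etale} [IsAffine S'.left] [IsAffine S''.left]
    (h : S'' ⟶ S')
    (b : V ⟶ (EtCoh.bc p).obj S') (b'' : V'' ⟶ (EtCoh.bc p).obj S'') (g : V'' ⟶ V)
    (sq : IsPullback b'' g ((EtCoh.bc p).map h) b) [IsAffine V.left] : IsAffine V''.left := by
  have h1 : IsAffineHom h.left := inferInstance
  have h2 : IsAffineHom ((EtCoh.bc p).map h).left :=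
    MorphismProperty.of_isPullback (EtCoh.isPullback_bc_map p h).flip h1
  have h3 : IsAffineHom g.left :=
    MorphismProperty.of_isPullback (Etbase.RepSheaf.isPullback_left sq) h2
  exact isAffine_of_isAffineHom g.left

/-! ### Effaceability -/

theorem HLS_comp_left_zero {U V W : X.Etale} (i : ℕ) (g : U ⟶ V) (h : V ⟶ W)
    (h0 : HLS n i g = 0) : HLS n i (g ≫ h) = 0 := by
  rw [HLS_comp, h0, zero_comp]

theorem HLS_comp_right_zero {U V W : X.Etale} (i : ℕ) (g : U ⟶ V) (h : V ⟶ W)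
    (h0 : HLS n i h = 0) : HLS n i (g ≫ h) = 0 := by
  rw [HLS_comp, h0, comp_zero]

/-- Degree `0`. -/
theorem HLS_zero (hV0 : StmtV0 n p) (hCd : StmtCd n p) {U V : X.Etale} [IsAffine V.left]
    (g : V ⟶ U) : HLS n 0 g = 0 := by
  have h1 : Subsingleton (EtCoh.H X (LS n V) 0) :=
    TwoRowEt.subsingleton_H p 2 0 (LS n V) (hCd _ (JFComp.killedBy_LS n V)) (fun q j _ h2 =>
      subsingleton_H_of_isZero (isZero_R0 hV0 V q (by omega)) j)
  apply AddCommGrpCat.hom_ext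
  ext x
  rw [@Subsingleton.elim _ h1 x 0]
  exact (map_zero _).trans (map_zero _).symm

/-- Degree `1`. -/
theorem HLS_one (hV0 : StmtV0 n p) (hCd : StmtCd n p) {U V : X.Etale} [IsAffine U.left]
    [IsAffine V.left] (g : V ⟶ U) (hg : (EtCoh.Rpush p 1).map (LSmap n g) = 0) :
    HLS n 1 g = 0 := by
  have h1 := TwoRowEt.lowH_bijective p 1 2 1 0 rfl (LS n V) (isZero_R0 hV0 V)
    (hCd _ (JFComp.killedBy_LS n V)) (fun q j h1 h2 h3 => by omega)
  apply AddCommGrpCat.hom_ext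
  ext x
  obtain ⟨y, rfl⟩ := h1.2 x
  refine (TwoRowEt.lowH_naturality p 1 1 0 rfl (LSmap n g) (isZero_R0 hV0 V) (isZero_R0 hV0 U)
    y).symm.trans ?_
  rw [hg, Functor.map_zero]
  exact (map_zero _)

/-- Degree `j + 2`: if `V'' ⟶ V` induces zero on `H^j(S, R²)` and `V ⟶ U` induces zero on `R¹`
then `V'' ⟶ U` induces zero on `H^{j+2}`. -/
theorem HLS_succ (hV0 : StmtV0 n p) (hCd : StmtCd n p) {U V V'' : X.Etale} [IsAffine U.left]
    [IsAffine V.left] (g : V ⟶ U) (hg : (EtCoh.Rpush p 1).map (LSmap n g) = 0) (g' : V'' ⟶ V)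
    (j : ℕ) (hg' : (EtCoh.HF S j).map ((EtCoh.Rpush p 2).map (LSmap n g')) = 0) :
    HLS n (j + 2) (g' ≫ g) = 0 := by
  rw [HLS_comp]
  apply AddCommGrpCat.hom_ext
  ext x
  have h1 : TwoRowEt.highH p 2 (j + 2) j rfl (LS n V) (hCd _ (JFComp.killedBy_LS n V))
      ((HLS n (j + 2) g').hom x) = 0 := by
    refine (TwoRowEt.highH_naturality p 2 (j + 2) j rfl (LSmap n g')
      (hCd _ (JFComp.killedBy_LS n V'')) (hCd _ (JFComp.killedBy_LS n V)) x).trans ?_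
    rw [hg']
    rfl
  obtain ⟨y, hy⟩ := (TwoRowEt.exact_lowH_highH p 1 2 (j + 2) (j + 1) j rfl rfl rfl (LS n V)
    (isZero_R0 hV0 V) (hCd _ (JFComp.killedBy_LS n V)) _).1 h1
  change (HLS n (j + 2) g).hom ((HLS n (j + 2) g').hom x) = 0
  rw [← hy]
  refine (TwoRowEt.lowH_naturality p 1 (j + 2) (j + 1) rfl (LSmap n g) (isZero_R0 hV0 V)
    (isZero_R0 hV0 U) y).symm.trans ?_
  rw [hg, Functor.map_zero]
  exact (map_zero _)

theorem eff_step [S.IsSeparated] (d : ℕ) (hW : StmtW n p) (hV : StmtV n p) (hV3 : StmtV3 n p)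
    (hV0 : StmtV0 n p) (hCd : StmtCd n p)
    (heff : ∀ (U : S.Etale) (x : U.left) (i : ℕ), i < 2 * d →
      ∃ (V : S.Etale) (g : V ⟶ U), x ∈ Set.range g.left ∧ HLS n i g = 0)
    (U : X.Etale) (x : U.left) (i : ℕ) (hi : i < 2 * (d + 1)) :
    ∃ (V : X.Etale) (g : V ⟶ U), x ∈ Set.range g.left ∧ HLS n i g = 0 := by
  obtain ⟨V₀, g₀, -, -, ⟨x₀, hx₀⟩, hA₀, -, -⟩ := hV U x
  match i, hi with
  | 0, _ => exact ⟨V₀, g₀, ⟨x₀, hx₀⟩, HLS_zero hV0 hCd g₀⟩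
  | 1, _ =>
    obtain ⟨V₁, g₁, hA₁, ⟨x₁, hx₁⟩, h₁⟩ := hW V₀ x₀
    refine ⟨V₁, g₁ ≫ g₀, ⟨x₁, ?_⟩, HLS_comp_left_zero 1 g₁ g₀ (HLS_one hV0 hCd g₁ h₁)⟩
    rw [← hx₀, ← hx₁]
    rfl
  | j + 2, hj =>
    obtain ⟨τ, hτ⟩ := hV3
    obtain ⟨V₁, g₁, hA₁, ⟨x₁, hx₁⟩, h₁⟩ := hW V₀ x₀
    obtain ⟨V₂, g₂, S', b, ⟨x₂, hx₂⟩, hA₂, hAS, hb⟩ := hV V₁ x₁
    obtain ⟨S₁, k₁, ⟨s₁, hs₁⟩, hk₁⟩ := heff S' (pt b x₂) j (by omega)
    obtain ⟨S₂, k₂, s₂, hAS₂, hs₂⟩ := exists_affine_nbhd S₁ s₁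
    have hk : HLS n j (k₂ ≫ k₁) = 0 := HLS_comp_right_zero j k₂ k₁ hk₁
    have sq := IsPullback.of_hasPullback ((EtCoh.bc p).map (k₂ ≫ k₁)) b
    have hs : (k₂ ≫ k₁).left s₂ = pt b x₂ := by
      rw [← hs₁, ← hs₂]
      rfl
    obtain ⟨x₃, hx₃⟩ := exists_pt (k₂ ≫ k₁) b _ _ sq x₂ s₂ hs
    have h₂ : (EtCoh.Rpush p 1).map (LSmap n (g₂ ≫ g₁)) = 0 := by
      rw [R_comp, h₁, comp_zero]
    have h₃ := HLS_succ hV0 hCd (g₂ ≫ g₁) h₂ _ j
      (R2_map_zero τ hτ j (k₂ ≫ k₁) hk b _ _ sq hb)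
    refine ⟨_, (pullback.snd ((EtCoh.bc p).map (k₂ ≫ k₁)) b ≫ g₂ ≫ g₁) ≫ g₀, ⟨x₃, ?_⟩,
      HLS_comp_left_zero (j + 2) _ g₀ h₃⟩
    rw [← hx₀, ← hx₁, ← hx₂, ← hx₃]
    rfl

/-! ### Good neighbourhoods -/

theorem isIso_R2_toTop (d : ℕ) {S' : S.Etale} [IsAffine S'.left] [S.IsSeparated]
    (τ : JF S (ZMod n) ⟶ EtCoh.bc p ⋙ JF X (ZMod n) ⋙ EtCoh.Rpush p 2)
    (hτ : ∀ (S' : S.Etale) [IsSeparated S'.hom] [QuasiCompact S'.hom], IsIso (τ.app S'))
    (h : Function.Bijective (HLS n (2 * d) (toTop S'))) :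
    IsIso ((EtCoh.HF S (2 * d)).map
      ((EtCoh.Rpush p 2).map (LSmap n (toTop ((EtCoh.bc p).obj S'))))) := by
  have i1 := isIso_tau τ hτ S'
  have i2 := isIso_tau_top τ hτ
  have i3 : IsIso (HLS n (2 * d) (toTop S')) :=
    (ConcreteCategory.isIso_iff_bijective _).2 h
  have h1 := tau_comm τ (2 * d) (toTop S')
  have i4 : IsIso ((EtCoh.HF S (2 * d)).map ((EtCoh.Rpush p 2).map
      (LSmap n ((EtCoh.bc p).map (toTop S'))))) := by
    have i5 : IsIso ((EtCoh.HF S (2 * d)).map (τ.app S') ≫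
      (EtCoh.HF S (2 * d)).map ((EtCoh.Rpush p 2).map
        (LSmap n ((EtCoh.bc p).map (toTop S'))))) := by
      rw [← h1]
      infer_instance
    exact IsIso.of_isIso_comp_left ((EtCoh.HF S (2 * d)).map (τ.app S')) _
  have h2 : toTop ((EtCoh.bc p).obj S') =
      (EtCoh.bc p).map (toTop S') ≫ (EtCore.bcTopIso p).hom :=
    (EtCore.topIsTerminal X).hom_ext _ _
  rw [h2, HR_comp]
  infer_instance

theorem goodA_step [S.IsSeparated] (d : ℕ) (hV : StmtV n p) (hV3 : StmtV3 n p)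
    (hCd : StmtCd n p)
    (hcd : ∀ (F : EtCoh.Ab S), EtCoh.KilledBy n F → ∀ q : ℕ, 2 * d < q → Subsingleton (EtCoh.H S F q))
    (hgood : ∀ (U : S.Etale) (x : U.left), ∃ (V : S.Etale) (g : V ⟶ U), IsAffine V.left ∧
      x ∈ Set.range g.left ∧ Function.Bijective (HLS n (2 * d) (toTop V)))
    (U : X.Etale) (x : U.left) :
    ∃ (V : X.Etale) (g : V ⟶ U), IsAffine V.left ∧ x ∈ Set.range g.left ∧
      Function.Bijective (HLS n (2 * (d + 1)) (toTop V)) := by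
  obtain ⟨τ, hτ⟩ := hV3
  obtain ⟨V₀, g₀, S', b, ⟨x₀, hx₀⟩, hA₀, hAS, hb⟩ := hV U x
  obtain ⟨S₂, k, hAS₂, ⟨s, hs⟩, hk⟩ := hgood S' (pt b x₀)
  have sq := IsPullback.of_hasPullback ((EtCoh.bc p).map k) b
  obtain ⟨x₁, hx₁⟩ := exists_pt k b _ _ sq x₀ s hs
  have hA := isAffine_of_sq k b _ _ sq
  refine ⟨_, pullback.snd ((EtCoh.bc p).map k) b ≫ g₀, hA, ⟨x₁, ?_⟩, ?_⟩
  · rw [← hx₀, ← hx₁]
    rfl
  · refine map_bijective d hCd hcd (JFComp.killedBy_LS n _) (JFComp.killedBy_LS n _) _ ?_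
    have i1 := isIso_R2_toTop d τ hτ hk
    have i2 := hb S₂ k _ _ _ sq
    have h2 : toTop (pullback ((EtCoh.bc p).map k) b) =
        pullback.fst ((EtCoh.bc p).map k) b ≫ toTop ((EtCoh.bc p).obj S₂) :=
      (EtCore.topIsTerminal X).hom_ext _ _
    rw [h2, HR_comp]
    infer_instance

/-! ### The top cohomology -/

theorem top_step (d : ℕ) (hV3 : StmtV3 n p) (hCd : StmtCd n p)
    (hcd : ∀ (F : EtCoh.Ab S), EtCoh.KilledBy n F → ∀ q : ℕ, 2 * d < q → Subsingleton (EtCoh.H S F q))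
    (htop : Nonempty (EtCoh.H S (LS n (EtCoh.top S)) (2 * d) ≃+ ZMod n)) :
    Nonempty (EtCoh.H X (LS n (EtCoh.top X)) (2 * (d + 1)) ≃+ ZMod n) := by
  obtain ⟨τ, hτ⟩ := hV3
  obtain ⟨e⟩ := htop
  have i1 := isIso_tau_top τ hτ
  let e1 := AddEquiv.ofBijective _
    (high_bijective d hCd hcd (LS n (EtCoh.top X)) (JFComp.killedBy_LS n (EtCoh.top X)))
  let e2 : (EtCoh.Rpush p 2).obj (LS n (EtCoh.top X)) ≅ LS n (EtCoh.top S) :=
    ((EtCoh.Rpush p 2).mapIso ((JF X (ZMod n)).mapIso (EtCore.bcTopIso p))).symm ≪≫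
      (asIso (τ.app (EtCoh.top S))).symm
  exact ⟨e1.trans ((((EtCoh.HF S (2 * d)).mapIso e2).addCommGroupIsoToAddEquiv).trans e)⟩

end Step

/-- **Induction step** (module D8): the package for `S` gives the package for the relative curve
`p : X ⟶ S`. -/
theorem step {n : ℕ} {X S : Scheme.{u}} (p : X ⟶ S) (d : ℕ) (hp : RelCurve n p) (hW : StmtW n p)
    (hV : StmtV n p) (hV3 : StmtV3 n p) (hV0 : StmtV0 n p) (hCd : StmtCd n p) (h : PkgA n S d) :
    PkgA n X (d + 1) := by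
  have := hp.sep
  have hA := goodA_step d hV hV3 hCd h.cd h.goodA
  exact
    { cd := cd_step d hCd h.cd
      top := top_step d hV3 hCd h.cd h.top
      eff := eff_step d hW hV hV3 hV0 hCd h.eff
      good := fun U x => by
        obtain ⟨V, g, -, h1, h2⟩ := hA U x
        exact ⟨V, g, h1, h2⟩
      goodA := hA }

end Groth.Agent.Sga4B.DualStep
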