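import Groth.Agent.Sga4B.PkgP1
import Groth.Agent.Sga4B.DualStep

/-!
# The package with affine good neighbourhoods: base case and induction over `P_d`
-/

set_option autoImplicit false
universe u

open CategoryTheory CategoryTheory.Limits AlgebraicGeometry Opposite

namespace Groth.Agent.Sga4B.PkgAP1

open DualShape DualStep

/-- The base case. -/
theorem pkgA_point (k : Type u) [Field k] [IsSepClosed k] (n : ℕ) :
    PkgA n (Spec (CommRingCat.of k)) 0 where
  toPkg := PkgP1.pkg_point k n
  goodA U x := by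
    obtain ⟨s, w, hw⟩ := PointConst.exists_hom_top U x
    refine ⟨EtCoh.top _, s, inferInstanceAs (IsAffine (Spec (CommRingCat.of k))), ⟨w, hw⟩, ?_⟩
    have h1 : toTop (EtCoh.top (Spec (CommRingCat.of k))) = 𝟙 _ :=
      (EtCore.topIsTerminal _).hom_ext _ _
    have h2 : HLS n (2 * 0) (toTop (EtCoh.top (Spec (CommRingCat.of k)))) = 𝟙 _ := by
      rw [h1]
      exact (JF (Spec (CommRingCat.of k)) (ZMod n) ⋙ EtCoh.HF (Spec (CommRingCat.of k)) (2 * 0)).map_id _
    rw [h2]
    exact Function.bijective_id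

/-- **Induction over `P_d`.** -/
theorem pkgA_iter (k : Type u) [Field k] [IsSepClosed k] (n : ℕ)
    (hstep : ∀ (S : Scheme.{u}) [IsNoetherian S] [S.IsSeparated] (_ : S ⟶ Spec (CommRingCat.of k))
      (d : ℕ), PkgA n S d → PkgA n (CohB1.ProjSpaceOver 1 S) (d + 1)) (d : ℕ) :
    PkgA n (IterP1.P (Spec (CommRingCat.of k)) d) d := by
  induction d with
  | zero => exact pkgA_point k n
  | succ d ih =>
    have := PkgP1.isNoetherian_P (Spec (CommRingCat.of k)) d
    have := PkgP1.isSeparated_P (Spec (CommRingCat.of k)) d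
    exact hstep _ (IterP1.toBase (Spec (CommRingCat.of k)) d) d ih

end Groth.Agent.Sga4B.PkgAP1
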