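import Groth.Agent.Localalg.DeltaFun

/-!
# A hexagon for morphisms of delta functors

Abstract form of the compatibility of `E_V R^q p_* ⟶ R^q p_* E_{p⁻¹V}` with base change.
-/

set_option autoImplicit false
universe v₁ v₂ v₃ v₄ u₁ u₂ u₃ u₄

open CategoryTheory CategoryTheory.Limits

namespace Groth.Agent.Sga4B.AbsHex

open Groth.Agent.Localalg.DeltaFun

section Component

variable {A : Type u₁} [Category.{v₁} A] [Abelian A]
  {B : Type u₂} [Category.{v₂} B] [Abelian B]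
  {A' : Type u₃} [Category.{v₃} A'] [Abelian A']
  {B' : Type u₄} [Category.{v₄} B'] [Abelian B']
  {T : DeltaFunctor A B} {T' : DeltaFunctor A' B'}
  {g : B ⥤ B'} [g.Additive] [PreservesFiniteLimits g] [PreservesFiniteColimits g]
  {g' : A ⥤ A'} [g'.Additive] [PreservesFiniteLimits g'] [PreservesFiniteColimits g']

/-- The components of a morphism `g T ⟶ T' g'`. -/
def cp (Φ : DeltaHom (T.postcomp g) (T'.precomp g')) (n : ℕ) (F : A) :
    g.obj ((T.T n).obj F) ⟶ (T'.T n).obj (g'.obj F) :=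
  (Φ.app n).app F

theorem cp_nat (Φ : DeltaHom (T.postcomp g) (T'.precomp g')) (n : ℕ) {F G : A} (φ : F ⟶ G) :
    g.map ((T.T n).map φ) ≫ cp Φ n G = cp Φ n F ≫ (T'.T n).map (g'.map φ) :=
  (Φ.app n).naturality φ

/-- The connecting maps of `T' g'`. -/
def dg (T' : DeltaFunctor A' B') (g' : A ⥤ A') [g'.Additive] [PreservesFiniteLimits g']
    [PreservesFiniteColimits g'] {S : ShortComplex A} (hS : S.ShortExact) (n : ℕ) :
    (T'.T n).obj (g'.obj S.X₃) ⟶ (T'.T (n + 1)).obj (g'.obj S.X₁) :=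
  T'.δ (hS.map_of_exact g') n

theorem cp_comm (Φ : DeltaHom (T.postcomp g) (T'.precomp g')) {S : ShortComplex A}
    (hS : S.ShortExact) (n : ℕ) :
    cp Φ n S.X₃ ≫ dg T' g' hS n = g.map (T.δ hS n) ≫ cp Φ (n + 1) S.X₁ :=
  Φ.comm hS n

end Component

/-- The connecting maps of `T' G₂ G₁`. -/
def dgg {A : Type u₁} [Category.{v₁} A] [Abelian A] {M : Type u₂} [Category.{v₂} M] [Abelian M]
    {A' : Type u₃} [Category.{v₃} A'] [Abelian A'] {B' : Type u₄} [Category.{v₄} B'] [Abelian B']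
    (T' : DeltaFunctor A' B') (G₁ : A ⥤ M) [G₁.Additive] [PreservesFiniteLimits G₁]
    [PreservesFiniteColimits G₁] (G₂ : M ⥤ A') [G₂.Additive] [PreservesFiniteLimits G₂]
    [PreservesFiniteColimits G₂] {S : ShortComplex A} (hS : S.ShortExact) (n : ℕ) :
    (T'.T n).obj (G₂.obj (G₁.obj S.X₃)) ⟶ (T'.T (n + 1)).obj (G₂.obj (G₁.obj S.X₁)) :=
  T'.δ ((hS.map_of_exact G₁).map_of_exact G₂) n

variable {A : Type u₁} [Category.{v₁} A] [Abelian A]
  {B : Type u₂} [Category.{v₂} B] [Abelian B]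
  {A' : Type u₃} [Category.{v₃} A'] [Abelian A']
  {B' : Type u₄} [Category.{v₄} B'] [Abelian B']
  (T : DeltaFunctor A B) (T' : DeltaFunctor A' B')
  (g : B ⥤ B') [g.Additive] [PreservesFiniteLimits g] [PreservesFiniteColimits g]
  (g' : A ⥤ A') [g'.Additive] [PreservesFiniteLimits g'] [PreservesFiniteColimits g']
  (E : B ⥤ B) [E.Additive] [PreservesFiniteLimits E] [PreservesFiniteColimits E]
  (E1 : A ⥤ A) [E1.Additive] [PreservesFiniteLimits E1] [PreservesFiniteColimits E1]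
  (E' : B' ⥤ B') [E'.Additive] [PreservesFiniteLimits E'] [PreservesFiniteColimits E']
  (E1' : A' ⥤ A') [E1'.Additive] [PreservesFiniteLimits E1'] [PreservesFiniteColimits E1']
  (κ : E ⋙ g ⟶ g ⋙ E') (κ' : E1 ⋙ g' ⟶ g' ⋙ E1')
  (Φ : DeltaHom (T.postcomp g) (T'.precomp g'))
  (Θ : DeltaHom (T.postcomp E) (T.precomp E1))
  (Θ' : DeltaHom (T'.postcomp E') (T'.precomp E1'))

/-- The components of `κ`. -/
def kc {C : Type u₁} [Category.{v₁} C] {D : Type u₂} [Category.{v₂} D] {E : C ⥤ C} {g : C ⥤ D}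
    {E' : D ⥤ D} (κ : E ⋙ g ⟶ g ⋙ E') (F : C) : g.obj (E.obj F) ⟶ E'.obj (g.obj F) :=
  κ.app F

theorem kc_nat {C : Type u₁} [Category.{v₁} C] {D : Type u₂} [Category.{v₂} D] {E : C ⥤ C}
    {g : C ⥤ D} {E' : D ⥤ D} (κ : E ⋙ g ⟶ g ⋙ E') {F G : C} (φ : F ⟶ G) :
    g.map (E.map φ) ≫ kc κ G = kc κ F ≫ E'.map (g.map φ) :=
  κ.naturality φ

/-- The left composite. -/
def hexL (n : ℕ) (F : A) : g.obj (E.obj ((T.T n).obj F)) ⟶ (T'.T n).obj (E1'.obj (g'.obj F)) :=
  kc κ ((T.T n).obj F) ≫ E'.map (cp Φ n F) ≫ cp Θ' n (g'.obj F)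

/-- The right composite. -/
def hexR (n : ℕ) (F : A) : g.obj (E.obj ((T.T n).obj F)) ⟶ (T'.T n).obj (E1'.obj (g'.obj F)) :=
  g.map (cp Θ n F) ≫ cp Φ n (E1.obj F) ≫ (T'.T n).map (kc κ' F)

omit [E.Additive] [PreservesFiniteLimits E] [PreservesFiniteColimits E] in
theorem hexL_comm {S : ShortComplex A} (hS : S.ShortExact) (n : ℕ) :
    hexL T T' g g' E E' E1' κ Φ Θ' n S.X₃ ≫ dgg T' g' E1' hS n =
    g.map (E.map (T.δ hS n)) ≫ hexL T T' g g' E E' E1' κ Φ Θ' (n + 1) S.X₁ := by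
  have h1 := cp_comm Φ hS n
  have h2 : cp Θ' n (g'.obj S.X₃) ≫ dgg T' g' E1' hS n =
    E'.map (dg T' g' hS n) ≫ cp Θ' (n + 1) (g'.obj S.X₁) := cp_comm Θ' (hS.map_of_exact g') n
  have h3 := kc_nat κ (T.δ hS n)
  unfold hexL
  rw [Category.assoc, Category.assoc, h2, ← Category.assoc (E'.map (cp Φ n S.X₃)), ← E'.map_comp,
    h1, E'.map_comp, Category.assoc, ← Category.assoc (kc κ _), ← h3, Category.assoc]

theorem hexR_comm {S : ShortComplex A} (hS : S.ShortExact) (n : ℕ) :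
    hexR T T' g g' E E1 E1' κ' Φ Θ n S.X₃ ≫ dgg T' g' E1' hS n =
    g.map (E.map (T.δ hS n)) ≫ hexR T T' g g' E E1 E1' κ' Φ Θ (n + 1) S.X₁ := by
  have h1 : cp Φ n (E1.obj S.X₃) ≫ dgg T' E1 g' hS n =
    g.map (dg T E1 hS n) ≫ cp Φ (n + 1) (E1.obj S.X₁) := cp_comm Φ (hS.map_of_exact E1) n
  have h2 := cp_comm Θ hS n
  have h3 : (T'.T n).map (kc κ' S.X₃) ≫ dgg T' g' E1' hS n =
      dgg T' E1 g' hS n ≫ (T'.T (n + 1)).map (kc κ' S.X₁) :=
    T'.naturality ((hS.map_of_exact E1).map_of_exact g') ((hS.map_of_exact g').map_of_exact E1')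
      (S.mapNatTrans κ') n
  unfold hexR
  rw [Category.assoc, Category.assoc, h3, ← Category.assoc (cp Φ n (E1.obj S.X₃)), h1,
    Category.assoc, ← Category.assoc (g.map (cp Θ n S.X₃)), ← g.map_comp, h2, g.map_comp,
    Category.assoc]

theorem hex [EnoughInjectives A] (hT : T.Effaceable)
    (h0 : ∀ F, hexL T T' g g' E E' E1' κ Φ Θ' 0 F = hexR T T' g g' E E1 E1' κ' Φ Θ 0 F)
    (n : ℕ) (F : A) :
    hexL T T' g g' E E' E1' κ Φ Θ' n F = hexR T T' g g' E E1 E1' κ' Φ Θ n F := by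
  induction n generalizing F with
  | zero => exact h0 F
  | succ n ih =>
    have he : Epi (T.δ (injSES_shortExact F) n) :=
      epi_δ T _ n (hT (Injective.under F) n)
    have he2 : Epi (g.map (E.map (T.δ (injSES_shortExact F) n))) := inferInstance
    have h1 := hexL_comm T T' g g' E E' E1' κ Φ Θ' (injSES_shortExact F) n
    have h2 := hexR_comm T T' g g' E E1 E1' κ' Φ Θ (injSES_shortExact F) n
    rw [← cancel_epi (g.map (E.map (T.δ (injSES_shortExact F) n)))]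
    exact h1.symm.trans ((congrArg (fun k => k ≫ _) (ih _)).trans h2)

/-- Naturality in the functors. -/
theorem nat_of_zero [EnoughInjectives A] (hT : T.Effaceable)
    {E₂ : B ⥤ B} [E₂.Additive] [PreservesFiniteLimits E₂] [PreservesFiniteColimits E₂]
    {E₃ : A ⥤ A} [E₃.Additive] [PreservesFiniteLimits E₃] [PreservesFiniteColimits E₃]
    (α : E ⟶ E₂) (β : E1 ⟶ E₃) (Θ₂ : DeltaHom (T.postcomp E₂) (T.precomp E₃))
    (h0 : ∀ F, α.app ((T.T 0).obj F) ≫ cp Θ₂ 0 F = cp Θ 0 F ≫ (T.T 0).map (β.app F))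
    (n : ℕ) (F : A) :
    α.app ((T.T n).obj F) ≫ cp Θ₂ n F = cp Θ n F ≫ (T.T n).map (β.app F) := by
  induction n generalizing F with
  | zero => exact h0 F
  | succ n ih =>
    have he : Epi (T.δ (injSES_shortExact F) n) :=
      epi_δ T _ n (hT (Injective.under F) n)
    have he2 : Epi (E.map (T.δ (injSES_shortExact F) n)) := inferInstance
    have h1 := cp_comm Θ (injSES_shortExact F) n
    have h2 := cp_comm Θ₂ (injSES_shortExact F) n
    have h3 : (T.T n).map (β.app (injSES F).X₃) ≫ dg T E₃ (injSES_shortExact F) n =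
      dg T E1 (injSES_shortExact F) n ≫ (T.T (n + 1)).map (β.app F) :=
      T.naturality ((injSES_shortExact F).map_of_exact E1) ((injSES_shortExact F).map_of_exact E₃)
        ((injSES F).mapNatTrans β) n
    rw [← cancel_epi (E.map (T.δ (injSES_shortExact F) n)), ← Category.assoc, α.naturality,
      Category.assoc]
    refine (congrArg (fun k => _ ≫ k) h2.symm).trans ?_
    rw [← Category.assoc, ih, Category.assoc, h3, ← Category.assoc, h1, Category.assoc]

end Groth.Agent.Sga4B.AbsHex
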