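import Groth.Agent.Sga4B.ExtTrunc
import Mathlib.Algebra.Homology.DerivedCategory.ExactFunctor
import Mathlib.CategoryTheory.Abelian.RightDerived

/-!
Abstract form of the comparison `Ext^n(LZ, G) = Hom(Z[0], (R G)[n])` for an adjunction
`L.mapDerivedCategory ⊣ R`, and the edge maps `high`, `low` of the resulting Leray spectral sequence.
-/

set_option autoImplicit false
universe w₁ w₂ w w' v v' u u'
open CategoryTheory CategoryTheory.Limits CategoryTheory.Pretriangulated DerivedCategory Opposite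
open CategoryTheory.Abelian

namespace Groth.Agent.Sga4B.AdjExt

variable {A : Type u} [Category.{v} A] [Abelian A] {B : Type u'} [Category.{v'} B] [Abelian B]
  [HasDerivedCategory.{w₁} A] [HasDerivedCategory.{w₂} B] [HasExt.{w} A]
  {L : B ⥤ A} [L.Additive] [PreservesFiniteLimits L] [PreservesFiniteColimits L]
  {R : DerivedCategory A ⥤ DerivedCategory B} [R.Additive] [R.CommShift ℤ]
  (adjD : L.mapDerivedCategory ⊣ R)

/-- `Ext^n(LZ, G) ≃ Hom(Z[0], (R G[0])[n])`. -/
noncomputable def T (Z : B) (G : A) (n : ℕ) : Ext.{w} (L.obj Z) G n ≃+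
    ((singleFunctor B 0).obj Z ⟶ (R.obj ((singleFunctor A 0).obj G))⟦(n : ℤ)⟧) :=
  AddEquiv.trans (Ext.homAddEquiv (X := L.obj Z) (Y := G) (n := n))
    { toEquiv := ((Iso.homCongr ((L.mapDerivedCategorySingleFunctor 0).app Z).symm (Iso.refl _)).trans
        (adjD.homEquiv _ _)).trans (Iso.homCongr (Iso.refl _) ((R.commShiftIso (n : ℤ)).app _))
      map_add' := fun f g => by
        simp [Iso.homCongr, Adjunction.homEquiv_unit, Preadditive.add_comp, Preadditive.comp_add,
          Functor.map_add] }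

theorem T_apply (Z : B) (G : A) (n : ℕ) (x : Ext.{w} (L.obj Z) G n) :
    T adjD Z G n x = adjD.homEquiv _ _ ((L.mapDerivedCategorySingleFunctor 0).hom.app Z ≫ x.hom) ≫
      (R.commShiftIso (n : ℤ)).hom.app _ := by
  change 𝟙 _ ≫ adjD.homEquiv _ _ ((L.mapDerivedCategorySingleFunctor 0).hom.app Z ≫ x.hom ≫ 𝟙 _) ≫
      (R.commShiftIso (n : ℤ)).hom.app _ = _
  rw [Category.id_comp]
  erw [Category.comp_id]

theorem T_naturality (Z : B) {G G' : A} (g : G ⟶ G') (n : ℕ) (x : Ext.{w} (L.obj Z) G n) :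
    T adjD Z G' n (x.comp (Ext.mk₀ g) (add_zero n)) =
      T adjD Z G n x ≫ (R.map ((singleFunctor A 0).map g))⟦(n : ℤ)⟧' := by
  rw [T_apply, T_apply, ← Ext.hom_comp_singleFunctor_map_shift, Category.assoc]
  have h1 := (R.commShiftIso (n : ℤ)).hom.naturality ((singleFunctor A 0).map g)
  have h2 : (R.commShiftIso (n : ℤ)).hom.app ((singleFunctor A 0).obj G) ≫
      (R.map ((singleFunctor A 0).map g))⟦(n : ℤ)⟧' = R.map (((singleFunctor A 0).map g)⟦(n : ℤ)⟧') ≫
        (R.commShiftIso (n : ℤ)).hom.app ((singleFunctor A 0).obj G') := h1.symm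
  rw [h2, ← Category.assoc, ← Category.assoc]
  refine congrArg (fun y => y ≫ (R.commShiftIso (n : ℤ)).hom.app ((singleFunctor A 0).obj G')) ?_
  exact adjD.homEquiv_naturality_right _ _

theorem T_precomp {Z Z' : B} (g : Z' ⟶ Z) (G : A) (n : ℕ) (x : Ext.{w} (L.obj Z) G n) :
    T adjD Z' G n ((Ext.mk₀ (L.map g)).comp x (zero_add n)) =
      (singleFunctor B 0).map g ≫ T adjD Z G n x := by
  rw [T_apply, T_apply, ← Ext.singleFunctor_map_comp_hom, ← Category.assoc]
  have h1 : (L.mapDerivedCategorySingleFunctor 0).hom.app Z' ≫ (singleFunctor A 0).map (L.map g) =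
      L.mapDerivedCategory.map ((singleFunctor B 0).map g) ≫
        (L.mapDerivedCategorySingleFunctor 0).hom.app Z :=
    ((L.mapDerivedCategorySingleFunctor 0).hom.naturality g).symm
  rw [h1, Category.assoc, adjD.homEquiv_naturality_left, Category.assoc]

variable [HasExt.{w'} B] (F : A ⥤ B) [F.Additive] [HasInjectiveResolutions A]
  (hq : ∀ q : ℕ, singleFunctor A 0 ⋙ R ⋙ homologyFunctor B (q : ℤ) ≅ F.rightDerived q)
  (hge : ∀ G : A, (R.obj ((singleFunctor A 0).obj G)).IsGE 0)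

include hq hge in
theorem isLE_of (m : ℕ) (G : A) (hG : ∀ q, m < q → IsZero ((F.rightDerived q).obj G)) :
    (R.obj ((singleFunctor A 0).obj G)).IsLE m := by
  rw [isLE_iff]
  intro i hi
  obtain ⟨q, rfl⟩ := Int.eq_ofNat_of_zero_le (a := i) (by lia)
  exact (hG q (by lia)).of_iso ((hq q).app G)

include hq hge in
theorem isGE_of (m : ℕ) (G : A) (hG : ∀ q, q < m → IsZero ((F.rightDerived q).obj G)) :
    (R.obj ((singleFunctor A 0).obj G)).IsGE m := by
  rw [isGE_iff]
  intro i hi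
  rcases lt_or_ge i 0 with h | h
  · have := hge G
    exact isZero_of_isGE _ 0 i h
  · obtain ⟨q, rfl⟩ := Int.eq_ofNat_of_zero_le h
    exact (hG q (by lia)).of_iso ((hq q).app G)

/-- The edge map `Ext^n(LZ, G) ⟶ Ext^i(Z, R^m F G)`, `i + m = n`, for `G` with `R^q F G = 0`, `q > m`. -/
noncomputable def high (m n i : ℕ) (h : i + m = n) (Z : B) (G : A)
    (hG : ∀ q, m < q → IsZero ((F.rightDerived q).obj G)) :
    Ext.{w} (L.obj Z) G n →+ Ext.{w'} Z ((F.rightDerived m).obj G) i :=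
  haveI := isLE_of F hq hge m G hG
  (((Ext.mk₀ ((hq m).hom.app G)).postcomp Z (add_zero i)).comp
    (ExtTrunc.hi (m : ℤ) (n : ℤ) i (by exact_mod_cast h) Z (R.obj ((singleFunctor A 0).obj G)))).comp
      (T adjD Z G n).toAddMonoidHom

/-- The edge map `Ext^i(Z, R^m F G) ⟶ Ext^n(LZ, G)`, `i + m = n`, for `G` with `R^q F G = 0`, `q < m`. -/
noncomputable def low (m n i : ℕ) (h : i + m = n) (Z : B) (G : A)
    (hG : ∀ q, q < m → IsZero ((F.rightDerived q).obj G)) :
    Ext.{w'} Z ((F.rightDerived m).obj G) i →+ Ext.{w} (L.obj Z) G n :=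
  haveI := isGE_of F hq hge m G hG
  ((T adjD Z G n).symm.toAddMonoidHom.comp
    (ExtTrunc.lo (m : ℤ) (n : ℤ) i (by exact_mod_cast h) Z (R.obj ((singleFunctor A 0).obj G)))).comp
      ((Ext.mk₀ ((hq m).inv.app G)).postcomp Z (add_zero i))

theorem high_apply (m n i : ℕ) (h : i + m = n) (Z : B) (G : A)
    (hG : ∀ q, m < q → IsZero ((F.rightDerived q).obj G)) (x : Ext.{w} (L.obj Z) G n) :
    high adjD F hq hge m n i h Z G hG x =
      haveI := isLE_of F hq hge m G hG
      (ExtTrunc.hi (m : ℤ) (n : ℤ) i (by exact_mod_cast h) Z (R.obj ((singleFunctor A 0).obj G))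
        (T adjD Z G n x)).comp (Ext.mk₀ ((hq m).hom.app G)) (add_zero i) := rfl

theorem low_apply (m n i : ℕ) (h : i + m = n) (Z : B) (G : A)
    (hG : ∀ q, q < m → IsZero ((F.rightDerived q).obj G)) (x : Ext.{w'} Z ((F.rightDerived m).obj G) i) :
    low adjD F hq hge m n i h Z G hG x =
      haveI := isGE_of F hq hge m G hG
      (T adjD Z G n).symm (ExtTrunc.lo (m : ℤ) (n : ℤ) i (by exact_mod_cast h) Z
        (R.obj ((singleFunctor A 0).obj G)) (x.comp (Ext.mk₀ ((hq m).inv.app G)) (add_zero i))) := rfl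

theorem high_naturality (m n i : ℕ) (h : i + m = n) (Z : B) {G G' : A} (g : G ⟶ G')
    (hG : ∀ q, m < q → IsZero ((F.rightDerived q).obj G))
    (hG' : ∀ q, m < q → IsZero ((F.rightDerived q).obj G')) (x : Ext.{w} (L.obj Z) G n) :
    high adjD F hq hge m n i h Z G' hG' (x.comp (Ext.mk₀ g) (add_zero n)) =
      (high adjD F hq hge m n i h Z G hG x).comp (Ext.mk₀ ((F.rightDerived m).map g)) (add_zero i) := by
  have i1 := isLE_of F hq hge m G hG
  have i2 := isLE_of F hq hge m G' hG'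
  rw [high_apply, high_apply, T_naturality]
  have h1 := ExtTrunc.hi_naturality.{w'} (m : ℤ) (n : ℤ) i (by exact_mod_cast h) Z
    (R.map ((singleFunctor A 0).map g)) (T adjD Z G n x)
  rw [h1, Ext.comp_assoc_of_third_deg_zero, Ext.comp_assoc_of_third_deg_zero, Ext.mk₀_comp_mk₀,
    Ext.mk₀_comp_mk₀]
  exact congrArg (fun y => Ext.comp _ (Ext.mk₀ y) (add_zero i)) ((hq m).hom.naturality g)

theorem low_naturality (m n i : ℕ) (h : i + m = n) (Z : B) {G G' : A} (g : G ⟶ G')
    (hG : ∀ q, q < m → IsZero ((F.rightDerived q).obj G))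
    (hG' : ∀ q, q < m → IsZero ((F.rightDerived q).obj G')) (x : Ext.{w'} Z ((F.rightDerived m).obj G) i) :
    low adjD F hq hge m n i h Z G' hG' (x.comp (Ext.mk₀ ((F.rightDerived m).map g)) (add_zero i)) =
      (low adjD F hq hge m n i h Z G hG x).comp (Ext.mk₀ g) (add_zero n) := by
  have i1 := isGE_of F hq hge m G hG
  have i2 := isGE_of F hq hge m G' hG'
  apply (T adjD Z G' n).injective
  rw [T_naturality, low_apply, low_apply, AddEquiv.apply_symm_apply, AddEquiv.apply_symm_apply]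
  have h1 := ExtTrunc.lo_naturality.{w'} (m : ℤ) (n : ℤ) i (by exact_mod_cast h) Z
    (R.map ((singleFunctor A 0).map g)) (x.comp (Ext.mk₀ ((hq m).inv.app G)) (add_zero i))
  refine Eq.trans ?_ h1
  congr 1
  rw [Ext.comp_assoc_of_third_deg_zero, Ext.comp_assoc_of_third_deg_zero, Ext.mk₀_comp_mk₀,
    Ext.mk₀_comp_mk₀]
  exact congrArg (fun y => Ext.comp _ (Ext.mk₀ y) (add_zero i)) ((hq m).inv.naturality g)

theorem high_precomp (m n i : ℕ) (h : i + m = n) {Z Z' : B} (z : Z' ⟶ Z) (G : A)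
    (hG : ∀ q, m < q → IsZero ((F.rightDerived q).obj G)) (x : Ext.{w} (L.obj Z) G n) :
    high adjD F hq hge m n i h Z' G hG ((Ext.mk₀ (L.map z)).comp x (zero_add n)) =
      (Ext.mk₀ z).comp (high adjD F hq hge m n i h Z G hG x) (zero_add i) := by
  have i1 := isLE_of F hq hge m G hG
  rw [high_apply, high_apply, T_precomp, ExtTrunc.hi_precomp, Ext.comp_assoc_of_third_deg_zero]

theorem low_precomp (m n i : ℕ) (h : i + m = n) {Z Z' : B} (z : Z' ⟶ Z) (G : A)
    (hG : ∀ q, q < m → IsZero ((F.rightDerived q).obj G)) (x : Ext.{w'} Z ((F.rightDerived m).obj G) i) :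
    low adjD F hq hge m n i h Z' G hG ((Ext.mk₀ z).comp x (zero_add i)) =
      (Ext.mk₀ (L.map z)).comp (low adjD F hq hge m n i h Z G hG x) (zero_add n) := by
  have i1 := isGE_of F hq hge m G hG
  apply (T adjD Z' G n).injective
  rw [T_precomp, low_apply, low_apply, AddEquiv.apply_symm_apply, AddEquiv.apply_symm_apply,
    Ext.comp_assoc_of_third_deg_zero, ExtTrunc.lo_precomp]

/-- The two-row Leray sequence: if `R^q F G = 0` for `q ∉ {m, m+1}` then
`Ext^i(Z, R^m F G) ⟶ Ext^n(LZ, G) ⟶ Ext^{i'}(Z, R^{m+1} F G)` is exact (`i + m = n = i' + m + 1`). -/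
theorem exact_low_high (m m' n i i' : ℕ) (hm : m + 1 = m') (h : i + m = n) (h' : i' + m' = n) (Z : B) (G : A)
    (hG : ∀ q, q < m → IsZero ((F.rightDerived q).obj G))
    (hG' : ∀ q, m' < q → IsZero ((F.rightDerived q).obj G)) :
    Function.Exact (low adjD F hq hge m n i h Z G hG) (high adjD F hq hge m' n i' h' Z G hG') := by
  have i1 := isGE_of F hq hge m G hG
  have i2 := isLE_of F hq hge m' G hG'
  have ex := ExtTrunc.exact_lo_hi.{w'} (m : ℤ) (m' : ℤ) (n : ℤ) i i' (by exact_mod_cast hm)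
    (by exact_mod_cast h) (by exact_mod_cast h') Z (R.obj ((singleFunctor A 0).obj G))
  intro x
  constructor
  · intro hx
    rw [high_apply] at hx
    have h1 : ExtTrunc.hi.{w'} (m' : ℤ) (n : ℤ) i' (by exact_mod_cast h') Z
        (R.obj ((singleFunctor A 0).obj G)) (T adjD Z G n x) = 0 := by
      have h2 := congrArg (fun y => Ext.comp y (Ext.mk₀ ((hq m').inv.app G)) (add_zero i')) hx
      simp only [Ext.zero_comp] at h2
      rw [Ext.comp_assoc_of_third_deg_zero, Ext.mk₀_comp_mk₀] at h2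
      erw [Iso.hom_inv_id_app] at h2
      exact (Ext.comp_mk₀_id _).symm.trans h2
    obtain ⟨y, hy⟩ := (ex _).1 h1
    refine ⟨y.comp (Ext.mk₀ ((hq m).hom.app G)) (add_zero i), ?_⟩
    rw [low_apply, Ext.comp_assoc_of_third_deg_zero, Ext.mk₀_comp_mk₀]
    have h3 : y.comp (Ext.mk₀ ((hq m).hom.app G ≫ (hq m).inv.app G)) (add_zero i) = y := by
      rw [Iso.hom_inv_id_app]
      exact Ext.comp_mk₀_id _
    rw [h3, hy, AddEquiv.symm_apply_apply]
  · rintro ⟨y, rfl⟩
    rw [high_apply, low_apply, AddEquiv.apply_symm_apply]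
    have h1 := (ex (ExtTrunc.lo.{w'} (m : ℤ) (n : ℤ) i (by exact_mod_cast h) Z
      (R.obj ((singleFunctor A 0).obj G)) (y.comp (Ext.mk₀ ((hq m).inv.app G)) (add_zero i)))).2 ⟨_, rfl⟩
    rw [h1, Ext.zero_comp]

/-- Top degree criterion for the edge map `high`. -/
theorem high_bijective (m n i : ℕ) (h : i + m = n) (Z : B) (G : A)
    (hG : ∀ q, m < q → IsZero ((F.rightDerived q).obj G))
    (hv : ∀ q j : ℕ, q < m → (j + q = n ∨ j + q = n + 1) →
      Subsingleton (Ext.{w'} Z ((F.rightDerived q).obj G) j)) :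
    Function.Bijective (high adjD F hq hge m n i h Z G hG) := by
  have i1 := isLE_of F hq hge m G hG
  have i2 := hge G
  have hb := ExtTrunc.hi_bijective.{w'} 0 (m : ℤ) (n : ℤ) i (by exact_mod_cast h) Z
    (R.obj ((singleFunctor A 0).obj G)) (fun q j h0 h1 h2 => by
      obtain ⟨q, rfl⟩ := Int.eq_ofNat_of_zero_le h0
      have h3 := hv q j (by lia) (by lia)
      refine ⟨fun x y => ?_⟩
      have h4 : ∀ z : Ext.{w'} Z ((homologyFunctor B (q : ℤ)).obj (R.obj ((singleFunctor A 0).obj G))) j,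
          z = (z.comp (Ext.mk₀ ((hq q).hom.app G)) (add_zero j)).comp
            (Ext.mk₀ ((hq q).inv.app G)) (add_zero j) := by
        intro z
        rw [Ext.comp_assoc_of_third_deg_zero, Ext.mk₀_comp_mk₀, Iso.hom_inv_id_app]
        exact (Ext.comp_mk₀_id _).symm
      rw [h4 x, h4 y]
      exact congrArg (fun z => Ext.comp z _ (add_zero j)) (h3.elim _ _))
  have hb2 : Function.Bijective (fun y : Ext.{w'} Z ((homologyFunctor B (m : ℤ)).obj
      (R.obj ((singleFunctor A 0).obj G))) i => y.comp (Ext.mk₀ ((hq m).hom.app G)) (add_zero i)) := by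
    refine Function.bijective_iff_has_inverse.2
      ⟨fun y => y.comp (Ext.mk₀ ((hq m).inv.app G)) (add_zero i), fun y => ?_, fun y => ?_⟩
    · change (y.comp (Ext.mk₀ ((hq m).hom.app G)) (add_zero i)).comp
        (Ext.mk₀ ((hq m).inv.app G)) (add_zero i) = y
      rw [Ext.comp_assoc_of_third_deg_zero, Ext.mk₀_comp_mk₀, Iso.hom_inv_id_app]
      exact Ext.comp_mk₀_id _
    · change (y.comp (Ext.mk₀ ((hq m).inv.app G)) (add_zero i)).comp
        (Ext.mk₀ ((hq m).hom.app G)) (add_zero i) = y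
      rw [Ext.comp_assoc_of_third_deg_zero, Ext.mk₀_comp_mk₀, Iso.inv_hom_id_app]
      exact Ext.comp_mk₀_id _
  exact hb2.comp (hb.comp (T adjD Z G n).bijective)

/-- Criterion for bijectivity of the edge map `low` (higher rows do not contribute). -/
theorem low_bijective (m b n i : ℕ) (h : i + m = n) (Z : B) (G : A)
    (hG : ∀ q, q < m → IsZero ((F.rightDerived q).obj G))
    (hb : ∀ q, b < q → IsZero ((F.rightDerived q).obj G))
    (hv : ∀ q j : ℕ, m < q → q ≤ b → (j + q = n ∨ j + q + 1 = n) →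
      Subsingleton (Ext.{w'} Z ((F.rightDerived q).obj G) j)) :
    Function.Bijective (low adjD F hq hge m n i h Z G hG) := by
  have i1 := isGE_of F hq hge m G hG
  have i2 := isLE_of F hq hge b G hb
  have hb := ExtTrunc.lo_bijective.{w'} (m : ℤ) (b : ℤ) (n : ℤ) i (by exact_mod_cast h) Z
    (R.obj ((singleFunctor A 0).obj G)) (fun q j h0 h1 h2 => by
      obtain ⟨q, rfl⟩ := Int.eq_ofNat_of_zero_le (a := q) (by lia)
      have h3 := hv q j (by lia) (by lia) (by lia)
      refine ⟨fun x y => ?_⟩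
      have h4 : ∀ z : Ext.{w'} Z ((homologyFunctor B (q : ℤ)).obj (R.obj ((singleFunctor A 0).obj G))) j,
          z = (z.comp (Ext.mk₀ ((hq q).hom.app G)) (add_zero j)).comp
            (Ext.mk₀ ((hq q).inv.app G)) (add_zero j) := by
        intro z
        rw [Ext.comp_assoc_of_third_deg_zero, Ext.mk₀_comp_mk₀, Iso.hom_inv_id_app]
        exact (Ext.comp_mk₀_id _).symm
      rw [h4 x, h4 y]
      exact congrArg (fun z => Ext.comp z _ (add_zero j)) (h3.elim _ _))
  have hb2 : Function.Bijective (fun y : Ext.{w'} Z ((F.rightDerived m).obj G) i =>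
      y.comp (Ext.mk₀ ((hq m).inv.app G)) (add_zero i)) := by
    refine Function.bijective_iff_has_inverse.2
      ⟨fun y => y.comp (Ext.mk₀ ((hq m).hom.app G)) (add_zero i), fun y => ?_, fun y => ?_⟩
    · change (y.comp (Ext.mk₀ ((hq m).inv.app G)) (add_zero i)).comp
        (Ext.mk₀ ((hq m).hom.app G)) (add_zero i) = y
      rw [Ext.comp_assoc_of_third_deg_zero, Ext.mk₀_comp_mk₀, Iso.inv_hom_id_app]
      exact Ext.comp_mk₀_id _
    · change (y.comp (Ext.mk₀ ((hq m).hom.app G)) (add_zero i)).comp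
        (Ext.mk₀ ((hq m).inv.app G)) (add_zero i) = y
      rw [Ext.comp_assoc_of_third_deg_zero, Ext.mk₀_comp_mk₀, Iso.hom_inv_id_app]
      exact Ext.comp_mk₀_id _
  exact (T adjD Z G n).symm.bijective.comp (hb.comp hb2)

include adjD hq hge in
/-- Vanishing of `Ext^n(LZ, G)` from the vanishing of all `Ext^j(Z, R^q F G)`, `j + q = n`. -/
theorem subsingleton_of (b n : ℕ) (Z : B) (G : A) (hb : ∀ q, b < q → IsZero ((F.rightDerived q).obj G))
    (hv : ∀ q j : ℕ, q ≤ b → j + q = n → Subsingleton (Ext.{w'} Z ((F.rightDerived q).obj G) j)) :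
    Subsingleton (Ext.{w} (L.obj Z) G n) := by
  have i1 := hge G
  have i2 := isLE_of F hq hge b G hb
  refine ⟨fun x y => (T adjD Z G n).injective ?_⟩
  have key : ∀ f : (singleFunctor B 0).obj Z ⟶ (R.obj ((singleFunctor A 0).obj G))⟦(n : ℤ)⟧, f = 0 := by
    intro f
    refine ExtTrunc.hom_eq_zero_of_ext.{w'} 0 (b : ℤ) (n : ℤ) Z _ (fun q j h0 h1 h2 => ?_) f
    obtain ⟨q, rfl⟩ := Int.eq_ofNat_of_zero_le h0
    have h3 := hv q j (by lia) (by lia)
    refine ⟨fun x y => ?_⟩
    have h4 : ∀ z : Ext.{w'} Z ((homologyFunctor B (q : ℤ)).obj (R.obj ((singleFunctor A 0).obj G))) j,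
        z = (z.comp (Ext.mk₀ ((hq q).hom.app G)) (add_zero j)).comp
          (Ext.mk₀ ((hq q).inv.app G)) (add_zero j) := by
      intro z
      rw [Ext.comp_assoc_of_third_deg_zero, Ext.mk₀_comp_mk₀, Iso.hom_inv_id_app]
      exact (Ext.comp_mk₀_id _).symm
    rw [h4 x, h4 y]
    exact congrArg (fun z => Ext.comp z _ (add_zero j)) (h3.elim _ _)
  rw [key (T adjD Z G n x), key (T adjD Z G n y)]

end Groth.Agent.Sga4B.AdjExt
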