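import Groth.Agent.Sga4B.EUFun
import Groth.Agent.S0101

/-!
# Instances with the preadditive structure coming from `Abelian (EtCoh.Ab X)`

(The kernel needs about a second each time it has to compare `Preadditive.fullSubcategory` and
`Abelian.toPreadditive` on `EtCoh.Ab X`; these named instances avoid the comparison.)
`open scoped Groth.Agent.Sga4B.EtAbInst`.
-/

set_option autoImplicit false
universe u v₁ v₂ u₁ u₂

open CategoryTheory CategoryTheory.Limits AlgebraicGeometry Opposite

namespace Groth.Agent.Sga4B.EtAbInst

section Gen

variable {C : Type u₁} [Category.{v₁} C] [Abelian C] {D : Type u₂} [Category.{v₂} D] [Abelian D]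

theorem additive_gen (G : C ⥤ D) [G.Additive] : G.Additive := inferInstance

theorem additive_pfl (G : C ⥤ D) [PreservesFiniteLimits G] : G.Additive :=
  Functor.additive_of_preserves_binary_products G

theorem pzm_gen (G : C ⥤ D) [G.Additive] : G.PreservesZeroMorphisms := inferInstance

theorem enoughInj_gen (C : Type u₁) [Category.{v₁} C] [Abelian C] [EnoughInjectives C] :
    EnoughInjectives C := inferInstance

end Gen

variable {X Y : Scheme.{u}}

theorem hasSheafify (X : Scheme.{u}) :
    HasSheafify X.smallEtaleTopology AddCommGrpCat.{u + 1} := inferInstance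

attribute [scoped instance 10000] hasSheafify

theorem enoughInj (X : Scheme.{u}) : EnoughInjectives (EtCoh.Ab X) := inferInstance

attribute [scoped instance 10000] enoughInj

theorem pull_pfl (g : X ⟶ Y) : PreservesFiniteLimits (EtCoh.pull g) := Groth.Agent.S0101.result g

theorem pull_pfc (g : X ⟶ Y) : PreservesFiniteColimits (EtCoh.pull g) :=
  EtCore.pull_preservesFiniteColimits g

attribute [scoped instance 10000] pull_pfl pull_pfc

theorem pull_additive (g : X ⟶ Y) : type_of% (additive_pfl (EtCoh.pull g)) :=
  additive_pfl (EtCoh.pull g)

attribute [scoped instance 10000] pull_additive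

theorem push_additive (g : X ⟶ Y) : type_of% (additive_gen (EtCoh.push g)) :=
  additive_gen (EtCoh.push g)

attribute [scoped instance 10000] push_additive

theorem EU_additive (U : Y.Etale) : type_of% (additive_gen (EUFun.EU U)) :=
  additive_gen (EUFun.EU U)

attribute [scoped instance 10000] EU_additive

end Groth.Agent.Sga4B.EtAbInst
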