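import Groth.Agent.Sga4B.DeltaH
import Groth.Agent.EtpbcB.BCCalc
import Groth.Agent.Etrest.AcycTors
import Groth.Agent.Sga4B.EtAbInst

/-!
# The canonical base change map for `R^q f_*`, as a morphism of delta functors

* `RpushD f` : the delta functor `q ↦ R^q f_*` (`(RpushD f).T q = EtCoh.Rpush f q`); effaceable;
* `bc0 w` : the degree zero base change map `R^0 f_* ⋙ g^* ⟶ g'^* ⋙ R^0 f'_*`;
* `BC w` : its extension to all degrees, a morphism of delta functors; `BC_app_zero`;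
* `isIso_BC` (in `Groth.Agent.Sga4B.BCDelta`): it is an isomorphism on torsion sheaves for `f` proper and
  a cartesian square.
-/

set_option autoImplicit false
universe u

open CategoryTheory CategoryTheory.Limits AlgebraicGeometry Opposite

namespace Groth.Agent.Sga4B.BCDelta

open Groth.Agent.Localalg.DeltaFun
open scoped Groth.Agent.Sga4B.EtAbInst

variable {X Y X' Y' : Scheme.{u}}

/-- The delta functor `q ↦ R^q f_*`. -/
noncomputable def RpushD (f : X ⟶ Y) : DeltaFunctor (EtCoh.Ab X) (EtCoh.Ab Y) :=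
  DeltaH.ofRightDerived (EtCoh.push f)

theorem RpushD_T (f : X ⟶ Y) (q : ℕ) : (RpushD f).T q = EtCoh.Rpush f q := rfl

theorem RpushD_eff (f : X ⟶ Y) : (RpushD f).Effaceable :=
  DeltaH.ofRightDerived_effaceable (EtCoh.push f)

/-- `R^0 f_* ≅ f_*`. -/
noncomputable def zeroIso (f : X ⟶ Y) : EtCoh.Rpush f 0 ≅ EtCoh.push f :=
  (EtCoh.push f).rightDerivedZeroIsoSelf

/-- `q ↦ g^* R^q f_*`. -/
noncomputable def srcD (f : X ⟶ Y) (g : Y' ⟶ Y) : DeltaFunctor (EtCoh.Ab X) (EtCoh.Ab Y') :=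
  (RpushD f).postcomp (EtCoh.pull g)

/-- `q ↦ R^q f'_* g'^*`. -/
noncomputable def tgtD (f' : X' ⟶ Y') (g' : X' ⟶ X) : DeltaFunctor (EtCoh.Ab X) (EtCoh.Ab Y') :=
  (RpushD f').precomp (EtCoh.pull g')

theorem srcD_eff (f : X ⟶ Y) (g : Y' ⟶ Y) : (srcD f g).Effaceable :=
  fun J _ n => (EtCoh.pull g).map_isZero (RpushD_eff f J n)

/-- The degree zero base change map. -/
noncomputable def bc0 {f : X ⟶ Y} {g : Y' ⟶ Y} {f' : X' ⟶ Y'} {g' : X' ⟶ X}
    (w : g' ≫ f = f' ≫ g) :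
    EtCoh.Rpush f 0 ⋙ EtCoh.pull g ⟶ EtCoh.pull g' ⋙ EtCoh.Rpush f' 0 :=
  Functor.whiskerRight (zeroIso f).hom (EtCoh.pull g) ≫ EtpbcB.BCCalc.bcNat w ≫
    Functor.whiskerLeft (EtCoh.pull g') (zeroIso f').inv

theorem bc0_app {f : X ⟶ Y} {g : Y' ⟶ Y} {f' : X' ⟶ Y'} {g' : X' ⟶ X}
    (w : g' ≫ f = f' ≫ g) (F : EtCoh.Ab X) :
    (bc0 w).app F = (EtCoh.pull g).map ((zeroIso f).hom.app F) ≫
      EtCoh.baseChange0 f g f' g' w F ≫ (zeroIso f').inv.app ((EtCoh.pull g').obj F) := rfl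

theorem exists_BC {f : X ⟶ Y} {g : Y' ⟶ Y} {f' : X' ⟶ Y'} {g' : X' ⟶ X}
    (w : g' ≫ f = f' ≫ g) : ∃ Φ : DeltaHom (srcD f g) (tgtD f' g'), Φ.app 0 = bc0 w :=
  exists_deltaHom (srcD f g) (tgtD f' g') (srcD_eff f g) (bc0 w)

/-- **The canonical base change map** `g^* R^q f_* ⟶ R^q f'_* g'^*`, as a morphism of delta
functors. -/
noncomputable def BC {f : X ⟶ Y} {g : Y' ⟶ Y} {f' : X' ⟶ Y'} {g' : X' ⟶ X}
    (w : g' ≫ f = f' ≫ g) : DeltaHom (srcD f g) (tgtD f' g') :=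
  (exists_BC w).choose

theorem BC_app_zero {f : X ⟶ Y} {g : Y' ⟶ Y} {f' : X' ⟶ Y'} {g' : X' ⟶ X}
    (w : g' ≫ f = f' ≫ g) : (BC w).app 0 = bc0 w :=
  (exists_BC w).choose_spec

/-- The canonical base change map in degree `q`. -/
noncomputable def BCq {f : X ⟶ Y} {g : Y' ⟶ Y} {f' : X' ⟶ Y'} {g' : X' ⟶ X}
    (w : g' ≫ f = f' ≫ g) (q : ℕ) :
    EtCoh.Rpush f q ⋙ EtCoh.pull g ⟶ EtCoh.pull g' ⋙ EtCoh.Rpush f' q :=
  (BC w).app q

/-- Canonical base change maps are isomorphisms on torsion sheaves, given the degree zero case and the existence of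
isomorphisms for the sheaves `tor J`. -/
theorem isIso_BC_of {f : X ⟶ Y} {g : Y' ⟶ Y} {f' : X' ⟶ Y'} {g' : X' ⟶ X}
    (w : g' ≫ f = f' ≫ g) [QuasiCompact f] [QuasiSeparated f]
    (h0 : ∀ F : EtCoh.Ab X, EtCoh.IsTorsion F → IsIso (EtCoh.baseChange0 f g f' g' w F))
    (h1 : ∀ F : EtCoh.Ab X, EtCoh.IsTorsion F → ∀ q : ℕ,
      Nonempty ((EtCoh.pull g).obj ((EtCoh.Rpush f q).obj F) ≅
      (EtCoh.Rpush f' q).obj ((EtCoh.pull g').obj F))) (q : ℕ) (F : EtCoh.Ab X)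
      (hF : EtCoh.IsTorsion F) : IsIso ((BCq w q).app F) := by
  refine DeltaH.isIso_of_class (BC w) EtCoh.IsTorsion
    (fun p _ hG => Etrest.TorsEt.isTorsion_of_epi p hG) ?_ ?_ q F hF
  · intro G hG
    rw [BC_app_zero, bc0_app]
    have h1 : IsIso (EtCoh.baseChange0 f g f' g' w G) := h0 G hG
    have h2 : IsIso ((EtCoh.pull g).map ((zeroIso f).hom.app G)) := inferInstance
    have h3 : IsIso ((zeroIso f').inv.app ((EtCoh.pull g').obj G)) := inferInstance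
    have h4 : IsIso (EtCoh.baseChange0 f g f' g' w G ≫
      (zeroIso f').inv.app ((EtCoh.pull g').obj G)) := IsIso.comp_isIso' h1 h3
    exact IsIso.comp_isIso' h2 h4
  · intro G hG
    obtain ⟨J, hJ, i, hi⟩ := Etrest.AcycTors.exists_mono_tor G hG
    refine ⟨_, i, hi, Etrest.TorsEt.isTorsion_tor J, fun n => ?_⟩
    have h2 : IsZero ((EtCoh.Rpush f (n + 1)).obj (Etrest.Tors.tor.obj J)) :=
      Etrest.AcycTors.isZero_Rpush_tor f J (n + 1) (Nat.succ_pos n)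
    have h3 : IsZero ((EtCoh.pull g).obj ((EtCoh.Rpush f (n + 1)).obj (Etrest.Tors.tor.obj J))) :=
      (EtCoh.pull g).map_isZero h2
    obtain ⟨e⟩ := h1 _ (Etrest.TorsEt.isTorsion_tor J) (n + 1)
    exact ⟨h3, h3.of_iso e.symm⟩

end Groth.Agent.Sga4B.BCDelta
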