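import Mathlib.AlgebraicGeometry.Morphisms.FlatRank
import Mathlib.AlgebraicGeometry.Limits

/-!
# Rank of clopen pieces of a finite flat scheme

For `h : Y ⟶ V` finite flat and a finite decomposition of `Y` into disjoint opens, the rank of `h`
is the sum of the ranks of the pieces.
-/

set_option autoImplicit false
universe u

open CategoryTheory CategoryTheory.Limits AlgebraicGeometry

namespace Groth.Agent.Sga4B.ClopenRank

open scoped Function in
theorem finrank_eq_sum_of_affine {ι : Type u} [Fintype ι] (R : CommRingCat.{u}) {Z : ι → Scheme.{u}}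
    {Y : Scheme.{u}}
    (g : ∀ i, Z i ⟶ Y) [∀ i, IsOpenImmersion (g i)]
    (hcov : ⨆ i, (g i).opensRange = ⊤) (hdisj : Pairwise (Disjoint on (g · |>.opensRange)))
    (h : Y ⟶ Spec R) [IsFinite h] [Flat h] [∀ i, IsFinite (g i ≫ h)] (v : Spec R) :
    h.finrank v = ∑ i, (g i ≫ h).finrank v := by
  have haff (i : ι) : IsAffine (Z i) := isAffine_of_isAffineHom (g i ≫ h)
  have hd : IsIso (Sigma.desc g) := by
    obtain ⟨hc⟩ := nonempty_isColimit_cofanMk_of g hcov hdisj
    exact (Cofan.nonempty_isColimit_iff_isIso_sigmaDesc (Cofan.mk Y g)).1 ⟨hc⟩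
  choose ψ hψ using fun i => Spec.map_surjective ((Z i).isoSpec.inv ≫ g i ≫ h)
  have hf (i : ι) : IsFinite (Spec.map (ψ i)) := by rw [hψ i]; infer_instance
  have hfl (i : ι) : Flat (Spec.map (ψ i)) := by rw [hψ i]; infer_instance
  let A : ι → CommRingCat.{u} := fun i => Γ(Z i, ⊤)
  let _ (i : ι) : Algebra R (A i) := (ψ i).hom.toAlgebra
  have e1 (i : ι) : CommRingCat.ofHom (algebraMap R (A i)) = ψ i := rfl
  have hf' (i : ι) : Module.Finite R (A i) := (IsFinite.SpecMap_iff _).1 (hf i)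
  have hfl' (i : ι) : Module.Flat R (A i) := (Flat.SpecMap_iff).1 (hfl i)
  let φ : Spec (.of (∀ i, A i)) ⟶ Y :=
    inv (sigmaSpec A) ≫ (Sigma.mapIso (fun i => (Z i).isoSpec)).inv ≫ Sigma.desc g
  have hφ : φ ≫ h = Spec.map (CommRingCat.ofHom (algebraMap R (∀ i, A i))) := by
    rw [Category.assoc, IsIso.inv_comp_eq]
    apply Sigma.hom_ext
    intro i
    rw [ι_sigmaSpec_assoc, ← Spec.map_comp]
    have : CommRingCat.ofHom (algebraMap R (∀ i, A i)) ≫
        CommRingCat.ofHom (Pi.evalRingHom (fun i => (A i : Type u)) i) = ψ i := rfl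
    erw [this, hψ i]
    simp
  have hfp : Module.Finite R (∀ i, A i) := Module.Finite.pi
  have hflp : Module.Flat R (∀ i, A i) := Module.Flat.of_linearEquiv
    (DirectSum.linearEquivFunOnFintype R ι (fun i => (A i : Type u))).symm
  have e2 : h.finrank v = (φ ≫ h).finrank v := by
    rw [Scheme.Hom.finrank_comp_left_of_isIso]
  have e3 (i : ι) : (g i ≫ h).finrank v =
      (Spec.map (CommRingCat.ofHom (algebraMap R (A i)))).finrank v := by
    rw [e1, hψ]
    exact (congrFun (Scheme.Hom.finrank_comp_left_of_isIso (Z i).isoSpec.inv (g i ≫ h)) v).symm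
  rw [e2, hφ]
  refine (Scheme.Hom.finrank_SpecMap_algebraMap R (∀ i, A i) v).trans ?_
  rw [Module.rankAtStalk_pi, finsum_eq_sum_of_fintype]
  refine Finset.sum_congr rfl fun i _ => ?_
  rw [e3]
  exact (Scheme.Hom.finrank_SpecMap_algebraMap R (A i) v).symm

open scoped Function in
theorem finrank_eq_sum {ι : Type u} [Fintype ι] {Z : ι → Scheme.{u}} {Y V : Scheme.{u}}
    (g : ∀ i, Z i ⟶ Y) [∀ i, IsOpenImmersion (g i)]
    (hcov : ⨆ i, (g i).opensRange = ⊤) (hdisj : Pairwise (Disjoint on (g · |>.opensRange)))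
    (h : Y ⟶ V) [IsFinite h] [Flat h] [∀ i, IsFinite (g i ≫ h)] (v : V) :
    h.finrank v = ∑ i, (g i ≫ h).finrank v := by
  obtain ⟨R, j, _, r, rfl⟩ := Scheme.exists_Spec_apply_eq v
  have hr : j.base r = j r := rfl
  rw [hr, ← Scheme.Hom.finrank_pullback_snd h j r]
  let k : pullback h j ⟶ Y := pullback.fst h j
  have hsq (i : ι) : IsPullback (pullback.snd k (g i)) (pullback.fst k (g i) ≫ pullback.snd h j)
      (g i ≫ h) j :=
    (IsPullback.of_hasPullback k (g i)).flip.paste_vert (IsPullback.of_hasPullback h j)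
  have hfin (i : ι) : IsFinite (pullback.fst k (g i) ≫ pullback.snd h j) :=
    MorphismProperty.of_isPullback (hsq i) inferInstance
  rw [finrank_eq_sum_of_affine R (fun i => pullback.fst k (g i)) ?_ ?_ (pullback.snd h j) r]
  · refine Finset.sum_congr rfl fun i _ => ?_
    rw [Scheme.Hom.finrank_of_isPullback _ _ _ _ (hsq i)]
  · rw [eq_top_iff]
    intro x _
    have hx : k x ∈ ⨆ i, (g i).opensRange := by rw [hcov]; trivial
    obtain ⟨i, hi⟩ := TopologicalSpace.Opens.mem_iSup.1 hx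
    refine TopologicalSpace.Opens.mem_iSup.2 ⟨i, ?_⟩
    rw [Scheme.Hom.opensRange_pullbackFst]
    exact hi
  · intro a b hab
    change Disjoint (pullback.fst k (g a)).opensRange (pullback.fst k (g b)).opensRange
    rw [Scheme.Hom.opensRange_pullbackFst, Scheme.Hom.opensRange_pullbackFst]
    have hd : Disjoint (g a).opensRange (g b).opensRange := hdisj hab
    rw [disjoint_iff] at hd ⊢
    rw [← Scheme.Hom.preimage_inf, hd, Scheme.Hom.preimage_bot]

/-! ### Colourings -/

section Colouring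

variable {Y V : Scheme.{u}} {ι κ : Type u}

/-- the open piece of colour `i` -/
def piece (c : Y → ι) (hc : IsLocallyConstant c) (i : ι) : Y.Opens := ⟨c ⁻¹' {i}, hc.isOpen_fiber i⟩

theorem mem_piece (c : Y → ι) (hc : IsLocallyConstant c) (i : ι) (y : Y) :
    y ∈ piece c hc i ↔ c y = i := Iff.rfl

theorem range_piece_ι (c : Y → ι) (hc : IsLocallyConstant c) (i : ι) :
    Set.range (piece c hc i).ι = c ⁻¹' {i} := by
  rw [Scheme.Opens.range_ι]; rfl

instance (c : Y → ι) (hc : IsLocallyConstant c) (i : ι) : IsClosedImmersion (piece c hc i).ι := by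
  apply IsClosedImmersion.of_isPreimmersion
  rw [range_piece_ι]
  exact hc.isClosed_fiber i

/-- the rank of the piece of colour `i` -/
noncomputable def rk (g : Y ⟶ V) (c : Y → ι) (hc : IsLocallyConstant c) (i : ι) (v : V) : ℕ :=
  ((piece c hc i).ι ≫ g).finrank v

theorem isLocallyConstant_rk (g : Y ⟶ V) [IsFinite g] [Flat g] [LocallyOfFinitePresentation g]
    (c : Y → ι) (hc : IsLocallyConstant c) (i : ι) : IsLocallyConstant (rk g c hc i) :=
  Scheme.Hom.isLocallyConstant_finrank ((piece c hc i).ι ≫ g)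

theorem rk_baseChange {Y' V' : Scheme.{u}} {k : Y' ⟶ Y} {g' : Y' ⟶ V'} {g : Y ⟶ V} {h : V' ⟶ V}
    (sq : IsPullback k g' g h) [IsFinite g] [Flat g] (c : Y → ι) (hc : IsLocallyConstant c)
    (c' : Y' → ι) (hc' : IsLocallyConstant c') (e : ∀ y, c' y = c (k y))
    (i : ι) (v' : V') :
    rk g' c' hc' i v' = rk g c hc i (h v') := by
  have hp : piece c' hc' i = k ⁻¹ᵁ (piece c hc i) := by
    ext y
    change c' y = i ↔ c (k y) = i
    rw [e]
  rw [rk, hp, rk]
  exact Scheme.Hom.finrank_of_isPullback (k ∣_ (piece c hc i)) _ _ h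
    ((isPullback_morphismRestrict k (piece c hc i)).flip.flip.paste_vert sq) v'

theorem finrank_eq_sum_rk [Fintype ι] (g : Y ⟶ V) [IsFinite g] [Flat g] (c : Y → ι)
    (hc : IsLocallyConstant c) (v : V) : g.finrank v = ∑ i, rk g c hc i v := by
  refine finrank_eq_sum (fun i => (piece c hc i).ι) ?_ ?_ g v
  · rw [eq_top_iff]
    intro y _
    refine TopologicalSpace.Opens.mem_iSup.2 ⟨c y, ?_⟩
    rw [Scheme.Opens.opensRange_ι]
    exact rfl
  · intro a b hab
    change Disjoint (piece c hc a).ι.opensRange (piece c hc b).ι.opensRange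
    rw [Scheme.Opens.opensRange_ι, Scheme.Opens.opensRange_ι, disjoint_iff, eq_bot_iff]
    rintro y ⟨h1, h2⟩
    exact hab ((show c y = a from h1).symm.trans h2)

theorem rk_eq_sum [Fintype κ] [DecidableEq ι] (g : Y ⟶ V) [IsFinite g] [Flat g]
    (c : Y → ι) (hc : IsLocallyConstant c) (d : Y → κ) (hd : IsLocallyConstant d) (p : κ → ι)
    (e : ∀ y, c y = p (d y)) (i : ι) (v : V) :
    rk g c hc i v = ∑ j : {j : κ // p j = i}, rk g d hd j.1 v := by
  have hle (j : {j : κ // p j = i}) : piece d hd j.1 ≤ piece c hc i := by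
    intro y hy
    have hy' : d y = j.1 := hy
    change c y = i
    rw [e, hy', j.2]
  have hcomp (j : {j : κ // p j = i}) :
      Y.homOfLE (hle j) ≫ (piece c hc i).ι ≫ g = (piece d hd j.1).ι ≫ g := by
    rw [← Category.assoc, Scheme.homOfLE_ι]
  have hfin (j : {j : κ // p j = i}) :
      IsFinite (Y.homOfLE (hle j) ≫ (piece c hc i).ι ≫ g) := by
    rw [hcomp]; infer_instance
  have hmem (j : {j : κ // p j = i}) (y : (piece c hc i : Scheme.{u})) :
      y ∈ (Y.homOfLE (hle j)).opensRange ↔ d ((piece c hc i).ι y) = j.1 := by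
    constructor
    · rintro ⟨x, rfl⟩
      rw [← Scheme.Hom.comp_apply, Scheme.homOfLE_ι]
      exact x.2
    · intro h
      refine ⟨⟨y.1, h⟩, ?_⟩
      rw [Scheme.homOfLE_apply']
      rfl
  rw [rk, finrank_eq_sum (fun j : {j : κ // p j = i} => Y.homOfLE (hle j)) ?_ ?_
    ((piece c hc i).ι ≫ g) v]
  · exact Finset.sum_congr rfl fun j _ => by rw [hcomp]; rfl
  · rw [eq_top_iff]
    intro y _
    have hy : c ((piece c hc i).ι y) = i := y.2
    refine TopologicalSpace.Opens.mem_iSup.2 ⟨⟨d ((piece c hc i).ι y), by rw [← e, hy]⟩, ?_⟩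
    rw [hmem]
  · intro a b hab
    change Disjoint (Y.homOfLE (hle a)).opensRange (Y.homOfLE (hle b)).opensRange
    rw [disjoint_iff, eq_bot_iff]
    rintro y ⟨h1, h2⟩
    exact hab (Subtype.ext (((hmem a y).1 h1).symm.trans ((hmem b y).1 h2)))

theorem exists_of_finrank_pos {Z : Scheme.{u}} (f : Z ⟶ V) [IsFinite f] [Flat f] (v : V)
    (h : 1 ≤ f.finrank v) : ∃ z, f z = v := by
  let k := V.fromSpecResidueField v
  have hs : Surjective (pullback.snd f k) := by
    rw [← Scheme.Hom.one_le_finrank_iff_surjective]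
    intro x
    rw [Scheme.Hom.finrank_pullback_snd, Scheme.fromSpecResidueField_apply]
    exact h
  obtain ⟨x⟩ : Nonempty (Spec (V.residueField v)) := inferInstance
  obtain ⟨y, hy⟩ := (pullback.snd f k).surjective x
  refine ⟨pullback.fst f k y, ?_⟩
  rw [← Scheme.Hom.comp_apply, pullback.condition, Scheme.Hom.comp_apply, hy]
  exact Scheme.fromSpecResidueField_apply _ _

theorem exists_of_rk_pos (g : Y ⟶ V) [IsFinite g] [Flat g] (c : Y → ι)
    (hc : IsLocallyConstant c) (i : ι) (v : V) (h : 1 ≤ rk g c hc i v) :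
    ∃ y, c y = i ∧ g y = v := by
  obtain ⟨z, hz⟩ := exists_of_finrank_pos ((piece c hc i).ι ≫ g) v h
  exact ⟨(piece c hc i).ι z, z.2, by rw [← hz]; rfl⟩

end Colouring

end Groth.Agent.Sga4B.ClopenRank
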