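import Groth.Agent.Sga4B.DualExist
import Mathlib.Analysis.Fourier.FiniteAbelian.PontryaginDuality
import Mathlib.Analysis.SpecialFunctions.Complex.CircleAddChar

/-!
# Abstract part of the duality on curves

* `exists_dualizing_zero`: existence of the dualizing object, duality in degree `0`;
* `phi_one_bijective`: duality in degree `1` by counting;
* `kill`: classes of `Ext^m(Z, Ψ F')` die in `Ext^m(Z, Ψ F)` if all of `Ext^1(F, K)` dies on `F'`.
-/

set_option autoImplicit false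
set_option linter.unusedSectionVars false

universe v u u' t

open CategoryTheory CategoryTheory.Limits CategoryTheory.Abelian

namespace Groth.Agent.Sga4B.CurveDualAbs

open DualFormal DualExist

/-- `|Hom(G, ℤ/n)| ≤ |G|`. -/
theorem card_hom_le {n : ℕ} (hn : n ≠ 0) (G : Type u) [AddCommGroup G] [Finite G] :
    Finite (G →+ ZMod n) ∧ Nat.card (G →+ ZMod n) ≤ Nat.card G := by
  have : NeZero n := ⟨hn⟩
  have := Fintype.ofFinite G
  have h1 : Function.Injective (fun β : G →+ ZMod n =>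
      (ZMod.stdAddChar (N := n)).compAddMonoidHom β) := by
    intro β β' h
    ext g
    have := DFunLike.congr_fun h g
    exact ZMod.injective_stdAddChar this
  have hf : Finite (G →+ ZMod n) := Finite.of_injective _ h1
  refine ⟨hf, ?_⟩
  have h2 := Nat.card_le_card_of_injective _ h1
  rw [Nat.card_eq_fintype_card (α := G), ← AddChar.card_eq]
  rwa [Nat.card_eq_fintype_card (α := AddChar G ℂ)] at h2

theorem card_hom_le_ulift {n : ℕ} (hn : n ≠ 0) (G : Type u) [AddCommGroup G] [Finite G] :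
    Finite (G →+ ULift.{t} (ZMod n)) ∧ Nat.card (G →+ ULift.{t} (ZMod n)) ≤ Nat.card G := by
  obtain ⟨h1, h2⟩ := card_hom_le hn G
  have hinj : Function.Injective (fun f : G →+ ULift.{t} (ZMod n) =>
      AddEquiv.ulift.toAddMonoidHom.comp f) := by
    intro f g h
    ext x
    exact DFunLike.congr_fun h x
  have hf : Finite (G →+ ULift.{t} (ZMod n)) := Finite.of_injective _ hinj
  exact ⟨hf, (Nat.card_le_card_of_injective _ hinj).trans h2⟩

/-- An injection from a group of order `|G|` to `Hom(G, ℤ/n)` is bijective. -/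
theorem bijective_of_injective {n : ℕ} (hn : n ≠ 0) {G : Type u} [AddCommGroup G] [Finite G]
    {S : Type*} (f : S → (G →+ ULift.{t} (ZMod n))) (hf : Function.Injective f)
    (hcard : Nat.card S = Nat.card G) : Function.Bijective f := by
  obtain ⟨h1, h2⟩ := card_hom_le_ulift.{u, t} hn G
  refine (Nat.bijective_iff_injective_and_card f).2 ⟨hf, ?_⟩
  exact le_antisymm (Nat.card_le_card_of_injective f hf) (hcard ▸ h2)

variable {A : Type u} [Category.{v} A] [Abelian A] [IsGrothendieckAbelian.{v} A] [HasExt.{v} A]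
variable {B : Type u'} [Category.{v} B] [Abelian B] [HasExt.{v} B]
variable (Ψ : A ⥤ B) [Ψ.Additive] [PreservesFiniteLimits Ψ] [PreservesFiniteColimits Ψ]
variable (Z : B)

/-- **Existence of the dualizing object**, degree zero. -/
theorem exists_dualizing_zero (N : ℕ) (E : Type v) [AddCommGroup E]
    (htop : ∀ F : A, Subsingleton (Ext.{v} Z (Ψ.obj F) (N + 1)))
    (hcolim : ∀ (I : Type v) [SmallCategory I] [IsFiltered I],
      PreservesColimitsOfShape I (TF Ψ Z N)) :
    ∃ (K : A) (tr : Ext.{v} Z (Ψ.obj K) N →+ E),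
      ∀ F, Function.Bijective (phi Ψ Z tr F (q := 0) (m := N) (add_zero N)) := by
  have := preservesFiniteColimits_TF Ψ Z N htop
  obtain ⟨K, t, hK⟩ := AdjRep.exists_represent (TF Ψ Z N) hcolim (AddCommGrpCat.of E)
  let tr : Ext.{v} Z (Ψ.obj K) N →+ E := t.hom
  refine ⟨K, tr, fun F => ?_⟩
  have h1 : ∀ (a : F ⟶ K) (x : Ext.{v} Z (Ψ.obj F) N),
      phi Ψ Z tr F (q := 0) (m := N) (add_zero N) (Ext.mk₀ a) x =
        ((TF Ψ Z N).map a ≫ t).hom x := by
    intro a x
    rw [phi_apply, Ext.mapExactFunctor_mk₀]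
    rfl
  constructor
  · intro e e' hee
    obtain ⟨a, rfl⟩ := (Ext.mk₀_bijective F K).2 e
    obtain ⟨a', rfl⟩ := (Ext.mk₀_bijective F K).2 e'
    congr 1
    apply (hK F).1
    apply AddCommGrpCat.hom_ext
    ext x
    exact (h1 a x).symm.trans ((DFunLike.congr_fun hee x).trans (h1 a' x))
  · intro c
    obtain ⟨a, ha⟩ := (hK F).2 (AddCommGrpCat.ofHom c)
    refine ⟨Ext.mk₀ a, ?_⟩
    ext x
    rw [h1]
    exact DFunLike.congr_fun (congrArg AddCommGrpCat.Hom.hom ha) x

variable {Ψ Z}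

/-- Duality in degree `1` by counting. -/
theorem phi_one_bijective (n : ℕ) (hn : 0 < n)
    (hk : ∀ (F : A) (m : ℕ) (x : Ext.{v} Z (Ψ.obj F) m), n • x = 0) {K : A} {m : ℕ}
    (tr : Ext.{v} Z (Ψ.obj K) (m + 1) →+ ULift.{v} (ZMod n))
    (h0 : ∀ F, Function.Bijective (phi Ψ Z tr F (q := 0) (m := m + 1) (add_zero (m + 1))))
    (F : A) (hfin : Finite (Ext.{v} Z (Ψ.obj F) m))
    (hcard : Nat.card (Ext.{v} F K 1) = Nat.card (Ext.{v} Z (Ψ.obj F) m)) :
    Function.Bijective (phi Ψ Z tr F (q := 1) (m := m) rfl) := by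
  have hE := relInj_zmod Ψ Z n hn hk
  have h1 : Function.Injective (phi Ψ Z tr F (q := 1) (m := m) rfl) :=
    phi_injective_succ tr hE (q := 0) (m := m) rfl h0 F
  exact bijective_of_injective hn.ne' _ h1 hcard

/-- Classes of `Ext^m(Z, Ψ F')` die in `Ext^m(Z, Ψ F)` if all of `Ext^1(F, K)` dies on `F'`. -/
theorem kill (n : ℕ) (hn : 0 < n)
    (hk : ∀ (F : A) (m : ℕ) (x : Ext.{v} Z (Ψ.obj F) m), n • x = 0) {K : A} {m : ℕ}
    (tr : Ext.{v} Z (Ψ.obj K) (m + 1) →+ ULift.{v} (ZMod n)) (F : A)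
    (h1 : Function.Surjective (phi Ψ Z tr F (q := 1) (m := m) rfl))
    {F' : A} (g : F' ⟶ F) (hg : ∀ e : Ext.{v} F K 1, (Ext.mk₀ g).comp e (zero_add 1) = 0)
    (x : Ext.{v} Z (Ψ.obj F') m) : x.comp (Ext.mk₀ (Ψ.map g)) (add_zero m) = 0 := by
  refine ZModInj.eq_zero_of_forall n hn (hk F m) _ (fun b => ?_)
  obtain ⟨e, he⟩ := h1 (AddEquiv.ulift.symm.toAddMonoidHom.comp b)
  have h2 := phi_comp Ψ Z tr g (q := 1) (m := m) rfl e x
  rw [hg e, he] at h2
  have h3 : (ULift.up (b (x.comp (Ext.mk₀ (Ψ.map g)) (add_zero m))) : ULift.{v} (ZMod n)) =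
      phi Ψ Z tr F' (q := 1) (m := m) rfl 0 x := h2.symm
  rw [map_zero] at h3
  exact congrArg ULift.down h3

section DualHom

variable {n N : ℕ} {K : A} (tr : Ext.{v} Z (Ψ.obj K) N →+ ULift.{v} (ZMod n))
  (h0 : ∀ F, Function.Bijective (phi Ψ Z tr F (q := 0) (m := N) (add_zero N)))

/-- `Hom(F, K) = Hom(H^N(F), ℤ/n)`. -/
noncomputable def dualHom (F : A) : (F ⟶ K) ≃+ (Ext.{v} Z (Ψ.obj F) N →+ ZMod n) :=
  ((Ext.addEquiv₀ (X := F) (Y := K)).symm.trans (AddEquiv.ofBijective _ (h0 F))).trans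
    { toFun := fun f => AddEquiv.ulift.toAddMonoidHom.comp f
      invFun := fun f => AddEquiv.ulift.symm.toAddMonoidHom.comp f
      left_inv := fun _ => rfl
      right_inv := fun _ => rfl
      map_add' := fun _ _ => rfl }

theorem dualHom_apply (F : A) (a : F ⟶ K) (x : Ext.{v} Z (Ψ.obj F) N) :
    dualHom tr h0 F a x = ULift.down (tr (x.comp (Ext.mk₀ (Ψ.map a)) (add_zero N))) := by
  have h1 : dualHom tr h0 F a x =
      ULift.down (phi Ψ Z tr F (q := 0) (m := N) (add_zero N) (Ext.mk₀ a) x) := rfl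
  rw [h1, phi_apply, Ext.mapExactFunctor_mk₀]

theorem dualHom_comp {F F' : A} (p : F' ⟶ F) (a : F ⟶ K) :
    dualHom tr h0 F' (p ≫ a) = (dualHom tr h0 F a).comp ((TF Ψ Z N).map p).hom := by
  ext x
  rw [dualHom_apply]
  refine Eq.trans ?_ (dualHom_apply tr h0 F a (((TF Ψ Z N).map p).hom x)).symm
  have h2 : ((TF Ψ Z N).map p).hom x = x.comp (Ext.mk₀ (Ψ.map p)) (add_zero N) := rfl
  rw [h2, Ext.comp_assoc_of_third_deg_zero, Ext.mk₀_comp_mk₀, Functor.map_comp]

end DualHom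

end Groth.Agent.Sga4B.CurveDualAbs
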