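import Groth.Agent.Etcore.LFree
import Groth.Agent.Sga4B.ModExtU

/-!
# `Λ[U]^ab = L[U]` for `Λ = ℤ/n`

* `lmjf n X : LFree.LMF (ULift (ZMod n)) X ⋙ ab ≅ JF X (ZMod n)`.
-/

set_option autoImplicit false
set_option linter.style.haveILetI false
universe u

open CategoryTheory CategoryTheory.Limits AlgebraicGeometry Opposite
open Groth.Agent.EtpbcA Groth.Agent.Etrest.ModAb
open Groth.Agent.Etcore.LFree Groth.Agent.Sga4B.DualShape

namespace Groth.Agent.Sga4B.LMJF

section General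

variable {Λ : Type (u + 1)} [CommRing Λ] {X : Scheme.{u}}

/-- Sections of the abelian sheaf underlying a sheaf of modules. -/
def sectAb {F : EtModW.Mod Λ X} {U : X.Etale} (s : EtModW.sect Λ F U) :
    EtCoh.sect ((ab Λ X).obj F) U := s

/-- Morphisms out of `Λ[U]` (as an abelian sheaf) are determined by the values on `a • gen`. -/
theorem ab_hom_ext {U : X.Etale} {G : EtCoh.Ab X} {α β : (ab Λ X).obj (LM Λ U) ⟶ G}
    (h : ∀ a : Λ, α.hom.app (op U) (sectAb (a • gen Λ U)) =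
      β.hom.app (op U) (sectAb (a • gen Λ U))) : α = β := by
  apply ((coindShAdj Λ X).homEquiv _ _).injective
  apply Groth.Agent.Etcore.LFree.hom_ext
  refine Coind.ext' fun a => ?_
  exact h a

/-- The morphism out of `Λ[U]` (as an abelian sheaf) attached to `Λ →+ G(U)`. -/
noncomputable def abDesc {U : X.Etale} {G : EtCoh.Ab X} (φ : Λ →+ EtCoh.sect G U) :
    (ab Λ X).obj (LM Λ U) ⟶ G :=
  ((coindShAdj Λ X).homEquiv _ _).symm (desc (F := (coindSh Λ X).obj G)
    (show Coind Λ (EtCoh.sect G U) from φ))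

theorem abDesc_gen {U : X.Etale} {G : EtCoh.Ab X} (φ : Λ →+ EtCoh.sect G U) (a : Λ) :
    (abDesc φ).hom.app (op U) (sectAb (a • gen Λ U)) = φ a := by
  have h1 := ((coindShAdj Λ X).homEquiv _ _).apply_symm_apply (desc (F := (coindSh Λ X).obj G)
    (show Coind Λ (EtCoh.sect G U) from φ))
  have h2 := desc_gen (F := (coindSh Λ X).obj G) (show Coind Λ (EtCoh.sect G U) from φ)
  rw [← h1] at h2
  have h3 := congrArg (fun t : Coind Λ (EtCoh.sect G U) => t.val a) h2
  exact h3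

end General

section ZModn

variable (n : ℕ) {X : Scheme.{u}}

/-- `ℤ/n` in the universe `u + 1`. -/
abbrev Lam : Type (u + 1) := ULift.{u + 1} (ZMod n)

/-- `m ↦ m • gen`. -/
noncomputable def scal (U : X.Etale) :
    ZMod n →+ EtCoh.sect ((ab (Lam.{u} n) X).obj (LM (Lam.{u} n) U)) U :=
  AddMonoidHom.mk' (fun m => sectAb ((ULift.up m : Lam.{u} n) • gen (Lam.{u} n) U))
    (fun a b => add_smul (ULift.up a : Lam.{u} n) (ULift.up b) (gen (Lam.{u} n) U))

/-- `L[U] ⟶ Λ[U]^ab`. -/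
noncomputable def θ (U : X.Etale) : LS n U ⟶ (ab (Lam.{u} n) X).obj (LM (Lam.{u} n) U) :=
  Jshriek.lift U (scal n U)

theorem θ_univ (U : X.Etale) (m : ZMod n) :
    (θ n U).hom.app (op U) (Jshriek.univ U (ZMod n) m) = scal n U m :=
  Jshriek.lift_univ U (scal n U) m

/-- `Λ[U]^ab ⟶ L[U]`. -/
noncomputable def θ' (U : X.Etale) : (ab (Lam.{u} n) X).obj (LM (Lam.{u} n) U) ⟶ LS n U :=
  abDesc ((Jshriek.univ U (ZMod n)).comp AddEquiv.ulift.toAddMonoidHom)

theorem θ'_scal (U : X.Etale) (m : ZMod n) :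
    (θ' n U).hom.app (op U) (scal n U m) = Jshriek.univ U (ZMod n) m :=
  abDesc_gen _ (ULift.up m : Lam.{u} n)

theorem θ_comp (U : X.Etale) : θ n U ≫ θ' n U = 𝟙 _ := by
  apply Jshriek.hom_ext U
  intro m
  change (θ' n U).hom.app (op U) ((θ n U).hom.app (op U) (Jshriek.univ U (ZMod n) m)) =
    Jshriek.univ U (ZMod n) m
  rw [θ_univ, θ'_scal]

theorem θ'_comp (U : X.Etale) : θ' n U ≫ θ n U = 𝟙 _ := by
  apply ab_hom_ext
  rintro ⟨m⟩
  change (θ n U).hom.app (op U) ((θ' n U).hom.app (op U) (scal n U m)) = scal n U m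
  rw [θ'_scal, θ_univ]

/-- Naturality. -/
theorem θ_naturality {U V : X.Etale} (g : U ⟶ V) :
    LSmap n g ≫ θ n V = θ n U ≫ (ab (Lam.{u} n) X).map (Etcore.LFree.map g) := by
  apply Jshriek.hom_ext U
  intro m
  change (θ n V).hom.app (op U) ((jMap (ZMod n) g).hom.app (op U) (Jshriek.univ U (ZMod n) m)) =
    ((ab (Lam.{u} n) X).map (Etcore.LFree.map g)).hom.app (op U)
      ((θ n U).hom.app (op U) (Jshriek.univ U (ZMod n) m))
  rw [θ_univ, jMap_univ]
  have h1 := ConcreteCategory.congr_hom ((θ n V).hom.naturality g.op) (Jshriek.univ V (ZMod n) m)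
  refine h1.trans ?_
  refine (congrArg (((ab (Lam.{u} n) X).obj (LM (Lam.{u} n) V)).obj.map g.op)
    (θ_univ n V m)).trans ?_
  change Etcore.LVan.res (LM (Lam.{u} n) V) g ((ULift.up m : Lam.{u} n) • gen (Lam.{u} n) V) =
    Etcore.LVan.ev (Etcore.LFree.map g) U ((ULift.up m : Lam.{u} n) • gen (Lam.{u} n) U)
  rw [map_smul, map_smul, map_gen]

/-- **`Λ[U]^ab = L[U]`**, natural in `U`. -/
noncomputable def lmjf (X : Scheme.{u}) : JF X (ZMod n) ≅ LMF (Lam.{u} n) X ⋙ ab (Lam.{u} n) X :=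
  NatIso.ofComponents (fun U => ⟨θ n U, θ' n U, θ_comp n U, θ'_comp n U⟩)
    (fun g => θ_naturality n g)

end ZModn

end Groth.Agent.Sga4B.LMJF
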