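import Groth.Prelude.Def_EtMod2
import Groth.Agent.Etcore.EtInst

/-!
# Short instances for `EtModW.Mod Λ X` (makes the kernel fast)

The analogue of `Groth.Agent.Etcore.EtInst` for sheaves of modules: after
`open scoped Groth.Agent.Sga4B.ModEtInst` declarations about `Ext` in `EtModW.Mod Λ X` type check in
milliseconds instead of 4 seconds each.
-/

set_option autoImplicit false
universe u
open CategoryTheory CategoryTheory.Limits AlgebraicGeometry Opposite Abelian

namespace Groth.Agent.Sga4B.ModEtInst

variable (Λ : Type (u + 1)) [CommRing Λ] (X : Scheme.{u})

theorem hasSheafifyMod : HasSheafify X.smallEtaleTopology (ModuleCat.{u + 1} Λ) := inferInstance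

attribute [scoped instance 10000] hasSheafifyMod

theorem hasWeakSheafifyMod : HasWeakSheafify X.smallEtaleTopology (ModuleCat.{u + 1} Λ) :=
  inferInstance

attribute [scoped instance 10000] hasWeakSheafifyMod

theorem isGrothendieckAbelianMod : IsGrothendieckAbelian.{u + 1} (EtModW.Mod Λ X) := inferInstance

attribute [scoped instance 10000] isGrothendieckAbelianMod

theorem hasExtMod : HasExt.{u + 1} (EtModW.Mod Λ X) := inferInstance

attribute [scoped instance 10000] hasExtMod

theorem enoughInjectivesMod : EnoughInjectives (EtModW.Mod Λ X) := inferInstance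

attribute [scoped instance 10000] enoughInjectivesMod

end Groth.Agent.Sga4B.ModEtInst
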