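import Groth.Agent.Etrest.ShriekProper
import Groth.Agent.Etrest.EtExtStalk
import Groth.Agent.EtpbcA.OverSite2
import Groth.Agent.Etcore.OpenClosed
import Groth.Agent.Sga4B.HTools
import Groth.Agent.Sga4h.EtaleRes

/-!
# Extension by zero along an etale morphism factored through a finite morphism
-/

set_option autoImplicit false

universe u

open CategoryTheory CategoryTheory.Limits AlgebraicGeometry Opposite

namespace Groth.Agent.Sga4B.CurveShriek

variable {U Cb C : Scheme.{u}}

/-- `w_! ≅ j_! ⋙ π_*` for `w = j ≫ π` etale and separated, `j` an open immersion and `π` proper. -/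
theorem nonempty_extZero_iso (w : U ⟶ C) [Etale w] [IsSeparated w] [EtShriek.JCont w]
    (j : U ⟶ Cb) [IsOpenImmersion j] (π : Cb ⟶ C) [IsProper π] (h : j ≫ π = w) :
    Nonempty (EtShriek.extZero w ≅ EtShriek.extZero j ⋙ EtCoh.push π) := by
  subst h
  obtain ⟨e⟩ := Groth.Agent.Etrest.ShriekProper.lowerShriek_compactification j π
  exact ⟨Groth.Agent.Etrest.EtExtStalk.extZeroIsoLowerShriek (j ≫ π) ≪≫ e⟩

end Groth.Agent.Sga4B.CurveShriek
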