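import Mathlib.Algebra.Homology.DerivedCategory.FullyFaithful
import Mathlib.Algebra.Homology.DerivedCategory.TStructure
import Mathlib.CategoryTheory.Triangulated.TStructure.TruncLEGT

/-!
Maps from `D^{≤ m}` to `D^{≥ m}` are maps on `H^m`; canonical (natural) maps
`H^m(X)[-m] ⟶ X` for `X ∈ D^{≥ m}` and `X ⟶ H^m(X)[-m]` for `X ∈ D^{≤ m}`;
the two-step triangle `H^m(X)[-m] ⟶ X ⟶ H^{m+1}(X)[-m-1] ⟶` for `X ∈ D^{[m, m+1]}`.
-/

set_option autoImplicit false
universe w v u
open CategoryTheory CategoryTheory.Limits CategoryTheory.Pretriangulated DerivedCategory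

namespace Groth.Agent.Sga4B.DTrunc

variable {C : Type u} [Category.{v} C] [Abelian C] [HasDerivedCategory.{w} C]

open DerivedCategory.TStructure

/-- `H^m (W[-m]) ≅ W`. -/
noncomputable abbrev hs (m : ℤ) (W : C) :
    (homologyFunctor C m).obj ((singleFunctor C m).obj W) ≅ W :=
  (singleFunctorCompHomologyFunctorIso C m).app W

theorem hs_naturality (m : ℤ) {W W' : C} (f : W ⟶ W') :
    (homologyFunctor C m).map ((singleFunctor C m).map f) ≫ (hs m W').hom = (hs m W).hom ≫ f :=
  (singleFunctorCompHomologyFunctorIso C m).hom.naturality f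

theorem bij_single (m : ℤ) (W W' : C) : Function.Bijective
    (fun f : (singleFunctor C m).obj W ⟶ (singleFunctor C m).obj W' => (homologyFunctor C m).map f) := by
  constructor
  · intro f g hfg
    obtain ⟨f, rfl⟩ := (singleFunctor C m).map_surjective f
    obtain ⟨g, rfl⟩ := (singleFunctor C m).map_surjective g
    have h1 := hs_naturality m f
    have h2 := hs_naturality m g
    have h3 : (hs m W).hom ≫ f = (hs m W).hom ≫ g := by
      rw [← h1, ← h2]
      exact congrArg (fun x => x ≫ (hs m W').hom) hfg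
    rw [(cancel_epi _).1 h3]
  · intro g
    refine ⟨(singleFunctor C m).map ((hs m W).inv ≫ g ≫ (hs m W').hom), ?_⟩
    have h1 := hs_naturality m ((hs m W).inv ≫ g ≫ (hs m W').hom)
    rw [Iso.hom_inv_id_assoc] at h1
    exact (cancel_mono _).1 h1

theorem bij_iso (m : ℤ) {X X' Y Y' : DerivedCategory C} (e : X ≅ X') (e' : Y ≅ Y')
    (h : Function.Bijective (fun f : X' ⟶ Y' => (homologyFunctor C m).map f)) :
    Function.Bijective (fun f : X ⟶ Y => (homologyFunctor C m).map f) := by
  have h1 : (fun f : X ⟶ Y => (homologyFunctor C m).map f) =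
      (((homologyFunctor C m).mapIso e).homCongr ((homologyFunctor C m).mapIso e')).symm ∘
      (fun f : X' ⟶ Y' => (homologyFunctor C m).map f) ∘ (e.homCongr e') := by
    ext f
    simp [Iso.homCongr]
  rw [h1]
  exact (Equiv.bijective _).comp (h.comp (Equiv.bijective _))

theorem bij_heart (m : ℤ) (X Y : DerivedCategory C) [X.IsGE m] [X.IsLE m] [Y.IsGE m] [Y.IsLE m] :
    Function.Bijective (fun f : X ⟶ Y => (homologyFunctor C m).map f) := by
  obtain ⟨W, ⟨e⟩⟩ := exists_iso_singleFunctor_obj_of_isGE_of_isLE X m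
  obtain ⟨W', ⟨e'⟩⟩ := exists_iso_singleFunctor_obj_of_isGE_of_isLE Y m
  exact bij_iso m e e' (bij_single m W W')

/-- `H^m(X) ⟶ H^m(τ_{≥m} X)` is an isomorphism. -/
instance isIso_homology_map_truncGEπ (m : ℤ) (X : DerivedCategory C) :
    IsIso ((homologyFunctor C m).map ((t.truncGEπ m).app X)) := by
  have hT := t.triangleLTGE_distinguished m X
  have h1 : ∀ q : ℤ, m ≤ q → IsZero ((homologyFunctor C q).obj ((t.triangleLTGE m).obj X).obj₁) := by
    intro q hq
    have : ((t.triangleLTGE m).obj X).obj₁.IsLE (m - 1) := by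
      change t.IsLE ((t.triangleLTGE m).obj X).obj₁ (m - 1)
      infer_instance
    exact isZero_of_isLE _ (m - 1) q (by lia)
  have h2 : Mono ((homologyFunctor C m).map ((t.triangleLTGE m).obj X).mor₂) := by
    rw [HomologySequence.mono_homologyMap_mor₂_iff _ hT]
    exact (h1 m le_rfl).eq_of_src _ _
  have h3 : Epi ((homologyFunctor C m).map ((t.triangleLTGE m).obj X).mor₂) := by
    rw [HomologySequence.epi_homologyMap_mor₂_iff _ hT m (m + 1)]
    exact (h1 (m + 1) (by lia)).eq_of_tgt _ _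
  exact isIso_of_mono_of_epi ((homologyFunctor C m).map ((t.triangleLTGE m).obj X).mor₂)

/-- `H^m(τ_{≤m} X) ⟶ H^m(X)` is an isomorphism. -/
instance isIso_homology_map_truncLEι (m : ℤ) (X : DerivedCategory C) :
    IsIso ((homologyFunctor C m).map ((t.truncLEι m).app X)) := by
  have hT := t.triangleLEGT_distinguished m X
  have h1 : ∀ q : ℤ, q ≤ m → IsZero ((homologyFunctor C q).obj ((t.triangleLEGT m).obj X).obj₃) := by
    intro q hq
    have : ((t.triangleLEGT m).obj X).obj₃.IsGE (m + 1) := by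
      change t.IsGE ((t.truncGT m).obj X) (m + 1)
      infer_instance
    exact isZero_of_isGE _ (m + 1) q (by lia)
  have h2 : Mono ((homologyFunctor C m).map ((t.triangleLEGT m).obj X).mor₁) := by
    rw [HomologySequence.mono_homologyMap_mor₁_iff _ hT (m - 1) m]
    exact (h1 (m - 1) (by lia)).eq_of_src _ _
  have h3 : Epi ((homologyFunctor C m).map ((t.triangleLEGT m).obj X).mor₁) := by
    rw [HomologySequence.epi_homologyMap_mor₁_iff _ hT]
    exact (h1 m le_rfl).eq_of_tgt _ _
  exact isIso_of_mono_of_epi ((homologyFunctor C m).map ((t.triangleLEGT m).obj X).mor₁)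

/-- Maps from `D^{≤ m}` to `D^{≥ m}` are the maps on `H^m`. -/
theorem bij (m : ℤ) (X Y : DerivedCategory C) [hX : X.IsLE m] [hY : Y.IsGE m] :
    Function.Bijective (fun f : X ⟶ Y => (homologyFunctor C m).map f) := by
  have : t.IsLE X m := hX
  have : t.IsGE Y m := hY
  have i1 : ((t.truncGE m).obj X).IsGE m := (inferInstance : t.IsGE ((t.truncGE m).obj X) m)
  have i2 : ((t.truncGE m).obj X).IsLE m := (inferInstance : t.IsLE ((t.truncGE m).obj X) m)
  have i3 : ((t.truncLE m).obj Y).IsGE m := (inferInstance : t.IsGE ((t.truncLE m).obj Y) m)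
  have i4 : ((t.truncLE m).obj Y).IsLE m := (inferInstance : t.IsLE ((t.truncLE m).obj Y) m)
  have key := bij_heart m ((t.truncGE m).obj X) ((t.truncLE m).obj Y)
  have fac : ∀ f : X ⟶ Y, ∃ g : (t.truncGE m).obj X ⟶ (t.truncLE m).obj Y,
      (t.truncGEπ m).app X ≫ g ≫ (t.truncLEι m).app Y = f := by
    intro f
    refine ⟨t.liftTruncLE (t.descTruncGE f m) m, ?_⟩
    rw [t.liftTruncLE_ι, t.π_descTruncGE]
  constructor
  · intro f f' hff
    obtain ⟨g, rfl⟩ := fac f
    obtain ⟨g', rfl⟩ := fac f'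
    have h1 : (homologyFunctor C m).map g = (homologyFunctor C m).map g' := by
      have h2 : (homologyFunctor C m).map ((t.truncGEπ m).app X ≫ g ≫ (t.truncLEι m).app Y) =
        (homologyFunctor C m).map ((t.truncGEπ m).app X ≫ g' ≫ (t.truncLEι m).app Y) := hff
      rw [Functor.map_comp, Functor.map_comp, Functor.map_comp, Functor.map_comp] at h2
      exact (cancel_mono _).1 ((cancel_epi _).1 h2)
    rw [key.1 h1]
  · intro g
    obtain ⟨g', hg'⟩ := key.2 (inv ((homologyFunctor C m).map ((t.truncGEπ m).app X)) ≫ g ≫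
      inv ((homologyFunctor C m).map ((t.truncLEι m).app Y)))
    refine ⟨(t.truncGEπ m).app X ≫ g' ≫ (t.truncLEι m).app Y, ?_⟩
    have hg : (homologyFunctor C m).map g' = inv ((homologyFunctor C m).map ((t.truncGEπ m).app X)) ≫ g ≫
      inv ((homologyFunctor C m).map ((t.truncLEι m).app Y)) := hg'
    change (homologyFunctor C m).map ((t.truncGEπ m).app X ≫ g' ≫ (t.truncLEι m).app Y) = g
    rw [Functor.map_comp, Functor.map_comp, hg]
    simp

/-- The canonical map `H^m(X)[-m] ⟶ X` for `X ∈ D^{≥ m}` (identity on `H^m`). -/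
noncomputable def ι (m : ℤ) (X : DerivedCategory C) [X.IsGE m] :
    (singleFunctor C m).obj ((homologyFunctor C m).obj X) ⟶ X :=
  ((bij m ((singleFunctor C m).obj ((homologyFunctor C m).obj X)) X).2 (hs m _).hom).choose

theorem homology_ι (m : ℤ) (X : DerivedCategory C) [X.IsGE m] :
    (homologyFunctor C m).map (ι m X) = (hs m _).hom :=
  ((bij m ((singleFunctor C m).obj ((homologyFunctor C m).obj X)) X).2 (hs m _).hom).choose_spec

theorem ι_naturality (m : ℤ) {X Y : DerivedCategory C} (f : X ⟶ Y) [X.IsGE m] [Y.IsGE m] :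
    (singleFunctor C m).map ((homologyFunctor C m).map f) ≫ ι m Y = ι m X ≫ f := by
  apply (bij m _ _).1
  change (homologyFunctor C m).map ((singleFunctor C m).map ((homologyFunctor C m).map f) ≫ ι m Y) =
    (homologyFunctor C m).map (ι m X ≫ f)
  rw [Functor.map_comp, Functor.map_comp, homology_ι, homology_ι, hs_naturality]

/-- The canonical map `X ⟶ H^m(X)[-m]` for `X ∈ D^{≤ m}` (identity on `H^m`). -/
noncomputable def π (m : ℤ) (X : DerivedCategory C) [X.IsLE m] :
    X ⟶ (singleFunctor C m).obj ((homologyFunctor C m).obj X) :=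
  ((bij m X ((singleFunctor C m).obj ((homologyFunctor C m).obj X))).2 (hs m _).inv).choose

theorem homology_π (m : ℤ) (X : DerivedCategory C) [X.IsLE m] :
    (homologyFunctor C m).map (π m X) = (hs m _).inv :=
  ((bij m X ((singleFunctor C m).obj ((homologyFunctor C m).obj X))).2 (hs m _).inv).choose_spec

theorem π_naturality (m : ℤ) {X Y : DerivedCategory C} (f : X ⟶ Y) [X.IsLE m] [Y.IsLE m] :
    f ≫ π m Y = π m X ≫ (singleFunctor C m).map ((homologyFunctor C m).map f) := by
  apply (bij m _ _).1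
  change (homologyFunctor C m).map (f ≫ π m Y) =
    (homologyFunctor C m).map (π m X ≫ (singleFunctor C m).map ((homologyFunctor C m).map f))
  rw [Functor.map_comp, Functor.map_comp, homology_π, homology_π, ← cancel_mono (hs m _).hom,
    Category.assoc, Category.assoc, Iso.inv_hom_id, hs_naturality, Iso.inv_hom_id_assoc,
    Category.comp_id]

/-- A morphism in the heart `D^{[m,m]}` which is an isomorphism on `H^m` is an isomorphism. -/
theorem isIso_of_heart (m : ℤ) {X Y : DerivedCategory C} (f : X ⟶ Y) [X.IsGE m] [X.IsLE m] [Y.IsGE m]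
    [Y.IsLE m] (h : IsIso ((homologyFunctor C m).map f)) : IsIso f := by
  rw [isIso_iff]
  intro n
  rcases lt_trichotomy n m with h1 | rfl | h1
  · exact (isZero_of_isGE X m n h1).isIso (isZero_of_isGE Y m n h1) _
  · exact h
  · exact (isZero_of_isLE X m n h1).isIso (isZero_of_isLE Y m n h1) _

/-- For `X ∈ D^{≥ m}` the map `H^m(X)[-m] ⟶ X` is the truncation `τ_{≤ m} X ⟶ X`. -/
theorem exists_iso_truncLE (m : ℤ) (X : DerivedCategory C) [hX : X.IsGE m] :
    ∃ e : (singleFunctor C m).obj ((homologyFunctor C m).obj X) ≅ (t.truncLE m).obj X,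
      e.hom ≫ (t.truncLEι m).app X = ι m X := by
  have : t.IsGE X m := hX
  have i3 : ((t.truncLE m).obj X).IsGE m := (inferInstance : t.IsGE ((t.truncLE m).obj X) m)
  have i4 : ((t.truncLE m).obj X).IsLE m := (inferInstance : t.IsLE ((t.truncLE m).obj X) m)
  have i5 : t.IsLE ((singleFunctor C m).obj ((homologyFunctor C m).obj X)) m :=
    (inferInstance : ((singleFunctor C m).obj ((homologyFunctor C m).obj X)).IsLE m)
  have h1 : (t.liftTruncLE (ι m X) m) ≫ (t.truncLEι m).app X = ι m X := t.liftTruncLE_ι _ _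
  have h2 : IsIso ((homologyFunctor C m).map (t.liftTruncLE (ι m X) m)) := by
    have h3 : (homologyFunctor C m).map (t.liftTruncLE (ι m X) m) ≫
      (homologyFunctor C m).map ((t.truncLEι m).app X) = (hs m _).hom :=
      ((Functor.map_comp _ _ _).symm.trans (congrArg (homologyFunctor C m).map h1)).trans (homology_ι m X)
    have h4 : IsIso ((homologyFunctor C m).map (t.liftTruncLE (ι m X) m) ≫
      (homologyFunctor C m).map ((t.truncLEι m).app X)) := by
      rw [h3]; infer_instance
    exact IsIso.of_isIso_comp_right _ ((homologyFunctor C m).map ((t.truncLEι m).app X))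
  have h5 : IsIso (t.liftTruncLE (ι m X) m) := isIso_of_heart m _ h2
  exact ⟨asIso (t.liftTruncLE (ι m X) m), h1⟩

/-- For `X ∈ D^{≤ m}` the map `X ⟶ H^m(X)[-m]` is the truncation `X ⟶ τ_{≥ m} X`. -/
theorem exists_iso_truncGE (m : ℤ) (X : DerivedCategory C) [hX : X.IsLE m] :
    ∃ e : (t.truncGE m).obj X ≅ (singleFunctor C m).obj ((homologyFunctor C m).obj X),
      (t.truncGEπ m).app X ≫ e.hom = π m X := by
  have : t.IsLE X m := hX
  have i3 : ((t.truncGE m).obj X).IsGE m := (inferInstance : t.IsGE ((t.truncGE m).obj X) m)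
  have i4 : ((t.truncGE m).obj X).IsLE m := (inferInstance : t.IsLE ((t.truncGE m).obj X) m)
  have i5 : t.IsGE ((singleFunctor C m).obj ((homologyFunctor C m).obj X)) m :=
    (inferInstance : ((singleFunctor C m).obj ((homologyFunctor C m).obj X)).IsGE m)
  have h1 : (t.truncGEπ m).app X ≫ (t.descTruncGE (π m X) m) = π m X := t.π_descTruncGE _ _
  have h2 : IsIso ((homologyFunctor C m).map (t.descTruncGE (π m X) m)) := by
    have h3 : (homologyFunctor C m).map ((t.truncGEπ m).app X) ≫
      (homologyFunctor C m).map (t.descTruncGE (π m X) m) = (hs m _).inv :=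
      ((Functor.map_comp _ _ _).symm.trans (congrArg (homologyFunctor C m).map h1)).trans (homology_π m X)
    have h4 : IsIso ((homologyFunctor C m).map ((t.truncGEπ m).app X) ≫
      (homologyFunctor C m).map (t.descTruncGE (π m X) m)) := by
      rw [h3]; infer_instance
    exact IsIso.of_isIso_comp_left ((homologyFunctor C m).map ((t.truncGEπ m).app X)) _
  have h5 : IsIso (t.descTruncGE (π m X) m) := isIso_of_heart m _ h2
  exact ⟨asIso (t.descTruncGE (π m X) m), h1⟩

/-- For `X ∈ D^{≥ m}`: a distinguished triangle `H^m(X)[-m] ⟶ X ⟶ Y ⟶` with `Y = τ_{≥ m+1} X`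
whose first map is `ι m X`. -/
theorem exists_distinguished_ι (m n : ℤ) (h : m + 1 = n) (X : DerivedCategory C) [hX : X.IsGE m] :
    ∃ (δ : (t.truncGE n).obj X ⟶ ((singleFunctor C m).obj ((homologyFunctor C m).obj X))⟦(1 : ℤ)⟧),
      Triangle.mk (ι m X) ((t.truncGEπ n).app X) δ ∈ distTriang (DerivedCategory C) := by
  obtain ⟨e, he⟩ := exists_iso_truncLE m X
  have hT := t.triangleLEGE_distinguished m n h X
  refine ⟨(t.truncGEδLE m n h).app X ≫ e.inv⟦(1 : ℤ)⟧', isomorphic_distinguished _ hT _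
    (Triangle.isoMk _ _ e (Iso.refl _) (Iso.refl _) ?_ ?_ ?_)⟩
  · change ι m X ≫ 𝟙 X = e.hom ≫ (t.truncLEι m).app X
    rw [he, Category.comp_id]
  · change (t.truncGEπ n).app X ≫ 𝟙 _ = 𝟙 X ≫ (t.truncGEπ n).app X
    exact (Category.comp_id _).trans (Category.id_comp _).symm
  · change ((t.truncGEδLE m n h).app X ≫ e.inv⟦(1 : ℤ)⟧') ≫ e.hom⟦(1 : ℤ)⟧' = 𝟙 _ ≫ (t.truncGEδLE m n h).app X
    rw [Category.assoc, ← Functor.map_comp, e.inv_hom_id, CategoryTheory.Functor.map_id]
    exact (Category.comp_id _).trans (Category.id_comp _).symm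

/-- For `X ∈ D^{[m, m+1]}`: the triangle `H^m(X)[-m] ⟶ X ⟶ H^{m+1}(X)[-m-1] ⟶`. -/
theorem exists_distinguished (m n : ℤ) (h : m + 1 = n) (X : DerivedCategory C) [hX : X.IsGE m]
    [hX' : X.IsLE n] :
    ∃ (δ : (singleFunctor C n).obj ((homologyFunctor C n).obj X) ⟶
        ((singleFunctor C m).obj ((homologyFunctor C m).obj X))⟦(1 : ℤ)⟧),
      Triangle.mk (ι m X) (π n X) δ ∈ distTriang (DerivedCategory C) := by
  obtain ⟨δ, hδ⟩ := exists_distinguished_ι m n h X
  obtain ⟨e, he⟩ := exists_iso_truncGE n X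
  refine ⟨e.inv ≫ δ, isomorphic_distinguished _ hδ _
    (Triangle.isoMk _ _ (Iso.refl _) (Iso.refl _) e.symm ?_ ?_ ?_)⟩
  · change ι m X ≫ 𝟙 X = 𝟙 _ ≫ ι m X
    exact (Category.comp_id _).trans (Category.id_comp _).symm
  · change π n X ≫ e.inv = 𝟙 X ≫ (t.truncGEπ n).app X
    rw [← he, Category.assoc, e.hom_inv_id, Category.comp_id, Category.id_comp]
  · change (e.inv ≫ δ) ≫ (𝟙 _)⟦(1 : ℤ)⟧' = e.inv ≫ δ
    rw [CategoryTheory.Functor.map_id]
    exact Category.comp_id _

/-- For `X ∈ D^{≤ m}`: a distinguished triangle `Y ⟶ X ⟶ H^m(X)[-m] ⟶` with `Y = τ_{≤ m-1} X`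
whose second map is `π m X`. -/
theorem exists_distinguished_π (l m : ℤ) (h : l + 1 = m) (X : DerivedCategory C) [hX : X.IsLE m] :
    ∃ (δ : (singleFunctor C m).obj ((homologyFunctor C m).obj X) ⟶ ((t.truncLE l).obj X)⟦(1 : ℤ)⟧),
      Triangle.mk ((t.truncLEι l).app X) (π m X) δ ∈ distTriang (DerivedCategory C) := by
  obtain ⟨e, he⟩ := exists_iso_truncGE m X
  have hT := t.triangleLEGE_distinguished l m h X
  refine ⟨e.inv ≫ (t.truncGEδLE l m h).app X, isomorphic_distinguished _ hT _
    (Triangle.isoMk _ _ (Iso.refl _) (Iso.refl _) e.symm ?_ ?_ ?_)⟩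
  · change (t.truncLEι l).app X ≫ 𝟙 X = 𝟙 _ ≫ (t.truncLEι l).app X
    exact (Category.comp_id _).trans (Category.id_comp _).symm
  · change π m X ≫ e.inv = 𝟙 X ≫ (t.truncGEπ m).app X
    rw [← he, Category.assoc, e.hom_inv_id, Category.comp_id, Category.id_comp]
  · change (e.inv ≫ (t.truncGEδLE l m h).app X) ≫ (𝟙 _)⟦(1 : ℤ)⟧' = e.inv ≫ (t.truncGEδLE l m h).app X
    rw [CategoryTheory.Functor.map_id]
    exact Category.comp_id _

/-- `H^q(X) ⟶ H^q(τ_{≥n} X)` is an isomorphism for `q ≥ n`. -/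
theorem isIso_homology_truncGE (n q : ℤ) (hq : n ≤ q) (X : DerivedCategory C) :
    IsIso ((homologyFunctor C q).map ((t.truncGEπ n).app X)) := by
  have hT := t.triangleLTGE_distinguished n X
  have h1 : ∀ r : ℤ, n ≤ r → IsZero ((homologyFunctor C r).obj ((t.triangleLTGE n).obj X).obj₁) := by
    intro r hr
    have : ((t.triangleLTGE n).obj X).obj₁.IsLE (n - 1) := by
      change t.IsLE ((t.triangleLTGE n).obj X).obj₁ (n - 1)
      infer_instance
    exact isZero_of_isLE _ (n - 1) r (by lia)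
  have h2 : Mono ((homologyFunctor C q).map ((t.triangleLTGE n).obj X).mor₂) := by
    rw [HomologySequence.mono_homologyMap_mor₂_iff _ hT]
    exact (h1 q hq).eq_of_src _ _
  have h3 : Epi ((homologyFunctor C q).map ((t.triangleLTGE n).obj X).mor₂) := by
    rw [HomologySequence.epi_homologyMap_mor₂_iff _ hT q (q + 1)]
    exact (h1 (q + 1) (by lia)).eq_of_tgt _ _
  exact isIso_of_mono_of_epi ((homologyFunctor C q).map ((t.triangleLTGE n).obj X).mor₂)

/-- `H^q(τ_{≤n} X) ⟶ H^q(X)` is an isomorphism for `q ≤ n`. -/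
theorem isIso_homology_truncLE (n q : ℤ) (hq : q ≤ n) (X : DerivedCategory C) :
    IsIso ((homologyFunctor C q).map ((t.truncLEι n).app X)) := by
  have hT := t.triangleLEGT_distinguished n X
  have h1 : ∀ r : ℤ, r ≤ n → IsZero ((homologyFunctor C r).obj ((t.triangleLEGT n).obj X).obj₃) := by
    intro r hr
    have : ((t.triangleLEGT n).obj X).obj₃.IsGE (n + 1) := by
      change t.IsGE ((t.truncGT n).obj X) (n + 1)
      infer_instance
    exact isZero_of_isGE _ (n + 1) r (by lia)
  have h2 : Mono ((homologyFunctor C q).map ((t.triangleLEGT n).obj X).mor₁) := by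
    rw [HomologySequence.mono_homologyMap_mor₁_iff _ hT (q - 1) q]
    exact (h1 (q - 1) (by lia)).eq_of_src _ _
  have h3 : Epi ((homologyFunctor C q).map ((t.triangleLEGT n).obj X).mor₁) := by
    rw [HomologySequence.epi_homologyMap_mor₁_iff _ hT]
    exact (h1 q hq).eq_of_tgt _ _
  exact isIso_of_mono_of_epi ((homologyFunctor C q).map ((t.triangleLEGT n).obj X).mor₁)

/-- Devissage: a map `Z ⟶ Y` with `Y ∈ D^{[a,b]}` is zero if all maps `Z ⟶ H^q(Y)[-q]` are zero. -/
theorem hom_eq_zero (k : ℕ) : ∀ (a b : ℤ) (_ : b ≤ a + k) (Z Y : DerivedCategory C) (_ : Y.IsGE a)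
    (_ : Y.IsLE b) (_ : ∀ q : ℤ, a ≤ q → q ≤ b →
      ∀ g : Z ⟶ (singleFunctor C q).obj ((homologyFunctor C q).obj Y), g = 0) (f : Z ⟶ Y), f = 0 := by
  induction k with
  | zero =>
    intro a b hab Z Y hY1 hY2 h f
    have hY3 : Y.IsLE a := by
      rw [isLE_iff]
      intro i hi
      exact isZero_of_isLE Y b i (by lia)
    by_cases hb : a ≤ b
    · have h1 : IsIso (ι a Y) := isIso_of_heart a _ (by rw [homology_ι]; infer_instance)
      have h2 := h a le_rfl hb (f ≫ inv (ι a Y))
      rw [← cancel_mono (inv (ι a Y)), h2, zero_comp]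
    · have h1 : IsZero Y := by
        rw [IsZero.iff_id_eq_zero]
        apply (bij a Y Y).1
        exact (isZero_of_isLE Y b a (by lia)).eq_of_src _ _
      exact h1.eq_of_tgt _ _
  | succ k ih =>
    intro a b hab Z Y hY1 hY2 h f
    by_cases hb : b < a
    · have h1 : IsZero Y := by
        have hY3 : Y.IsLE a := by
          rw [isLE_iff]
          intro i hi
          exact isZero_of_isLE Y b i (by lia)
        rw [IsZero.iff_id_eq_zero]
        apply (bij a Y Y).1
        exact (isZero_of_isLE Y b a hb).eq_of_src _ _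
      exact h1.eq_of_tgt _ _
    obtain ⟨δ, hδ⟩ := exists_distinguished_ι a (a + 1) rfl Y
    have i1 : ((t.truncGE (a + 1)).obj Y).IsGE (a + 1) :=
      (inferInstance : t.IsGE ((t.truncGE (a + 1)).obj Y) (a + 1))
    have i2 : ((t.truncGE (a + 1)).obj Y).IsLE b := by
      have : t.IsLE Y b := hY2
      exact (inferInstance : t.IsLE ((t.truncGE (a + 1)).obj Y) b)
    have h1 : f ≫ (t.truncGEπ (a + 1)).app Y = 0 := by
      refine ih (a + 1) b (by push_cast at hab; lia) Z _ i1 i2 (fun q hq1 hq2 g => ?_) _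
      have h2 := isIso_homology_truncGE (a + 1) q hq1 Y
      have h3 := h q (by lia) hq2
        (g ≫ (singleFunctor C q).map (inv ((homologyFunctor C q).map ((t.truncGEπ (a + 1)).app Y))))
      rw [← cancel_mono ((singleFunctor C q).map
        (inv ((homologyFunctor C q).map ((t.truncGEπ (a + 1)).app Y)))), h3, zero_comp]
    obtain ⟨g, hg⟩ := Triangle.coyoneda_exact₂ _ hδ f h1
    have h2 : g = 0 := h a le_rfl (by lia) g
    rw [hg, h2]
    exact zero_comp

end Groth.Agent.Sga4B.DTrunc
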