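import Mathlib.Algebra.Homology.DerivedCategory.Ext.ExactSequences
import Mathlib.Algebra.Homology.DerivedCategory.Ext.EnoughInjectives

/-!
# Multiplication by a relative fundamental class

`Φ : 𝒮 ⥤ 𝒴` exact (think of `f^*`, `f : Y ⟶ S`), `g ∈ Ext^r(A, B)` in `𝒴`. If locally on `T : 𝒮`
(that is, after an epimorphism `T' ⟶ T`) the groups `Ext^j(Φ T, A)`, `j > 0`, and `Ext^j(Φ T, B)`,
`j ≠ r`, vanish, and `g` induces locally an isomorphism `Hom(Φ T, A) → Ext^r(Φ T, B)`, then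
`Ext^m(Φ T, A) → Ext^(m+r)(Φ T, B)` is bijective for all `m` and `T` (`bijective_comp`).
-/

set_option autoImplicit false

universe w v v' u u'

open CategoryTheory Limits Abelian

namespace Groth.Agent.Sga4B.DiagB1

variable {𝒮 : Type u} [Category.{v} 𝒮] [Abelian 𝒮] {𝒴 : Type u'} [Category.{v'} 𝒴] [Abelian 𝒴]
  [HasExt.{w} 𝒴] (Φ : 𝒮 ⥤ 𝒴)

/-- The restriction of a class along `Φ p`. -/
noncomputable abbrev res {T T' : 𝒮} (p : T' ⟶ T) {B : 𝒴} {m : ℕ} (y : Ext.{w} (Φ.obj T) B m) :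
    Ext.{w} (Φ.obj T') B m :=
  (Ext.mk₀ (Φ.map p)).comp y (zero_add m)

theorem res_res {T T' T'' : 𝒮} (p : T' ⟶ T) (p' : T'' ⟶ T') {B : 𝒴} {m : ℕ}
    (y : Ext.{w} (Φ.obj T) B m) : res Φ p' (res Φ p y) = res Φ (p' ≫ p) y := by
  change (Ext.mk₀ (Φ.map p')).comp ((Ext.mk₀ (Φ.map p)).comp y (zero_add m)) (zero_add m) = _
  rw [Ext.mk₀_comp_mk₀_assoc, ← Functor.map_comp]

theorem res_comp {T T' : 𝒮} (p : T' ⟶ T) {A B : 𝒴} {a b c : ℕ} (x : Ext.{w} (Φ.obj T) A a)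
    (g : Ext.{w} A B b) (h : a + b = c) :
    res Φ p (x.comp g h) = (res Φ p x).comp g h :=
  (Ext.comp_assoc (Ext.mk₀ (Φ.map p)) x g (zero_add a) h (by omega)).symm

theorem res_sub {T T' : 𝒮} (p : T' ⟶ T) {B : 𝒴} {m : ℕ} (y y' : Ext.{w} (Φ.obj T) B m) :
    res Φ p (y - y') = res Φ p y - res Φ p y' := by
  rw [sub_eq_add_neg, sub_eq_add_neg]
  change (Ext.mk₀ (Φ.map p)).comp (y + -y') (zero_add m) = _
  rw [Ext.comp_add, Ext.comp_neg]

theorem res_zero {T T' : 𝒮} (p : T' ⟶ T) {B : 𝒴} {m : ℕ} :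
    res Φ p (0 : Ext.{w} (Φ.obj T) B m) = 0 := Ext.comp_zero _ _ _ _ _

/-- Classes in `Ext^j(Φ T, B)` die locally. -/
def LocZero (B : 𝒴) (j : ℕ) : Prop :=
  ∀ (T : 𝒮) (y : Ext.{w} (Φ.obj T) B j), ∃ (T' : 𝒮) (p : T' ⟶ T) (_ : Epi p), res Φ p y = 0

variable [Φ.Additive] [PreservesFiniteLimits Φ] [PreservesFiniteColimits Φ]

/-- The short exact sequence `0 → K → T' → T → 0`. -/
noncomputable def kerSeq {T T' : 𝒮} (p : T' ⟶ T) : ShortComplex 𝒮 :=
  ShortComplex.mk (kernel.ι p) p (kernel.condition p)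

theorem kerSeq_shortExact {T T' : 𝒮} (p : T' ⟶ T) [Epi p] : (kerSeq p).ShortExact where
  exact := ShortComplex.exact_of_f_is_kernel _ (kernelIsKernel p)
  mono_f := by dsimp [kerSeq]; infer_instance
  epi_g := by dsimp [kerSeq]; infer_instance

theorem kerSeq_map_shortExact {T T' : 𝒮} (p : T' ⟶ T) [Epi p] :
    ((kerSeq p).map Φ).ShortExact := (kerSeq_shortExact p).map_of_exact Φ

/-- The connecting class `∈ Ext¹(Φ T, Φ K)`. -/
noncomputable def delta {T T' : 𝒮} (p : T' ⟶ T) [Epi p] :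
    Ext.{w} (Φ.obj T) (Φ.obj (kernel p)) 1 := (kerSeq_map_shortExact Φ p).extClass

theorem exists_delta {T T' : 𝒮} (p : T' ⟶ T) [Epi p] {B : 𝒴} {m m' : ℕ} (h : 1 + m = m')
    (y : Ext.{w} (Φ.obj T) B m') (hy : res Φ p y = 0) :
    ∃ x : Ext.{w} (Φ.obj (kernel p)) B m, (delta Φ p).comp x h = y :=
  Ext.contravariant_sequence_exact₃ (kerSeq_map_shortExact Φ p) B y hy h

theorem exists_res {T T' : 𝒮} (p : T' ⟶ T) [Epi p] {B : 𝒴} {m m' : ℕ} (h : 1 + m = m')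
    (x : Ext.{w} (Φ.obj (kernel p)) B m) (hx : (delta Φ p).comp x h = 0) :
    ∃ z : Ext.{w} (Φ.obj T') B m, res Φ (kernel.ι p) z = x :=
  Ext.contravariant_sequence_exact₁ (kerSeq_map_shortExact Φ p) B x h hx

theorem delta_res {T T' : 𝒮} (p : T' ⟶ T) [Epi p] {B : 𝒴} {m m' : ℕ} (h : 1 + m = m')
    (z : Ext.{w} (Φ.obj T') B m) : (delta Φ p).comp (res Φ (kernel.ι p) z) h = 0 := by
  have h1 : (delta Φ p).comp (Ext.mk₀ (Φ.map (kernel.ι p))) (add_zero 1) = 0 :=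
    (kerSeq_map_shortExact Φ p).extClass_comp
  rw [← Ext.comp_assoc_of_second_deg_zero, h1, Ext.zero_comp]

theorem eq_zero_of_res_zero {T T' : 𝒮} (p : T' ⟶ T) [Epi p] {B : 𝒴}
    (y : Ext.{w} (Φ.obj T) B 0) (hy : res Φ p y = 0) : y = 0 := by
  refine Ext.precomp_mk₀_injective_of_epi B (Φ.map p) ?_
  change (Ext.mk₀ (Φ.map p)).comp y (zero_add 0) = (Ext.mk₀ (Φ.map p)).comp 0 (zero_add 0)
  rw [Ext.comp_zero]
  exact hy

/-- If classes of degree `< r` die locally, then they are zero. -/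
theorem eq_zero_of_locZero {B : 𝒴} {r : ℕ} (h : ∀ j, j < r → LocZero.{w} Φ B j) (j : ℕ) (hj : j < r)
    (T : 𝒮) (y : Ext.{w} (Φ.obj T) B j) : y = 0 := by
  induction j generalizing T with
  | zero =>
    obtain ⟨T', p, hp, hy⟩ := h 0 hj T y
    exact eq_zero_of_res_zero Φ p y hy
  | succ j ih =>
    obtain ⟨T', p, hp, hy⟩ := h (j + 1) hj T y
    obtain ⟨x, hx⟩ := exists_delta Φ p (add_comm 1 j) y hy
    rw [← hx, ih (by omega) _ x, Ext.comp_zero]

/-- Morphisms `Φ T' ⟶ A` vanishing on `Φ K` descend. -/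
theorem exists_desc {T T' : 𝒮} (p : T' ⟶ T) [Epi p] {A : 𝒴} (x : Φ.obj T' ⟶ A)
    (hx : Φ.map (kernel.ι p) ≫ x = 0) : ∃ x₀ : Φ.obj T ⟶ A, Φ.map p ≫ x₀ = x := by
  have hS := kerSeq_map_shortExact Φ p
  have := hS.epi_g
  exact ⟨hS.exact.desc x hx, hS.exact.g_desc x hx⟩

/-- **Multiplication by a relative fundamental class is bijective.** -/
theorem bijective_comp {A B : 𝒴} {r : ℕ} (g : Ext.{w} A B r)
    (hM : ∀ (T : 𝒮) (x : Φ.obj T ⟶ A), (Ext.mk₀ x).comp g (zero_add r) = 0 → x = 0)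
    (hE : ∀ (T : 𝒮) (y : Ext.{w} (Φ.obj T) B r), ∃ (T' : 𝒮) (p : T' ⟶ T) (_ : Epi p)
      (x : Φ.obj T' ⟶ A), res Φ p y = (Ext.mk₀ x).comp g (zero_add r))
    (hA : ∀ j, 0 < j → LocZero.{w} Φ A j) (hB : ∀ j, j ≠ r → LocZero.{w} Φ B j)
    (m : ℕ) {m' : ℕ} (h : m + r = m') (T : 𝒮) :
    Function.Bijective (fun x : Ext.{w} (Φ.obj T) A m => x.comp g h) := by
  have hB0 := eq_zero_of_locZero Φ (B := B) (r := r) (fun j hj => hB j (by omega))
  induction m generalizing m' T with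
  | zero =>
    obtain rfl : r = m' := by omega
    have hinj : ∀ (T : 𝒮), Function.Injective
        (fun x : Ext.{w} (Φ.obj T) A 0 => x.comp g (zero_add r)) := by
      intro T x x' hxx'
      obtain ⟨x, rfl⟩ := (Ext.mk₀_bijective _ _).2 x
      obtain ⟨x', rfl⟩ := (Ext.mk₀_bijective _ _).2 x'
      have : x - x' = 0 := by
        apply hM
        rw [sub_eq_add_neg, Ext.mk₀_add, Ext.mk₀_neg, Ext.add_comp, Ext.neg_comp]
        change (Ext.mk₀ x).comp g (zero_add r) = (Ext.mk₀ x').comp g (zero_add r) at hxx'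
        rw [hxx', add_neg_cancel]
      rw [sub_eq_zero.1 this]
    refine ⟨hinj T, fun y => ?_⟩
    obtain ⟨T', p, hp, x, hx⟩ := hE T y
    -- `x` descends to `T`
    have h2 : Φ.map (kernel.ι p) ≫ x = 0 := by
      apply hM
      rw [← Ext.mk₀_comp_mk₀, Ext.comp_assoc_of_second_deg_zero]
      rw [← hx]
      change res Φ (kernel.ι p) (res Φ p y) = 0
      rw [res_res, kernel.condition]
      change (Ext.mk₀ (Φ.map 0)).comp y (zero_add _) = 0
      rw [Functor.map_zero, Ext.mk₀_zero, Ext.zero_comp]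
    obtain ⟨x₀, hx₀⟩ := exists_desc Φ p x h2
    refine ⟨Ext.mk₀ x₀, ?_⟩
    change (Ext.mk₀ x₀).comp g (zero_add r) = y
    have h4 : res Φ p ((Ext.mk₀ x₀).comp g (zero_add r) - y) = 0 := by
      rw [res_sub, hx, res_comp]
      change ((Ext.mk₀ (Φ.map p)).comp (Ext.mk₀ x₀) (zero_add 0)).comp g (zero_add r) - _ = 0
      rw [Ext.mk₀_comp_mk₀, hx₀, sub_self]
    rcases Nat.eq_zero_or_pos r with hr | hr
    · subst hr
      exact sub_eq_zero.1 (eq_zero_of_res_zero Φ p _ h4)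
    · obtain ⟨r', rfl⟩ : ∃ r', r = r' + 1 := ⟨r - 1, by omega⟩
      obtain ⟨z, hz⟩ := exists_delta Φ p (add_comm 1 r') _ h4
      rw [hB0 r' (by omega) _ z, Ext.comp_zero] at hz
      exact sub_eq_zero.1 hz.symm
  | succ m ih =>
    constructor
    · intro x x' hxx'
      have key : ∀ x : Ext.{w} (Φ.obj T) A (m + 1), x.comp g h = 0 → x = 0 := by
        intro x hx
        obtain ⟨T', p, hp, hpx⟩ := hA (m + 1) (by omega) T x
        obtain ⟨x₁, hx₁⟩ := exists_delta Φ p (add_comm 1 m) x hpx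
        have h1 : (delta Φ p).comp (x₁.comp g (rfl : m + r = m + r))
            (by omega : 1 + (m + r) = m') = 0 := by
          rw [← Ext.comp_assoc (delta Φ p) x₁ g (add_comm 1 m) rfl (by omega), hx₁]
          exact hx
        obtain ⟨z, hz⟩ := exists_res Φ p _ _ h1
        obtain ⟨z₁, hz₁⟩ := (ih rfl T').2 z
        change z₁.comp g rfl = z at hz₁
        have h2 : res Φ (kernel.ι p) z₁ = x₁ := by
          apply (ih rfl _).1
          change (res Φ (kernel.ι p) z₁).comp g rfl = x₁.comp g rfl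
          rw [← res_comp, hz₁, hz]
        rw [← hx₁, ← h2, delta_res]
      have := key (x - x') (by
        rw [sub_eq_add_neg, Ext.add_comp, Ext.neg_comp]
        change x.comp g h = x'.comp g h at hxx'
        rw [hxx', add_neg_cancel])
      exact sub_eq_zero.1 this
    · intro y
      obtain ⟨T', p, hp, hpy⟩ := hB m' (by omega) T y
      obtain ⟨y₁, hy₁⟩ := exists_delta Φ p (by omega : 1 + (m + r) = m') y hpy
      obtain ⟨x₁, hx₁⟩ := (ih (rfl : m + r = m + r) _).2 y₁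
      change x₁.comp g rfl = y₁ at hx₁
      refine ⟨(delta Φ p).comp x₁ (add_comm 1 m), ?_⟩
      change ((delta Φ p).comp x₁ (add_comm 1 m)).comp g h = y
      rw [Ext.comp_assoc _ _ _ (add_comm 1 m) rfl (by omega), hx₁, hy₁]

end Groth.Agent.Sga4B.DiagB1
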