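import Groth.Agent.Sga4B.DualIface
import Groth.Agent.Sga4B.JFComp
import Groth.Agent.Sga4B.IterP1
import Groth.Agent.Sga4B.PointConst
import Groth.Agent.Etrest.SHPoint

/-!
# Poincaré duality: the base case and the induction for the iterated projective line

* `pkg_point`: `Pkg n (Spec k) 0` for `k` separably closed.
* `pkg_iter`: `Pkg n (P (Spec k) d) d` for all `d`, from the induction step.
-/

set_option autoImplicit false
universe u

open CategoryTheory CategoryTheory.Limits AlgebraicGeometry Opposite

namespace Groth.Agent.Sga4B.PkgP1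

open DualShape

/-- The base case. -/
theorem pkg_point (k : Type u) [Field k] [IsSepClosed k] (n : ℕ) :
    Pkg n (Spec (CommRingCat.of k)) 0 where
  cd F _ q hq := Etrest.SHPoint.subsingleton_H_of_sepClosed k F q (by omega)
  top := by
    obtain ⟨e⟩ := Etrest.SHPoint.nonempty_H0_const (Spec (CommRingCat.of k)) (ZMod n)
    exact ⟨((EtCoh.HF (Spec (CommRingCat.of k)) 0).mapIso
      (JFComp.topIso (ZMod n) (Spec (CommRingCat.of k)))).addCommGroupIsoToAddEquiv.trans e⟩
  eff U x i hi := absurd hi (by omega)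
  good U x := by
    obtain ⟨s, w, hw⟩ := PointConst.exists_hom_top U x
    refine ⟨EtCoh.top _, s, ⟨w, hw⟩, ?_⟩
    have h1 : toTop (EtCoh.top (Spec (CommRingCat.of k))) = 𝟙 _ :=
      (EtCore.topIsTerminal _).hom_ext _ _
    have h2 : HLS n (2 * 0) (toTop (EtCoh.top (Spec (CommRingCat.of k)))) = 𝟙 _ := by
      rw [h1]
      exact (JF (Spec (CommRingCat.of k)) (ZMod n) ⋙ EtCoh.HF (Spec (CommRingCat.of k)) (2 * 0)).map_id _
    rw [h2]
    exact Function.bijective_id

/-- The iterated projective line over a Noetherian scheme is Noetherian. -/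
theorem isNoetherian_P (S : Scheme.{u}) [IsNoetherian S] (d : ℕ) : IsNoetherian (IterP1.P S d) := by
  have h1 : IsLocallyNoetherian (IterP1.P S d) :=
    LocallyOfFiniteType.isLocallyNoetherian (IterP1.toBase S d)
  have h2 : CompactSpace (IterP1.P S d) :=
    QuasiCompact.compactSpace_of_compactSpace (IterP1.toBase S d)
  exact ⟨⟩

theorem isSeparated_P (S : Scheme.{u}) [S.IsSeparated] (d : ℕ) : (IterP1.P S d).IsSeparated := by
  refine ⟨?_⟩
  have : terminal.from (IterP1.P S d) = IterP1.toBase S d ≫ terminal.from S :=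
    Subsingleton.elim _ _
  rw [this]
  infer_instance

/-- **Induction over `P_d`.** -/
theorem pkg_iter (k : Type u) [Field k] [IsSepClosed k] (n : ℕ)
    (hstep : ∀ (S : Scheme.{u}) [IsNoetherian S] [S.IsSeparated] (_ : S ⟶ Spec (CommRingCat.of k))
      (d : ℕ), Pkg n S d → Pkg n (CohB1.ProjSpaceOver 1 S) (d + 1)) (d : ℕ) :
    Pkg n (IterP1.P (Spec (CommRingCat.of k)) d) d := by
  induction d with
  | zero => exact pkg_point k n
  | succ d ih =>
    have := isNoetherian_P (Spec (CommRingCat.of k)) d
    have := isSeparated_P (Spec (CommRingCat.of k)) d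
    exact hstep _ (IterP1.toBase (Spec (CommRingCat.of k)) d) d ih

end Groth.Agent.Sga4B.PkgP1
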