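import Mathlib.CategoryTheory.Preadditive.AdditiveFunctor
import Mathlib.Algebra.BigOperators.Group.Finset.Basic

/-!
# Finite direct sums, in a form adapted to additive functors

`IsDS ι` for a finite family `ι j : A j ⟶ B`: the maps `ι j` exhibit `B` as the direct sum of the
`A j`.
-/

set_option autoImplicit false
universe v v' u u'

open CategoryTheory

namespace Groth.Agent.Sga4B.DirSum

variable {C : Type u} [Category.{v} C] [Preadditive C] {D : Type u'} [Category.{v'} D]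
  [Preadditive D] {I : Type} [Fintype I]

/-- The maps `ι j : A j ⟶ B` exhibit `B` as the direct sum of the `A j`. -/
def IsDS {A : I → C} {B : C} (ι : ∀ j, A j ⟶ B) : Prop :=
  ∃ π : ∀ j, B ⟶ A j, (∀ j, ι j ≫ π j = 𝟙 (A j)) ∧ (∀ j k, j ≠ k → ι j ≫ π k = 0) ∧
    ∑ j, π j ≫ ι j = 𝟙 B

theorem IsDS.map {A : I → C} {B : C} {ι : ∀ j, A j ⟶ B} (h : IsDS ι) (G : C ⥤ D) [G.Additive] :
    IsDS (fun j => G.map (ι j)) := by
  obtain ⟨π, h1, h2, h3⟩ := h
  refine ⟨fun j => G.map (π j), fun j => ?_, fun j k hjk => ?_, ?_⟩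
  · rw [← G.map_comp, h1, G.map_id]
  · rw [← G.map_comp, h2 j k hjk, G.map_zero]
  · simp_rw [← G.map_comp]
    rw [← G.map_sum, h3, G.map_id]

/-- Morphisms out of a direct sum are determined by their restrictions. -/
theorem IsDS.hom_ext {A : I → C} {B : C} {ι : ∀ j, A j ⟶ B} (h : IsDS ι) {G : C} {f g : B ⟶ G}
    (hfg : ∀ j, ι j ≫ f = ι j ≫ g) : f = g := by
  obtain ⟨π, h1, h2, h3⟩ := h
  have e : ∀ f : B ⟶ G, f = ∑ j, π j ≫ ι j ≫ f := fun f => by
    simp_rw [← Category.assoc]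
    rw [← Preadditive.sum_comp, h3, Category.id_comp]
  rw [e f, e g]
  simp_rw [hfg]

theorem IsDS.isIso {A A' : I → C} {B B' : C} {ι : ∀ j, A j ⟶ B} {ι' : ∀ j, A' j ⟶ B'}
    (h : IsDS ι) (h' : IsDS ι') (f : B ⟶ B') (φ : ∀ j, A j ⟶ A' j)
    (comm : ∀ j, ι j ≫ f = φ j ≫ ι' j) [∀ j, IsIso (φ j)] : IsIso f := by
  classical
  have hx := h
  have hx' := h'
  obtain ⟨π, h1, h2, h3⟩ := h
  obtain ⟨π', h1', h2', h3'⟩ := h'
  have comm' : ∀ j, f ≫ π' j = π j ≫ φ j := by
    intro j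
    apply hx.hom_ext
    intro k
    rw [← Category.assoc, comm, Category.assoc, ← Category.assoc (ι k)]
    by_cases hk : k = j
    · subst hk
      rw [h1', h1, Category.comp_id, Category.id_comp]
    · rw [h2' k j hk, h2 k j hk, Limits.comp_zero, Limits.zero_comp]
  refine ⟨∑ j, π' j ≫ inv (φ j) ≫ ι j, ?_, ?_⟩
  · rw [Preadditive.comp_sum]
    simp_rw [← Category.assoc, comm']
    simp only [Category.assoc, IsIso.hom_inv_id_assoc, h3]
  · rw [Preadditive.sum_comp]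
    simp_rw [Category.assoc, comm]
    simp only [IsIso.inv_hom_id_assoc, h3']

/-- The universal property gives the projections. -/
theorem IsDS.of_existsUnique {A : I → C} {B : C} (ι : ∀ j, A j ⟶ B)
    (h : ∀ (G : C) (f : ∀ j, A j ⟶ G), ∃ g : B ⟶ G, ∀ j, ι j ≫ g = f j)
    (h' : ∀ (G : C) (f g : B ⟶ G), (∀ j, ι j ≫ f = ι j ≫ g) → f = g) : IsDS ι := by
  classical
  have key : ∀ j, ∃ g : B ⟶ A j, ι j ≫ g = 𝟙 _ ∧ ∀ k, k ≠ j → ι k ≫ g = 0 := by
    intro j
    obtain ⟨g, hg⟩ := h (A j) (fun k => if hk : k = j then eqToHom (by rw [hk]) else 0)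
    refine ⟨g, ?_, fun k hk => ?_⟩
    · rw [hg j, dif_pos rfl]
      rfl
    · rw [hg k, dif_neg hk]
  choose π hπ hπ' using key
  refine ⟨π, hπ, fun j k hjk => hπ' k j hjk, ?_⟩
  apply h'
  intro k
  rw [Preadditive.comp_sum, Finset.sum_eq_single k]
  · rw [← Category.assoc, hπ, Category.id_comp, Category.comp_id]
  · intro j _ hj
    rw [← Category.assoc, hπ' j k (Ne.symm hj), Limits.zero_comp]
  · intro hk
    exact absurd (Finset.mem_univ k) hk

/-- Transport along isomorphisms. -/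
theorem IsDS.of_iso {A A' : I → C} {B B' : C} {ι : ∀ j, A j ⟶ B} {ι' : ∀ j, A' j ⟶ B'}
    (h : IsDS ι) (f : B ⟶ B') [IsIso f] (φ : ∀ j, A j ⟶ A' j) [∀ j, IsIso (φ j)]
    (comm : ∀ j, ι j ≫ f = φ j ≫ ι' j) : IsDS ι' := by
  apply IsDS.of_existsUnique
  · intro G g
    obtain ⟨π, h1, h2, h3⟩ := h
    classical
    refine ⟨inv f ≫ ∑ j, π j ≫ φ j ≫ g j, fun j => ?_⟩
    have e : ι' j = inv (φ j) ≫ ι j ≫ f := by rw [comm, IsIso.inv_hom_id_assoc]
    rw [e, Category.assoc, Category.assoc, IsIso.hom_inv_id_assoc, Preadditive.comp_sum,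
      Finset.sum_eq_single j]
    · rw [← Category.assoc (ι j), h1, Category.id_comp, IsIso.inv_hom_id_assoc]
    · intro k _ hk
      rw [← Category.assoc (ι j), h2 j k (Ne.symm hk), Limits.zero_comp]
    · intro hk
      exact absurd (Finset.mem_univ j) hk
  · intro G a b hab
    rw [← cancel_epi f]
    apply h.hom_ext
    intro j
    rw [← Category.assoc, ← Category.assoc, comm, Category.assoc, Category.assoc, hab]

end Groth.Agent.Sga4B.DirSum
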