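import Groth.Agent.EtpbcA.JZero
import Groth.Agent.EtpbcA.GeomSplit
import Groth.Agent.EtpbcA.Germ
import Mathlib.AlgebraicGeometry.Morphisms.FlatMono

/-!
# Finite disjoint covers: inverse images; étale schemes over separably closed fields

* `mapBc f D`: the inverse image of a disjoint cover under `f : X ⟶ Y`;
* `exists_disjCover_point`: a quasi-compact étale scheme over `Spec Ω` is a finite disjoint union
  of copies of `Spec Ω`.
-/

set_option autoImplicit false
universe u

open CategoryTheory CategoryTheory.Limits AlgebraicGeometry Opposite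

namespace Groth.Agent.Sga4B.DisjBc

open Groth.Agent.EtpbcA.GeomSplit Groth.Agent.EtpbcA.JZero

variable {X Y : Scheme.{u}}

theorem isEmpty_of_bot_mem {Z : Y.Etale} (h : ⊥ ∈ Y.smallEtaleTopology Z) : IsEmpty Z.left := by
  rw [Groth.Agent.EtpbcA.Germ.mem_iff] at h
  exact ⟨fun z => by
    obtain ⟨_, _, h1, _⟩ := h z
    exact h1⟩

theorem bot_mem_of_isEmpty {Z : Y.Etale} (h : IsEmpty Z.left) : ⊥ ∈ Y.smallEtaleTopology Z := by
  rw [Groth.Agent.EtpbcA.Germ.mem_iff]
  exact fun z => h.elim z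

/-- Inverse image of a disjoint cover. -/
noncomputable def mapBc (f : X ⟶ Y) {I : Type} {T : I → Y.Etale} {V : Y.Etale}
    (D : DisjCover Y.smallEtaleTopology T V) :
    DisjCover X.smallEtaleTopology (fun i => (EtCoh.bc f).obj (T i)) ((EtCoh.bc f).obj V) where
  ι i := (EtCoh.bc f).map (D.ι i)
  mono i := by
    have := D.mono i
    infer_instance
  cover := by
    rw [Groth.Agent.EtpbcA.Germ.mem_iff]
    intro x'
    have hS := D.cover
    rw [Groth.Agent.EtpbcA.Germ.mem_iff] at hS
    obtain ⟨W, g, hg, v, hv⟩ := hS ((pullback.fst V.hom f : ((EtCoh.bc f).obj V).left ⟶ V.left) x')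
    obtain ⟨_, b, _, ⟨i⟩, hb⟩ := hg
    have sq := EtCoh.isPullback_bc_map f (D.ι i)
    have hv' : (D.ι i).left (b.left v) = (pullback.fst V.hom f :
        ((EtCoh.bc f).obj V).left ⟶ V.left) x' := by
      rw [← hv, ← hb]
      rfl
    obtain ⟨z, hz1, -⟩ := Scheme.Pullback.exists_preimage_pullback
      (f := (pullback.fst V.hom f : ((EtCoh.bc f).obj V).left ⟶ V.left)) (g := (D.ι i).left) x'
      (b.left v) hv'.symm
    refine ⟨(EtCoh.bc f).obj (T i), (EtCoh.bc f).map (D.ι i), Sieve.ofArrows_mk _ _ i,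
      sq.isoPullback.inv z, ?_⟩
    rw [← hz1, ← Scheme.Hom.comp_apply, IsPullback.isoPullback_inv_fst]
    rfl
  disj i j hij Z a b h := by
    have h1 := isEmpty_of_bot_mem (D.disj i j hij (pullback (D.ι i) (D.ι j)) (pullback.fst _ _)
      (pullback.snd _ _) pullback.condition)
    have sq : IsPullback ((EtCoh.bc f).map (pullback.fst (D.ι i) (D.ι j)))
        ((EtCoh.bc f).map (pullback.snd (D.ι i) (D.ι j))) ((EtCoh.bc f).map (D.ι i))
        ((EtCoh.bc f).map (D.ι j)) :=
      (IsPullback.of_hasPullback (D.ι i) (D.ι j)).map (EtCoh.bc f)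
    let l := sq.lift a b h
    apply bot_mem_of_isEmpty
    refine ⟨fun z => ?_⟩
    exact h1.elim ((pullback.fst (pullback (D.ι i) (D.ι j)).hom f :
      ((EtCoh.bc f).obj _).left ⟶ (pullback (D.ι i) (D.ι j)).left) (l.left z))

section point

variable {Ω : Type u} [Field Ω] {W : (Spec (CommRingCat.of Ω)).Etale}

/-- The section of the étale site attached to a rational point. -/
noncomputable def secPt (j : Spec (CommRingCat.of Ω) ⟶ W.left) (hj : j ≫ W.hom = 𝟙 _) :
    EtCoh.top (Spec (CommRingCat.of Ω)) ⟶ W :=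
  MorphismProperty.Over.homMk j hj trivial

theorem isEmpty_of_comp_eq {j j' : Spec (CommRingCat.of Ω) ⟶ W.left} (hne : j ≠ j')
    {Z : Scheme.{u}} (a : Z ⟶ Spec (CommRingCat.of Ω)) (h : a ≫ j = a ≫ j') : IsEmpty Z := by
  by_contra hZ
  rw [not_isEmpty_iff] at hZ
  apply hne
  have hs : Surjective a := ⟨fun y => by
    obtain ⟨z⟩ := hZ
    exact ⟨z, Subsingleton.elim _ _⟩⟩
  have hf : Flat a := inferInstance
  have : Epi a := Flat.epi_of_flat_of_surjective _
  rwa [← cancel_epi a]

/-- A quasi-compact étale scheme over a separably closed field is a finite disjoint union of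
rational points. -/
theorem exists_disjCover_point [IsSepClosed Ω] (W : (Spec (CommRingCat.of Ω)).Etale)
    [QuasiCompact W.hom] :
    ∃ (m : ℕ), Nonempty (DisjCover (Spec (CommRingCat.of Ω)).smallEtaleTopology
        (fun _ : Fin m => EtCoh.top (Spec (CommRingCat.of Ω))) W) := by
  have hfin := finite_lifts W (𝟙 (Spec (CommRingCat.of Ω)))
  obtain ⟨m, ⟨e⟩⟩ := Finite.exists_equiv_fin
    {j : Spec (CommRingCat.of Ω) ⟶ W.left // j ≫ W.hom = 𝟙 (Spec (CommRingCat.of Ω))}
  refine ⟨m, ⟨{
      ι := fun i => secPt (e.symm i).1 (e.symm i).2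
      mono := fun i => (isTerminalTop (Spec (CommRingCat.of Ω))).mono_from _
      cover := ?_
      disj := ?_ }⟩⟩
  · rw [Groth.Agent.EtpbcA.Germ.mem_iff]
    intro u
    have hWe : Etale W.hom := W.prop
    have hsub : Subsingleton (Spec (CommRingCat.of Ω)) := inferInstance
    obtain ⟨j, hj, hju⟩ := Scheme.exists_fac_of_etale_of_isSepClosed (S := Spec (CommRingCat.of Ω))
      W.hom (𝟙 (Spec (CommRingCat.of Ω))) u (hsub.elim _ _)
    refine ⟨_, secPt (e.symm (e ⟨j, hj⟩)).1 (e.symm (e ⟨j, hj⟩)).2,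
      Sieve.ofArrows_mk _ _ (e ⟨j, hj⟩), (default : Spec (CommRingCat.of Ω)), ?_⟩
    rw [← hju]
    have : e.symm (e ⟨j, hj⟩) = ⟨j, hj⟩ := e.symm_apply_apply _
    change (e.symm (e ⟨j, hj⟩)).1 default = _
    rw [this]
  · intro i k hik Z a b h
    apply bot_mem_of_isEmpty
    have hab : a = b := (isTerminalTop (Spec (CommRingCat.of Ω))).hom_ext _ _
    subst hab
    exact isEmpty_of_comp_eq (fun hh => hik (e.symm.injective (Subtype.ext hh))) a.left
      (congrArg (fun f : Z ⟶ W => f.left) h)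

end point

end Groth.Agent.Sga4B.DisjBc
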