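import Groth.Agent.S1033
import Mathlib.Algebra.Homology.DerivedCategory.Ext.Map
import Mathlib.Algebra.Category.Grp.Injective
import Mathlib.Topology.Instances.AddCircle.Real

/-!
# Formal duality theorem (helper929's plan for S3112 / S3102, block D1 = FT)

`A`, `B` abelian categories, `Ψ : A ⥤ B` exact, `Z : B`, `T^i(F) = Ext^i_B(Z, Ψ F)`, killed by `n`, `E` an abelian group
injective relative to groups killed by `n` (e.g. `ZMod n`), `K : A`, `tr : T^N(K) → E`.

`phi tr : Ext^q_A(F, K) →+ (T^i(F) →+ E)`, `i + q = N`, `e ↦ (x ↦ tr (x · Ψ(e)))`.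

* `phi_bijective`: if `phi` is bijective for `q = 0` and all `F`, and every homomorphism `T^i(F) → E` with `i < N` is killed
  by an epimorphism `F' ⟶ F`, then `phi` is bijective for all `q ≤ N` and all `F`.
* `phi_one_injective`: if `phi` is bijective for `q = 0` then it is injective for `q = 1`.
-/

set_option autoImplicit false

universe w w' v v' u u' s t

open CategoryTheory Limits Abelian

namespace Groth.Agent.Sga4B.DualFT

section Inj

/-- `E` is injective relative to abelian groups (in universe `w`) killed by `n`. -/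
def InjOn (n : ℕ) (E : Type t) [AddCommGroup E] : Prop :=
  ∀ (C : Type w) [AddCommGroup C], (∀ c : C, n • c = 0) → ∀ (S : AddSubgroup C) (γ : S →+ E),
    ∃ γ' : C →+ E, ∀ x : S, γ' x = γ x

/-- `Hom(-, E)` is exact on exact sequences whose last term is killed by `n`. -/
theorem InjOn.exists_extension {n : ℕ} {E : Type t} [AddCommGroup E] (hE : InjOn.{w} n E)
    {A : Type s} {B : Type s} {C : Type w} [AddCommGroup A] [AddCommGroup B] [AddCommGroup C]
    (f : A →+ B) (g : B →+ C) (hfg : ∀ b, g b = 0 → ∃ a, f a = b) (hC : ∀ c : C, n • c = 0)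
    (β : B →+ E) (hβ : ∀ a, β (f a) = 0) : ∃ γ : C →+ E, ∀ b, γ (g b) = β b := by
  have hker : g.ker ≤ β.ker := by
    intro b hb
    obtain ⟨a, rfl⟩ := hfg b hb
    exact hβ a
  let γ₀ : g.range →+ E :=
    (QuotientAddGroup.lift g.ker β hker).comp (QuotientAddGroup.quotientKerEquivRange g).symm.toAddMonoidHom
  obtain ⟨γ, hγ⟩ := hE C hC g.range γ₀
  refine ⟨γ, fun b => ?_⟩
  have h1 := hγ ⟨g b, b, rfl⟩
  have h2 : (QuotientAddGroup.quotientKerEquivRange g).symm ⟨g b, b, rfl⟩ = QuotientAddGroup.mk b := by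
    rw [AddEquiv.symm_apply_eq]
    rfl
  rw [h1]
  change QuotientAddGroup.lift g.ker β hker ((QuotientAddGroup.quotientKerEquivRange g).symm ⟨g b, b, rfl⟩) = β b
  rw [h2]
  rfl

/-- `ℤ/n` is injective relative to groups killed by `n`. -/
theorem injOn_zmod (n : ℕ) (hn : n ≠ 0) : InjOn.{w} n (ZMod n) := by
  intro C _ hC S γ
  have : NeZero n := ⟨hn⟩
  obtain ⟨h, hh⟩ := (Module.Baer.of_divisible UnitAddCircle).extension_property_addMonoidHom
    S.subtype S.subtype_injective ((ZMod.toAddCircle (N := n)).comp γ)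
  have hmem : ∀ c : C, ∃ z : ZMod n, ZMod.toAddCircle z = h c := by
    intro c
    have h1 : n • h c = 0 := by rw [← map_nsmul, hC, map_zero]
    obtain ⟨m, hm, hm'⟩ := (AddCircle.nsmul_eq_zero_iff (p := (1 : ℝ)) (u := h c)
      (Nat.pos_of_ne_zero hn)).1 h1
    refine ⟨(m : ZMod n), ?_⟩
    rw [← hm']
    have := ZMod.toAddCircle_intCast (N := n) (m : ℤ)
    simpa using this
  choose z hz using hmem
  have hinj := ZMod.toAddCircle_injective n
  refine ⟨AddMonoidHom.mk' z (fun a b => hinj ?_), fun x => hinj ?_⟩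
  · rw [map_add, hz, hz, hz, map_add]
  · change ZMod.toAddCircle (z x) = _
    rw [hz]
    exact DFunLike.congr_fun hh x

end Inj

variable {A : Type u} [Category.{v} A] [Abelian A] [HasExt.{w} A]
  {B : Type u'} [Category.{v'} B] [Abelian B] [HasExt.{w'} B]
  (Ψ : A ⥤ B) [Ψ.Additive] [PreservesFiniteLimits Ψ] [PreservesFiniteColimits Ψ]
  {Z : B} {E : Type t} [AddCommGroup E] {N : ℕ} {K : A} (tr : Ext.{w'} Z (Ψ.obj K) N →+ E)

/-- `Ext^q_A(F, K) →+ Hom(Ext^i_B(Z, Ψ F), E)`, `e ↦ (x ↦ tr (x · Ψ(e)))`, `i + q = N`. -/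
noncomputable def phi (F : A) {q i : ℕ} (h : i + q = N) :
    Ext.{w} F K q →+ (Ext.{w'} Z (Ψ.obj F) i →+ E) :=
  AddMonoidHom.mk' (fun e => AddMonoidHom.mk' (fun x => tr (x.comp (e.mapExactFunctor Ψ) h))
    (fun x y => by simp [Ext.add_comp]))
    (fun e e' => by ext x; simp [Ext.comp_add])

@[simp]
theorem phi_apply (F : A) {q i : ℕ} (h : i + q = N) (e : Ext.{w} F K q) (x : Ext.{w'} Z (Ψ.obj F) i) :
    phi Ψ tr F h e x = tr (x.comp (e.mapExactFunctor Ψ) h) := rfl

/-- Naturality of `phi` in `F`. -/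
theorem phi_naturality {F F' : A} (f : F' ⟶ F) {q i : ℕ} (h : i + q = N) (e : Ext.{w} F K q)
    (x : Ext.{w'} Z (Ψ.obj F') i) :
    phi Ψ tr F' h ((Ext.mk₀ f).comp e (zero_add q)) x =
      phi Ψ tr F h e (x.comp (Ext.mk₀ (Ψ.map f)) (add_zero i)) := by
  simp only [phi_apply]
  rw [Ext.mapExactFunctor_comp, Ext.mapExactFunctor_mk₀, Ext.comp_assoc_of_second_deg_zero]

/-- Compatibility of `phi` with connecting maps. -/
theorem phi_extClass {S : ShortComplex A} (hS : S.ShortExact) {q i q' i' : ℕ} (h : i + q' = N) (h' : i' + q = N)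
    (hq : 1 + q = q') (hi : i + 1 = i') (e : Ext.{w} S.X₁ K q) (x : Ext.{w'} Z (Ψ.obj S.X₃) i) :
    phi Ψ tr S.X₃ h (hS.extClass.comp e hq) x =
      phi Ψ tr S.X₁ h' e (x.comp (hS.map_of_exact Ψ).extClass hi) := by
  simp only [phi_apply]
  rw [Ext.mapExactFunctor_comp, Ext.mapExactFunctor_extClass]
  congr 1
  exact (Ext.comp_assoc x (hS.map_of_exact Ψ).extClass (e.mapExactFunctor Ψ) hi hq (by omega)).symm

variable {n : ℕ} (hE : InjOn.{w'} n E) (hT : ∀ (F : A) (i : ℕ) (x : Ext.{w'} Z (Ψ.obj F) i), n • x = 0)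

include hE hT in
/-- Injectivity step: if `phi` is bijective in degree `q` it is injective in degree `q + 1`. -/
theorem phi_injective_succ {q i : ℕ} (h : i + (q + 1) = N)
    (hq : ∀ F : A, Function.Bijective (phi Ψ tr F (q := q) (i := i + 1) (by omega))) (F : A) :
    Function.Injective (phi Ψ tr F h) := by
  rw [injective_iff_map_eq_zero]
  intro e he
  obtain ⟨P, p, hp, hpe⟩ := S1033.exists_epi_ext_comp_eq_zero e
  let S := ShortComplex.mk _ _ (Limits.kernel.condition p)
  have hS : S.ShortExact :=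
    { exact := ShortComplex.exact_of_f_is_kernel _ (Limits.kernelIsKernel S.g)
      mono_f := by dsimp [S]; infer_instance
      epi_g := hp }
  obtain ⟨r, hr⟩ := Ext.contravariant_sequence_exact₃ hS K e hpe (n₀ := q) (by omega)
  obtain ⟨γ, hγ⟩ := hE.exists_extension
    (Ext.postcomp (hS.map_of_exact Ψ).extClass Z (rfl : i + 1 = i + 1))
    (Ext.postcomp (Ext.mk₀ (S.map Ψ).f) Z (add_zero (i + 1)))
    (fun b hb => Ext.covariant_sequence_exact₁ Z (hS.map_of_exact Ψ) b hb rfl)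
    (fun c => hT _ _ c) (phi Ψ tr S.X₁ (q := q) (i := i + 1) (by omega) r)
    (fun a => by
      have h1 := phi_extClass Ψ tr hS h (by omega) (by omega : 1 + q = q + 1) rfl r a
      have h2 : phi Ψ tr S.X₃ h (hS.extClass.comp r (by omega)) = 0 := by rw [hr]; exact he
      rw [h2] at h1
      exact h1.symm)
  obtain ⟨r', hr'⟩ := (hq S.X₂).2 γ
  have h3 : (Ext.mk₀ S.f).comp r' (zero_add q) = r := by
    apply (hq S.X₁).1
    ext x
    rw [phi_naturality, hr']
    exact hγ x
  rw [← hr, ← h3, ← Ext.comp_assoc_of_second_deg_zero, hS.extClass_comp, Ext.zero_comp]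

include hE hT in
/-- Surjectivity step. -/
theorem phi_surjective_succ {q i : ℕ} (h : i + (q + 1) = N)
    (hq : ∀ F : A, Function.Surjective (phi Ψ tr F (q := q) (i := i + 1) (by omega)))
    (heff : ∀ (F : A) (a : Ext.{w'} Z (Ψ.obj F) i →+ E), ∃ (F' : A) (p : F' ⟶ F), Epi p ∧
      ∀ x : Ext.{w'} Z (Ψ.obj F') i, a (x.comp (Ext.mk₀ (Ψ.map p)) (add_zero i)) = 0) (F : A) :
    Function.Surjective (phi Ψ tr F h) := by
  intro a
  obtain ⟨P, p, hp, hpa⟩ := heff F a
  let S := ShortComplex.mk _ _ (Limits.kernel.condition p)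
  have hS : S.ShortExact :=
    { exact := ShortComplex.exact_of_f_is_kernel _ (Limits.kernelIsKernel S.g)
      mono_f := by dsimp [S]; infer_instance
      epi_g := hp }
  obtain ⟨b, hb⟩ := hE.exists_extension
    (Ext.postcomp (Ext.mk₀ (S.map Ψ).g) Z (add_zero i))
    (Ext.postcomp (hS.map_of_exact Ψ).extClass Z (rfl : i + 1 = i + 1))
    (fun b hb => Ext.covariant_sequence_exact₃ Z (hS.map_of_exact Ψ) b rfl hb)
    (fun c => hT _ _ c) a hpa
  obtain ⟨r, hr⟩ := hq S.X₁ b
  refine ⟨hS.extClass.comp r (by omega), ?_⟩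
  ext x
  rw [phi_extClass Ψ tr hS h (by omega) (by omega : 1 + q = q + 1) rfl r x, hr]
  exact hb x

include hE hT in
/-- **Formal duality theorem.** -/
theorem phi_bijective
    (h0 : ∀ F : A, Function.Bijective (phi Ψ tr F (q := 0) (i := N) (add_zero N)))
    (heff : ∀ (i : ℕ), i < N → ∀ (F : A) (a : Ext.{w'} Z (Ψ.obj F) i →+ E), ∃ (F' : A) (p : F' ⟶ F), Epi p ∧
      ∀ x : Ext.{w'} Z (Ψ.obj F') i, a (x.comp (Ext.mk₀ (Ψ.map p)) (add_zero i)) = 0)
    {q i : ℕ} (h : i + q = N) (F : A) : Function.Bijective (phi Ψ tr F h) := by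
  induction q generalizing i F with
  | zero => obtain rfl : i = N := by omega
            exact h0 F
  | succ q ih =>
    exact ⟨phi_injective_succ Ψ tr hE hT h (fun F => ih _ F) F,
      phi_surjective_succ Ψ tr hE hT h (fun F => (ih _ F).2) (heff i (by omega)) F⟩

include hE hT in
/-- If `phi` is bijective in degree `0`, it is injective in degree `1`. -/
theorem phi_one_injective {i : ℕ} (h : i + 1 = N)
    (h0 : ∀ F : A, Function.Bijective (phi Ψ tr F (q := 0) (i := i + 1) (by omega))) (F : A) :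
    Function.Injective (phi Ψ tr F h) :=
  phi_injective_succ Ψ tr hE hT (q := 0) h h0 F

/-- `phi` in degree `0` in terms of morphisms. -/
theorem phi_zero_mk₀ (F : A) (f : F ⟶ K) (x : Ext.{w'} Z (Ψ.obj F) N) :
    phi Ψ tr F (q := 0) (i := N) (add_zero N) (Ext.mk₀ f) x = tr (x.comp (Ext.mk₀ (Ψ.map f)) (add_zero N)) := by
  rw [phi_apply, Ext.mapExactFunctor_mk₀]

/-- Bijectivity of `phi` in degree `0` in terms of morphisms. -/
theorem phi_zero_bijective_iff (F : A) :
    Function.Bijective (phi Ψ tr F (q := 0) (i := N) (add_zero N)) ↔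
      Function.Bijective (fun f : F ⟶ K => tr.comp (Ext.postcomp (Ext.mk₀ (Ψ.map f)) Z (add_zero N))) := by
  have h : (fun f : F ⟶ K => tr.comp (Ext.postcomp (Ext.mk₀ (Ψ.map f)) Z (add_zero N))) =
      (phi Ψ tr F (q := 0) (i := N) (add_zero N)) ∘ (Ext.mk₀ (X := F) (Y := K)) := by
    funext f
    ext x
    exact (phi_zero_mk₀ Ψ tr F f x).symm
  rw [h]
  constructor
  · intro hb
    exact hb.comp (Ext.mk₀_bijective F K)
  · intro hb
    exact (Function.Bijective.of_comp_iff _ (Ext.mk₀_bijective F K)).1 hb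

/-- The isomorphism of the formal duality theorem. -/
noncomputable def phiEquiv
    (h0 : ∀ F : A, Function.Bijective (phi Ψ tr F (q := 0) (i := N) (add_zero N)))
    (heff : ∀ (i : ℕ), i < N → ∀ (F : A) (a : Ext.{w'} Z (Ψ.obj F) i →+ E), ∃ (F' : A) (p : F' ⟶ F), Epi p ∧
      ∀ x : Ext.{w'} Z (Ψ.obj F') i, a (x.comp (Ext.mk₀ (Ψ.map p)) (add_zero i)) = 0)
    (hE : InjOn.{w'} n E) (hT : ∀ (F : A) (i : ℕ) (x : Ext.{w'} Z (Ψ.obj F) i), n • x = 0)
    {q i : ℕ} (h : i + q = N) (F : A) :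
    Ext.{w} F K q ≃+ (Ext.{w'} Z (Ψ.obj F) i →+ E) :=
  AddEquiv.ofBijective (phi Ψ tr F h) (phi_bijective Ψ tr hE hT h0 heff h F)

end Groth.Agent.Sga4B.DualFT
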