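import Groth.Agent.Sga4B.EUFun
import Groth.Agent.Sga4B.JFComp
import Groth.Agent.EtpbcA.JZero
import Mathlib.CategoryTheory.Preadditive.AdditiveFunctor

/-!
# `U ↦ u_! M` and `U ↦ E_U F` send finite disjoint covers to coproducts

* `jfIsColimit D M : IsColimit (jfCofan D M)`: `u_! M` is the coproduct of the `(u_i)_! M`;
* `euIsColimit D F : IsColimit (euCofan D F)`: the same for `E_U F = j_! j^* F`;
* `isIso_of_cofan`: additive functors and maps of finite coproducts;
* `isIso_map_jf`, `isIso_map_eu`: consequences for additive functors.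
-/

set_option autoImplicit false
universe u

open CategoryTheory CategoryTheory.Limits AlgebraicGeometry Opposite
open Groth.Agent.EtpbcA Groth.Agent.EtpbcA.JZero Groth.Agent.Sga4B.DualShape

namespace Groth.Agent.Sga4B.JFDisj

section glue

variable {C : Type (u + 1)} [Category.{u} C] {J : GrothendieckTopology C}
  {I : Type} {T : I → C} {W : C}

/-- Gluing along the pullback of a disjoint cover. -/
theorem existsUnique_glue (D : DisjCover J T W) (G : Sheaf J AddCommGrpCat.{u + 1}) {W' : C}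
    (a : W' ⟶ W)
    (x : ∀ (i : I) (Z : C) (p : Z ⟶ W') (v : Z ⟶ T i), p ≫ a = v ≫ D.ι i → G.obj.obj (op Z))
    (hx : ∀ (i : I) (Z Z' : C) (k : Z' ⟶ Z) (p : Z ⟶ W') (v : Z ⟶ T i) (h : p ≫ a = v ≫ D.ι i)
      (h' : (k ≫ p) ≫ a = (k ≫ v) ≫ D.ι i),
        G.obj.map k.op (x i Z p v h) = x i Z' (k ≫ p) (k ≫ v) h') :
    ∃! t : G.obj.obj (op W'), ∀ (i : I) (Z : C) (p : Z ⟶ W') (v : Z ⟶ T i)
      (h : p ≫ a = v ≫ D.ι i), G.obj.map p.op t = x i Z p v h := by
  classical
  let S : Sieve W' := Sieve.pullback a (Sieve.ofArrows T D.ι)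
  have hS : S ∈ J W' := J.pullback_stable a D.cover
  have mem : ∀ {Z : C} (p : Z ⟶ W') (hp : S p), ∃ (i : I) (v : Z ⟶ T i), p ≫ a = v ≫ D.ι i := by
    intro Z p hp
    obtain ⟨Y, k, l, ⟨i⟩, hk⟩ := hp
    exact ⟨i, k, hk.symm⟩
  have mem' : ∀ {Z : C} (p : Z ⟶ W') (i : I) (v : Z ⟶ T i), p ≫ a = v ≫ D.ι i → S p := by
    intro Z p i v h
    exact ⟨T i, v, D.ι i, ⟨i⟩, h.symm⟩
  -- independence of choices
  have indep : ∀ {Z : C} (p : Z ⟶ W') (i j : I) (v : Z ⟶ T i) (w : Z ⟶ T j)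
      (h : p ≫ a = v ≫ D.ι i) (h' : p ≫ a = w ≫ D.ι j), x i Z p v h = x j Z p w h' := by
    intro Z p i j v w h h'
    by_cases hij : i = j
    · subst hij
      have := D.mono i
      have hvw : v = w := by
        rw [← cancel_mono (D.ι i), ← h, ← h']
      subst hvw
      rfl
    · exact (subsingleton_of_bot_mem G (D.disj i j hij Z v w (h.symm.trans h'))).elim _ _
  choose i₀ v₀ h₀ using fun (Z : C) (p : Z ⟶ W') (hp : S p) => mem p hp
  let y : Presieve.FamilyOfElements (G.obj ⋙ CategoryTheory.forget AddCommGrpCat.{u + 1}) S.arrows :=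
    fun Z p hp => x (i₀ Z p hp) Z p (v₀ Z p hp) (h₀ Z p hp)
  have hy : y.Compatible := by
    rw [Presieve.compatible_iff_sieveCompatible]
    intro Z Z' p k hp
    refine (indep (k ≫ p) _ (i₀ Z p hp) _ (k ≫ v₀ Z p hp) _ (by
      rw [Category.assoc, Category.assoc, h₀ Z p hp])).trans ?_
    exact (hx _ _ _ k p (v₀ Z p hp) (h₀ Z p hp) _).symm
  have hsh := (isSheaf_types G) S hS
  obtain ⟨t, ht, huniq⟩ := hsh y hy
  refine ⟨t, ?_, ?_⟩
  · intro i Z p v h
    refine (ht p (mem' p i v h)).trans ?_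
    exact indep p _ _ _ _ _ _
  · intro t' ht'
    refine huniq t' fun Z p hp => ?_
    exact ht' _ _ p (v₀ Z p hp) (h₀ Z p hp)

end glue

section cofan

variable {A B : Type*} [Category* A] [Category* B] [Preadditive A] [Preadditive B]

/-- Additive functors and maps of finite coproducts. -/
theorem isIso_of_cofan (Φ : A ⥤ B) [Φ.Additive] {I : Type} [Finite I] {P Q : I → A}
    {cP : Cofan P} {cQ : Cofan Q} (hP : IsColimit cP) (hQ : IsColimit cQ)
    (b : cP.pt ⟶ cQ.pt) (β : ∀ i, P i ⟶ Q i) (comm : ∀ i, cP.inj i ≫ b = β i ≫ cQ.inj i)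
    (h : ∀ i, IsIso (Φ.map (β i))) : IsIso (Φ.map b) := by
  have : PreservesColimitsOfShape (Discrete I) Φ := inferInstance
  have hP' := isColimitOfPreserves Φ hP
  have hQ' := isColimitOfPreserves Φ hQ
  let s : Cocone (Discrete.functor Q ⋙ Φ) :=
    { pt := Φ.obj cP.pt
      ι := Discrete.natTrans (fun i => inv (Φ.map (β i.as)) ≫ Φ.map (cP.inj i.as)) }
  have hs : ∀ i : I, Φ.map (cQ.inj i) ≫ hQ'.desc s = inv (Φ.map (β i)) ≫ Φ.map (cP.inj i) :=
    fun i => hQ'.fac s ⟨i⟩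
  have hb : ∀ i : I, Φ.map (cP.inj i) ≫ Φ.map b = Φ.map (β i) ≫ Φ.map (cQ.inj i) := fun i => by
    rw [← Φ.map_comp, comm, Φ.map_comp]
  refine ⟨hQ'.desc s, ?_, ?_⟩
  · apply hP'.hom_ext
    rintro ⟨i⟩
    change Φ.map (cP.inj i) ≫ Φ.map b ≫ hQ'.desc s = Φ.map (cP.inj i) ≫ 𝟙 _
    rw [← Category.assoc, hb, Category.assoc, hs, IsIso.hom_inv_id_assoc, Category.comp_id]
  · apply hQ'.hom_ext
    rintro ⟨i⟩
    change Φ.map (cQ.inj i) ≫ hQ'.desc s ≫ Φ.map b = Φ.map (cQ.inj i) ≫ 𝟙 _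
    rw [← Category.assoc, hs, Category.assoc, hb, IsIso.inv_hom_id_assoc, Category.comp_id]

end cofan

section JF

variable {X : Scheme.{u}} {I : Type} {T : I → X.Etale} {W : X.Etale}
  (D : DisjCover X.smallEtaleTopology T W) (M : Type) [AddCommGroup M]

/-- The cofan of the `(u_i)_! M ⟶ u_! M`. -/
noncomputable def jfCofan : Cofan (fun i => (JF X M).obj (T i)) :=
  Cofan.mk ((JF X M).obj W) (fun i => (JF X M).map (D.ι i))

theorem jfCofan_inj (i : I) : (jfCofan D M).inj i = (JF X M).map (D.ι i) := rfl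

/-- The map out of `u_! M` given by maps out of the `(u_i)_! M`. -/
noncomputable def jfDesc {G : EtCoh.Ab X} (φ : ∀ i, (JF X M).obj (T i) ⟶ G) :
    (JF X M).obj W ⟶ G :=
  Jshriek.lift W (AddMonoidHom.mk'
    (fun m => D.glue G (fun i => (φ i).hom.app (op (T i)) (Jshriek.univ (T i) M m)))
    (fun m m' => D.ext G (fun i => by
      rw [D.map_glue, map_add (G.obj.map (D.ι i).op).hom, D.map_glue, D.map_glue,
        map_add (Jshriek.univ (T i) M)]
      exact map_add ((φ i).hom.app (op (T i))).hom _ _)))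

theorem map_jfDesc {G : EtCoh.Ab X} (φ : ∀ i, (JF X M).obj (T i) ⟶ G) (i : I) :
    (JF X M).map (D.ι i) ≫ jfDesc D M φ = φ i := by
  unfold jfDesc
  rw [JFComp.jMap_lift]
  refine Jshriek.hom_ext (T i) (fun m => ?_)
  rw [Jshriek.lift_univ]
  exact D.map_glue G _ i

theorem jf_hom_ext {G : EtCoh.Ab X} (f g : (JF X M).obj W ⟶ G)
    (h : ∀ i, (JF X M).map (D.ι i) ≫ f = (JF X M).map (D.ι i) ≫ g) : f = g := by
  refine Jshriek.hom_ext W (fun m => D.ext G (fun i => ?_))
  have key : ∀ k : (JF X M).obj W ⟶ G,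
      G.obj.map (D.ι i).op (k.hom.app (op W) (Jshriek.univ W M m)) =
      (((JF X M).map (D.ι i) ≫ k).hom.app (op (T i))) (Jshriek.univ (T i) M m) := by
    intro k
    refine (ConcreteCategory.congr_hom (k.hom.naturality (D.ι i).op)
      (Jshriek.univ W M m)).symm.trans ?_
    exact (congrArg (k.hom.app (op (T i))) (jMap_univ M (D.ι i) m)).symm
  exact (key f).trans ((congrArg (fun k : (JF X M).obj (T i) ⟶ G => k.hom.app (op (T i))
    (Jshriek.univ (T i) M m)) (h i)).trans (key g).symm)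

/-- `u_! M` is the coproduct of the `(u_i)_! M` for a disjoint cover. -/
noncomputable def jfIsColimit : IsColimit (jfCofan D M) :=
  Cofan.IsColimit.mk _ (fun s => jfDesc D M s.inj) (fun s i => map_jfDesc D M s.inj i)
    (fun s m hm => jf_hom_ext D M _ _ (fun i => by
      rw [map_jfDesc]
      exact hm i))

/-- Additive functors of `u_! M` on disjoint covers. -/
theorem isIso_map_jf {B : Type*} [Category* B] [Preadditive B] (Φ : EtCoh.Ab X ⥤ B) [Φ.Additive]
    [Finite I] {T' : I → X.Etale} {W' : X.Etale} (D' : DisjCover X.smallEtaleTopology T' W')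
    (b : W ⟶ W') (β : ∀ i, T i ⟶ T' i) (comm : ∀ i, D.ι i ≫ b = β i ≫ D'.ι i)
    (h : ∀ i, IsIso (Φ.map ((JF X M).map (β i)))) : IsIso (Φ.map ((JF X M).map b)) :=
  isIso_of_cofan Φ (jfIsColimit D M) (jfIsColimit D' M) ((JF X M).map b)
    (fun i => (JF X M).map (β i)) (fun i =>
      ((JF X M).map_comp (D.ι i) b).symm.trans ((congrArg (JF X M).map (comm i)).trans
        ((JF X M).map_comp (β i) (D'.ι i)))) h

end JF

section EU

open EUFun

variable {X : Scheme.{u}} {I : Type} {T : I → X.Etale} {W : X.Etale}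
  (D : DisjCover X.smallEtaleTopology T W) (F : EtCoh.Ab X)

/-- The cofan of the `E_{U_i} F ⟶ E_U F`. -/
noncomputable def euCofan : Cofan (fun i => (EU (T i)).obj F) :=
  Cofan.mk ((EU W).obj F) (fun i => (EUmap (D.ι i)).app F)

theorem euCofan_inj (i : I) : (euCofan D F).inj i = (EUmap (D.ι i)).app F := rfl

theorem eu_existsUnique {G : EtCoh.Ab X} (φ : ∀ i, (EU (T i)).obj F ⟶ G) {W' : X.Etale}
    (a : W' ⟶ W) (s : EtCoh.sect F W') :
    ∃! t : EtCoh.sect G W', ∀ (i : I) (Z : X.Etale) (p : Z ⟶ W') (v : Z ⟶ T i)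
      (_ : p ≫ a = v ≫ D.ι i),
        G.obj.map p.op t = (φ i).hom.app (op Z) (sec v (F.obj.map p.op s)) := by
  refine existsUnique_glue D G a
    (fun i Z p v _ => (φ i).hom.app (op Z) (sec v (F.obj.map p.op s))) ?_
  intro i Z Z' k p v h h'
  refine (ConcreteCategory.congr_hom ((φ i).hom.naturality k.op) _).symm.trans ?_
  refine congrArg ((φ i).hom.app (op Z')) ?_
  refine (sec_res v k (F.obj.map p.op s)).trans ?_
  rw [op_comp, Functor.map_comp_apply]

/-- the component of the map out of `E_U F` -/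
noncomputable def euHom {G : EtCoh.Ab X} (φ : ∀ i, (EU (T i)).obj F ⟶ G) {W' : X.Etale}
    (a : W' ⟶ W) : EtCoh.sect F W' →+ EtCoh.sect G W' :=
  AddMonoidHom.mk' (fun s => (eu_existsUnique D F φ a s).choose) (fun s t => by
    refine (eu_existsUnique D F φ a (s + t)).unique
      (eu_existsUnique D F φ a (s + t)).choose_spec.1 ?_
    intro i Z p v h
    rw [map_add (G.obj.map p.op).hom, (eu_existsUnique D F φ a s).choose_spec.1 i Z p v h,
      (eu_existsUnique D F φ a t).choose_spec.1 i Z p v h, map_add (F.obj.map p.op).hom, sec_add]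
    exact (map_add ((φ i).hom.app (op Z)).hom _ _).symm)

theorem euHom_spec {G : EtCoh.Ab X} (φ : ∀ i, (EU (T i)).obj F ⟶ G) {W' : X.Etale}
    (a : W' ⟶ W) (s : EtCoh.sect F W') (i : I) (Z : X.Etale) (p : Z ⟶ W') (v : Z ⟶ T i)
    (h : p ≫ a = v ≫ D.ι i) :
    G.obj.map p.op (euHom D F φ a s) = (φ i).hom.app (op Z) (sec v (F.obj.map p.op s)) :=
  (eu_existsUnique D F φ a s).choose_spec.1 i Z p v h

theorem euHom_unique {G : EtCoh.Ab X} (φ : ∀ i, (EU (T i)).obj F ⟶ G) {W' : X.Etale}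
    (a : W' ⟶ W) (s : EtCoh.sect F W') (t : EtCoh.sect G W')
    (ht : ∀ (i : I) (Z : X.Etale) (p : Z ⟶ W') (v : Z ⟶ T i) (_ : p ≫ a = v ≫ D.ι i),
        G.obj.map p.op t = (φ i).hom.app (op Z) (sec v (F.obj.map p.op s))) :
    euHom D F φ a s = t :=
  (eu_existsUnique D F φ a s).unique (eu_existsUnique D F φ a s).choose_spec.1 ht

theorem euHom_compat {G : EtCoh.Ab X} (φ : ∀ i, (EU (T i)).obj F ⟶ G) {W₁ W₂ : X.Etale}
    (a : W₁ ⟶ W) (b : W₂ ⟶ W₁) (s : EtCoh.sect F W₁) :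
    euHom D F φ (b ≫ a) (F.obj.map b.op s) = G.obj.map b.op (euHom D F φ a s) := by
  refine euHom_unique D F φ (b ≫ a) _ _ ?_
  intro i Z p v h
  have h1 := euHom_spec D F φ a s i Z (p ≫ b) v (by rw [Category.assoc, h])
  rw [op_comp, Functor.map_comp_apply, Functor.map_comp_apply] at h1
  exact h1

/-- The map out of `E_U F` given by maps out of the `E_{U_i} F`. -/
noncomputable def euDesc {G : EtCoh.Ab X} (φ : ∀ i, (EU (T i)).obj F ⟶ G) :
    (EU W).obj F ⟶ G :=
  EUFun.desc (fun {_} a => euHom D F φ a) (fun {_ _} a b s => euHom_compat D F φ a b s)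

theorem euDesc_sec {G : EtCoh.Ab X} (φ : ∀ i, (EU (T i)).obj F ⟶ G) {W' : X.Etale}
    (a : W' ⟶ W) (s : EtCoh.sect F W') :
    (euDesc D F φ).hom.app (op W') (sec a s) = euHom D F φ a s :=
  desc_sec (fun {_} a => euHom D F φ a) (fun {_ _} a b s => euHom_compat D F φ a b s) a s

theorem map_euDesc {G : EtCoh.Ab X} (φ : ∀ i, (EU (T i)).obj F ⟶ G) (i : I) :
    (EUmap (D.ι i)).app F ≫ euDesc D F φ = φ i := by
  apply EUFun.hom_ext
  intro W' a s
  rw [Etcore.PullCoh.map_comp_app, EUmap_sec, euDesc_sec]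
  have h := euHom_spec D F φ (a ≫ D.ι i) s i W' (𝟙 W') a (by rw [Category.id_comp])
  rw [op_id, CategoryTheory.Functor.map_id, CategoryTheory.Functor.map_id] at h
  exact h

theorem eu_hom_ext {G : EtCoh.Ab X} (f g : (EU W).obj F ⟶ G)
    (h : ∀ i, (EUmap (D.ι i)).app F ≫ f = (EUmap (D.ι i)).app F ≫ g) : f = g := by
  apply EUFun.hom_ext
  intro W' a s
  have key : ∀ k : (EU W).obj F ⟶ G, ∀ (i : I) (Z : X.Etale) (p : Z ⟶ W') (v : Z ⟶ T i)
      (_ : p ≫ a = v ≫ D.ι i), G.obj.map p.op (k.hom.app (op W') (sec a s)) =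
        ((EUmap (D.ι i)).app F ≫ k).hom.app (op Z) (sec v (F.obj.map p.op s)) := by
    intro k i Z p v hv
    refine (ConcreteCategory.congr_hom (k.hom.naturality p.op) (sec a s)).symm.trans ?_
    rw [Etcore.PullCoh.map_comp_app, EUmap_sec]
    refine congrArg (k.hom.app (op Z)) ?_
    refine (sec_res a p s).trans ?_
    rw [hv]
  have h1 := existsUnique_glue D G a
    (fun i Z p v _ => (((EUmap (D.ι i)).app F ≫ g).hom.app (op Z) (sec v (F.obj.map p.op s)))) ?_
  · refine h1.unique ?_ ?_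
    · intro i Z p v hv
      rw [key f i Z p v hv, h i]
    · intro i Z p v hv
      rw [key g i Z p v hv]
  · intro i Z Z' k p v hv hv'
    refine (ConcreteCategory.congr_hom
      (((EUmap (D.ι i)).app F ≫ g).hom.naturality k.op) _).symm.trans ?_
    refine congrArg (((EUmap (D.ι i)).app F ≫ g).hom.app (op Z')) ?_
    refine (sec_res v k (F.obj.map p.op s)).trans ?_
    rw [op_comp, Functor.map_comp_apply]

/-- `E_U F` is the coproduct of the `E_{U_i} F` for a disjoint cover. -/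
noncomputable def euIsColimit : IsColimit (euCofan D F) :=
  Cofan.IsColimit.mk _ (fun s => euDesc D F s.inj) (fun s i => map_euDesc D F s.inj i)
    (fun s m hm => eu_hom_ext D F _ _ (fun i => by
      rw [map_euDesc]
      exact hm i))

/-- Additive functors of `E_U F` on disjoint covers. -/
theorem isIso_map_eu {B : Type*} [Category* B] [Preadditive B] (Φ : EtCoh.Ab X ⥤ B) [Φ.Additive]
    [Finite I] {T' : I → X.Etale} {W' : X.Etale} (D' : DisjCover X.smallEtaleTopology T' W')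
    (b : W ⟶ W') (β : ∀ i, T i ⟶ T' i) (comm : ∀ i, D.ι i ≫ b = β i ≫ D'.ι i)
    (h : ∀ i, IsIso (Φ.map ((EUmap (β i)).app F))) : IsIso (Φ.map ((EUmap b).app F)) :=
  isIso_of_cofan Φ (euIsColimit D F) (euIsColimit D' F) ((EUmap b).app F)
    (fun i => (EUmap (β i)).app F) (fun i => by
      rw [euCofan_inj, euCofan_inj]
      exact (EUmap_comp _ _ F).symm.trans ((congrArg (fun z => (EUmap z).app F) (comm i)).trans
        (EUmap_comp _ _ F))) h

end EU

end Groth.Agent.Sga4B.JFDisj
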