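import Groth.Agent.Sga4B.DualIface
import Groth.Agent.Sga4B.RelCurveFibre
import Groth.Agent.Sga4B.JFComp
import Groth.Agent.Etbase.StalkPush
import Groth.Agent.Etcore.Torsion

/-!
# `p_* L[V] = 0` for `V` affine, and relative cohomological dimension two, for a relative curve
-/

set_option autoImplicit false

universe u

open CategoryTheory CategoryTheory.Limits AlgebraicGeometry Opposite

namespace Groth.Agent.Sga4B.DualV0Cd

open DualShape DualIface

variable {n : ℕ} {X S : Scheme.{u}} {p : X ⟶ S}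

/-- `n > 0` for a relative curve with a geometric point. -/
theorem n_pos (h : RelCurve n p) (K : Type u) [Field K] (s : Spec (CommRingCat.of K) ⟶ S) :
    0 < n :=
  Nat.pos_of_ne_zero fun h0 => RelCurveFibre.natCast_ne_zero h K s (by rw [h0, Nat.cast_zero])

/-- If the cohomology of the geometric fibres vanishes, so does the higher direct image. -/
theorem isZero_Rpush_of_fibres (hP : StmtPBC p) (q : ℕ) (F : EtCoh.Ab X)
    (hF : ∀ (Ω : Type u) [Field Ω] [IsAlgClosed Ω] (_ : Spec (CommRingCat.of Ω) ⟶ S),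
      EtCoh.IsTorsion F)
    (h : ∀ (Ω : Type u) [Field Ω] [IsAlgClosed Ω] (s : Spec (CommRingCat.of Ω) ⟶ S),
      Subsingleton (EtCoh.H (pullback p s) ((EtCoh.pull (pullback.fst p s)).obj F) q)) :
    IsZero ((EtCoh.Rpush p q).obj F) := by
  apply Groth.Agent.Etbase.StalkPush.isZero_of_stalk
  intro Ω _ _ s
  obtain ⟨e, -⟩ := hP Ω s q
  have h1 : Subsingleton ((EtCoh.HF (pullback p s) q).obj
    ((EtCoh.pull (pullback.fst p s)).obj F)) := h Ω s
  exact ((e F (hF Ω s)).addCommGroupIsoToAddEquiv.toEquiv).subsingleton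

/-- **(V0)** `p_* L[V] = 0` for `V` affine. -/
theorem stmtV0 (n : ℕ) {X S : Scheme.{u}} (p : X ⟶ S) (h : RelCurve n p) (hP : StmtPBC p)
    (hC0 : ∀ (Ω : Type u) [Field Ω] [IsAlgClosed Ω] (s : Spec (CommRingCat.of Ω) ⟶ S),
      StmtC0 n (pullback p s)) : StmtV0 n p := by
  intro V hV
  have h0 : IsZero ((EtCoh.Rpush p 0).obj (LS n V)) := by
    refine isZero_Rpush_of_fibres hP 0 _ (fun Ω _ _ s =>
      JFComp.isTorsion_of_killedBy (n_pos h Ω s) (JFComp.killedBy_LS n V)) (fun Ω _ _ s => ?_)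
    have hsep : S.IsSeparated := h.sep
    have h0 : IsAffineHom (s ≫ terminal.from S) := inferInstance
    have h1 : IsAffineHom s := IsAffineHom.of_comp s (terminal.from S)
    have h2 : IsAffineHom (pullback.fst p s) := MorphismProperty.pullback_fst _ _ h1
    have h3 : IsAffine ((EtCoh.bc (pullback.fst p s)).obj V).left := by
      have h4 : IsAffineHom (pullback.fst V.hom (pullback.fst p s)) :=
        MorphismProperty.pullback_fst _ _ h2
      exact @isAffine_of_isAffineHom _ _ _ h4 hV
    have h4 : Subsingleton ((EtCoh.HF (pullback p s) 0).obj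
      ((EtCoh.bc (pullback.fst p s) ⋙ JF (pullback p s) (ZMod n)).obj V)) :=
        hC0 Ω s ((EtCoh.bc (pullback.fst p s)).obj V)
    have e := ((EtCoh.HF (pullback p s) 0).mapIso ((JFComp.pullIso (M := ZMod n)
      (pullback.fst p s)).app V)).addCommGroupIsoToAddEquiv
    exact e.toEquiv.subsingleton
  exact h0.of_iso ((EtCoh.push p).rightDerivedZeroIsoSelf.symm.app _)

/-- Relative cohomological dimension two from that of the geometric fibres. -/
theorem stmtCd_of (n : ℕ) {X S : Scheme.{u}} (p : X ⟶ S) (h : RelCurve n p) (hP : StmtPBC p)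
    (hcd : ∀ (Ω : Type u) [Field Ω] [IsAlgClosed Ω] (s : Spec (CommRingCat.of Ω) ⟶ S),
      EtCoh.CohDimLE (pullback p s) 2) : StmtCd n p := by
  intro F hF q hq
  refine isZero_Rpush_of_fibres hP q F (fun Ω _ _ s =>
      JFComp.isTorsion_of_killedBy (n_pos h Ω s) hF) (fun Ω _ _ s => ?_)
  exact hcd Ω s _ (Groth.Agent.Etcore.Torsion.isTorsion_pull _ F
    (JFComp.isTorsion_of_killedBy (n_pos h Ω s) hF)) q hq

end Groth.Agent.Sga4B.DualV0Cd
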