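import Groth.Agent.Sga4B.ThetaPt
import Groth.Agent.Sga4B.BCDelta0
import Groth.Agent.Sga4B.DualIface
import Groth.Agent.Etcore.PullJoint

/-!
# Statement (V3) of the duality project

`stmtV3 : RelCurve n p → StmtV3 n p`: `L[S'] ≅ R²p_* L[p⁻¹S']`, natural in `S'`.
-/

set_option autoImplicit false
universe u

open CategoryTheory CategoryTheory.Limits AlgebraicGeometry Opposite

namespace Groth.Agent.Sga4B.DualV3

open Groth.Agent.Etcore.PullCoh Groth.Agent.Sga4B.EUFun Groth.Agent.Sga4B.EUConst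
  Groth.Agent.Sga4B.DualShape
  Groth.Agent.Sga4B.EUDisj Groth.Agent.Sga4B.BCDelta Groth.Agent.Localalg.DeltaFun
  Groth.Agent.Sga4B.ThetaE Groth.Agent.Sga4B.ThetaHex Groth.Agent.Sga4B.ThetaPt

open scoped Groth.Agent.Sga4B.EtAbInst

variable {X S : Scheme.{u}} {p : X ⟶ S}

/-- Isomorphisms can be checked after pullback to geometric points. -/
theorem isIso_of_geom {F G : EtCoh.Ab S} (f : F ⟶ G)
    (h : ∀ (Ω : Type u) [Field Ω] [IsSepClosed Ω] (t : Spec (CommRingCat.of Ω) ⟶ S),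
      IsIso ((EtCoh.pull t).map f)) : IsIso f := by
  have hg := fun s : S => Etcore.Stalks.exists_geom s
  choose Ω hF hsep ξ hξ using hg
  exact Etcore.PullJoint.isIso_of_pull (Y := fun s => Spec (CommRingCat.of (Ω s))) ξ
    (fun x => ⟨x, _, hξ x⟩) f (fun s => h (Ω s) (ξ s))

theorem isIso_lam {X' Y' Y : Scheme.{u}} {p : X ⟶ Y} {i : Y' ⟶ Y} {p' : X' ⟶ Y'} {i' : X' ⟶ X}
    (w : i' ≫ p = p' ≫ i) (V : Y.Etale) (M : Type) [AddCommGroup M] :
    IsIso (lam w V (EtCoh.const X M)) := by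
  have h := isIso_kap_const M i' ((EtCoh.bc p).obj V)
  have h2 : IsIso ((EUmap (EtpbcB.BCCalc.theta w V).inv).app ((EtCoh.pull i').obj (EtCoh.const X M))) := by
    refine ⟨(EUmap (EtpbcB.BCCalc.theta w V).hom).app _, ?_, ?_⟩
    · rw [← EUmap_comp, Iso.inv_hom_id, EUmap_id]
    · rw [← EUmap_comp, Iso.hom_inv_id, EUmap_id]
  unfold lam
  exact IsIso.comp_isIso' h h2

/-- Canonical proper base change for torsion sheaves (`Groth.Agent.Sga4B.BCDelta.isIso_BC`). -/
def CanPBC {X S : Scheme.{u}} (p : X ⟶ S) : Prop :=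
  ∀ (Ω : Type u) [Field Ω] [IsSepClosed Ω] (t : Spec (CommRingCat.of Ω) ⟶ S) (q : ℕ)
    (F : EtCoh.Ab X), EtCoh.IsTorsion F →
      IsIso ((BCq (IsPullback.of_hasPullback p t).w q).app F)

theorem killedBy_const (n : ℕ) (X : Scheme.{u}) : EtCoh.KilledBy n (EtCoh.const X (ZMod n)) := by
  rw [EtpbcA.Present.killedBy_iff]
  have h := (EtpbcA.Present.killedBy_iff n _).1 (JFComp.killedBy_LS (X := X) n (EtCoh.top X))
  rw [← cancel_epi (JFComp.topIso (ZMod n) X).hom]
  have h2 : (JFComp.topIso (ZMod n) X).hom ≫ (n • 𝟙 (EtCoh.const X (ZMod n))) =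
    (n • 𝟙 _) ≫ (JFComp.topIso (ZMod n) X).hom := by
    rw [Preadditive.comp_nsmul, Preadditive.nsmul_comp, Category.comp_id, Category.id_comp]
  rw [h2, h, zero_comp, comp_zero]

theorem killedBy_EU (n : ℕ) (U : X.Etale) :
    EtCoh.KilledBy n ((EU U).obj (EtCoh.const X (ZMod n))) := by
  rw [EtpbcA.Present.killedBy_iff]
  have h := (EtpbcA.Present.killedBy_iff n _).1 (killedBy_const n X)
  rw [← CategoryTheory.Functor.map_id, ← Functor.map_nsmul, h, Functor.map_zero]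

/-- `TH p V` is an isomorphism at a constant sheaf with constant `R^q p_*`. -/
theorem isIso_TH (n : ℕ) (hBC : CanPBC p) (q : ℕ)
    (e : EtCoh.const S (ZMod n) ≅ ((RpushD p).T q).obj (EtCoh.const X (ZMod n))) (V : S.Etale)
    [QuasiCompact V.hom] (hn : ∀ (Ω : Type u) [Field Ω] (_ : Spec (CommRingCat.of Ω) ⟶ S), 0 < n) :
    IsIso (AbsHex.cp (TH p V) q (EtCoh.const X (ZMod n))) := by
  apply isIso_of_geom
  intro Ω _ _ t
  have hn' := hn Ω t
  let w := (IsPullback.of_hasPullback p t).w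
  have hqc : QuasiCompact ((EtCoh.bc t).obj V).hom := by
    have : QuasiCompact (pullback.snd V.hom t) := inferInstance
    exact this
  have h1 : IsIso (kap t V (((RpushD p).T q).obj (EtCoh.const X (ZMod n)))) :=
    isIso_kap_of_iso t V e (isIso_kap_const (ZMod n) t V)
  have h2 : IsIso (AbsHex.cp (BC w) q (EtCoh.const X (ZMod n))) :=
    hBC Ω t q _ (JFComp.isTorsion_of_killedBy hn' (killedBy_const n X))
  have h3 : IsIso (AbsHex.cp (BC w) q ((EU ((EtCoh.bc p).obj V)).obj (EtCoh.const X (ZMod n)))) :=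
    hBC Ω t q _ (JFComp.isTorsion_of_killedBy hn' (killedBy_EU n _))
  have h4 : IsIso (AbsHex.cp (TH (pullback.snd p t) ((EtCoh.bc t).obj V)) q
      ((EtCoh.pull (pullback.fst p t)).obj (EtCoh.const X (ZMod n)))) :=
    isIso_TH_point (pullback.snd p t) ((EtCoh.bc t).obj V) q _
  have h5 : IsIso (lam w V (EtCoh.const X (ZMod n))) := isIso_lam w V (ZMod n)
  have h6 := hex w V q (EtCoh.const X (ZMod n))
  have h7 : IsIso (((RpushD (pullback.snd p t)).T q).map (lam w V (EtCoh.const X (ZMod n)))) :=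
    inferInstance
  have h8 : IsIso ((EU ((EtCoh.bc t).obj V)).map (AbsHex.cp (BC w) q (EtCoh.const X (ZMod n)))) :=
    inferInstance
  have h9 := IsIso.comp_isIso' h1 (IsIso.comp_isIso' h8 h4)
  have h10 := IsIso.comp_isIso' h3 h7
  have h11 := h9
  rw [h6] at h11
  exact @IsIso.of_isIso_comp_right _ _ _ _ _ _ _ h10 h11

/-- The component of the natural map. -/
noncomputable def tauApp (n : ℕ) (e : EtCoh.const S (ZMod n) ⟶
    ((RpushD p).T 2).obj (EtCoh.const X (ZMod n))) (V : S.Etale) :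
    (JF S (ZMod n)).obj V ⟶ ((RpushD p).T 2).obj ((JF X (ZMod n)).obj ((EtCoh.bc p).obj V)) :=
  cE (ZMod n) V ≫ (EU V).map e ≫ AbsHex.cp (TH p V) 2 (EtCoh.const X (ZMod n)) ≫
    ((RpushD p).T 2).map (inv (cE (ZMod n) ((EtCoh.bc p).obj V)))

theorem tauApp_naturality (n : ℕ) (e : EtCoh.const S (ZMod n) ⟶
    ((RpushD p).T 2).obj (EtCoh.const X (ZMod n))) {V W : S.Etale} (g : V ⟶ W) :
    (JF S (ZMod n)).map g ≫ tauApp n e W =
      tauApp n e V ≫ ((RpushD p).T 2).map ((JF X (ZMod n)).map ((EtCoh.bc p).map g)) := by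
  have h1 := cE_naturality (ZMod n) g
  have h2 := (EUmap g).naturality e
  have h3 := cp_TH_naturality p g 2 (EtCoh.const X (ZMod n))
  have h4 : (EUmap ((EtCoh.bc p).map g)).app (EtCoh.const X (ZMod n)) ≫
      inv (cE (ZMod n) ((EtCoh.bc p).obj W)) =
      inv (cE (ZMod n) ((EtCoh.bc p).obj V)) ≫ (JF X (ZMod n)).map ((EtCoh.bc p).map g) := by
    rw [IsIso.comp_inv_eq, Category.assoc, cE_naturality, IsIso.inv_hom_id_assoc]
  unfold tauApp
  rw [← Category.assoc, h1, Category.assoc, ← Category.assoc ((EUmap g).app _), ← h2,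
    Category.assoc, ← Category.assoc ((EUmap g).app _), h3, Category.assoc, Category.assoc,
    Category.assoc, Category.assoc, ← Functor.map_comp, h4, Functor.map_comp]

/-- The natural transformation `L[S'] ⟶ R²p_* L[p⁻¹ S']`. -/
noncomputable def tau (n : ℕ) (e : EtCoh.const S (ZMod n) ⟶
    ((RpushD p).T 2).obj (EtCoh.const X (ZMod n))) :
    JF S (ZMod n) ⟶ EtCoh.bc p ⋙ JF X (ZMod n) ⋙ (RpushD p).T 2 where
  app V := tauApp n e V
  naturality _ _ g := tauApp_naturality n e g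

theorem isIso_tauApp (n : ℕ) (hBC : CanPBC p) (e : EtCoh.const S (ZMod n) ≅
    ((RpushD p).T 2).obj (EtCoh.const X (ZMod n))) (V : S.Etale) [QuasiCompact V.hom]
    (hn : ∀ (Ω : Type u) [Field Ω] (_ : Spec (CommRingCat.of Ω) ⟶ S), 0 < n) :
    IsIso (tauApp n e.hom V) := by
  have h := isIso_TH n hBC 2 e V hn
  unfold tauApp
  infer_instance

/-- The form of (V3) for the delta functor `RpushD`. -/
theorem exists_tau (n : ℕ) (hBC : CanPBC p) (e : EtCoh.const S (ZMod n) ≅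
    ((RpushD p).T 2).obj (EtCoh.const X (ZMod n)))
    (hn : ∀ (Ω : Type u) [Field Ω] (_ : Spec (CommRingCat.of Ω) ⟶ S), 0 < n) :
    ∃ τ : JF S (ZMod n) ⟶ EtCoh.bc p ⋙ JF X (ZMod n) ⋙ (RpushD p).T 2,
      ∀ (V : S.Etale) [QuasiCompact V.hom], IsIso (τ.app V) :=
  ⟨tau n e.hom, fun V _ => isIso_tauApp n hBC e V hn⟩

/-- **(V3)**, from canonical proper base change. -/
theorem stmtV3_of (n : ℕ) {X S : Scheme.{u}} (p : X ⟶ S) (hBC : CanPBC p)
    (orient : Nonempty ((EtCoh.Rpush p 2).obj (EtCoh.const X (ZMod n)) ≅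
      EtCoh.const S (ZMod n)))
    (hn : ∀ (Ω : Type u) [Field Ω] (_ : Spec (CommRingCat.of Ω) ⟶ S), 0 < n) :
    DualIface.StmtV3 n p := by
  obtain ⟨e⟩ := orient
  obtain ⟨τ, hτ⟩ := exists_tau n hBC e.symm hn
  exact ⟨τ, fun V _ _ => hτ V⟩

end Groth.Agent.Sga4B.DualV3
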