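import Groth.Agent.EtpbcA.GeomSplit
import Groth.Agent.EtpbcA.Germ
import Mathlib.AlgebraicGeometry.Morphisms.FlatMono

/-!
# Splitting of the base change of an étale scheme to a geometric fibre
-/

set_option autoImplicit false
universe u

open CategoryTheory CategoryTheory.Limits AlgebraicGeometry Opposite

namespace Groth.Agent.Sga4B.DualVCover

open Groth.Agent.EtpbcA.GeomSplit Groth.Agent.EtpbcA.JZero

/-- pullback of a disjoint cover -/
noncomputable def pbCover {C : Type (u + 1)} [Category.{u} C] {J : GrothendieckTopology C}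
    [HasPullbacks C] {I : Type} {T : I → C} {W : C} (D : DisjCover J T W) {W' : C} (a : W' ⟶ W) :
    DisjCover J (fun i => pullback a (D.ι i)) W' where
  ι i := pullback.fst a (D.ι i)
  mono i := by
    have := D.mono i
    infer_instance
  cover := by
    refine J.superset_covering ?_ (J.pullback_stable a D.cover)
    rintro Z p ⟨Y, k, l, ⟨i⟩, hk⟩
    exact ⟨_, pullback.lift p k hk.symm, _, ⟨i⟩, pullback.lift_fst _ _ _⟩
  disj i j hij Z x y h := by
    refine D.disj i j hij Z (x ≫ pullback.snd _ _) (y ≫ pullback.snd _ _) ?_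
    rw [Category.assoc, Category.assoc, ← pullback.condition, ← pullback.condition,
      ← Category.assoc, ← Category.assoc, h]

variable {X S : Scheme.{u}} (p : X ⟶ S) {Ω : Type u} [Field Ω] (t : Spec (CommRingCat.of Ω) ⟶ S)

/-- The base change of an étale `S`-scheme to the fibre `X_t`. -/
noncomputable abbrev fibObj (W : S.Etale) : (pullback p t).Etale :=
  (EtCoh.bc (pullback.fst p t)).obj ((EtCoh.bc p).obj W)

/-- The projection to the original étale scheme. -/
noncomputable def fibPr (W : S.Etale) : (fibObj p t W).left ⟶ W.left :=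
  prj (pullback.fst p t) ((EtCoh.bc p).obj W) ≫ prj p W

theorem fibPr_hom (W : S.Etale) :
    fibPr p t W ≫ W.hom = (fibObj p t W).hom ≫ pullback.snd p t ≫ t := by
  unfold fibPr
  rw [Category.assoc, prj_hom, ← pullback.condition]
  refine (Category.assoc _ _ _).symm.trans ?_
  rw [prj_hom]
  exact Category.assoc _ _ _

theorem fib_ext {W : S.Etale} {Z : Scheme.{u}} {a b : Z ⟶ (fibObj p t W).left}
    (h1 : a ≫ fibPr p t W = b ≫ fibPr p t W)
    (h2 : a ≫ (fibObj p t W).hom = b ≫ (fibObj p t W).hom) : a = b := by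
  refine bc_hom_ext (pullback.fst p t) (bc_hom_ext p ?_ ?_) h2
  · rw [Category.assoc, Category.assoc]
    exact h1
  · rw [Category.assoc, Category.assoc]
    have e := prj_hom (pullback.fst p t) ((EtCoh.bc p).obj W)
    rw [e]
    exact (Category.assoc _ _ _).symm.trans ((congrArg (· ≫ pullback.fst p t) h2).trans
      (Category.assoc _ _ _))

variable {W : S.Etale} (j : Spec (CommRingCat.of Ω) ⟶ W.left) (hj : j ≫ W.hom = t)

/-- The underlying morphism of `fibSec`. -/
noncomputable def fibSecLeft : pullback p t ⟶ (fibObj p t W).left :=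
  pullback.lift (pullback.lift (pullback.snd p t ≫ j) (pullback.fst p t) (by
    rw [Category.assoc, hj, pullback.condition])) (𝟙 _) (by
    rw [Category.id_comp]
    exact pullback.lift_snd _ _ _)

theorem fibSecLeft_hom : fibSecLeft p t j hj ≫ (fibObj p t W).hom = 𝟙 _ :=
  pullback.lift_snd _ _ _

theorem fibSecLeft_prj : fibSecLeft p t j hj ≫ prj (pullback.fst p t) ((EtCoh.bc p).obj W) =
    (pullback.lift (pullback.snd p t ≫ j) (pullback.fst p t) (by
      rw [Category.assoc, hj, pullback.condition]) : pullback p t ⟶ pullback W.hom p) :=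
  pullback.lift_fst _ _ _

theorem fibSecLeft_pr : fibSecLeft p t j hj ≫ fibPr p t W = pullback.snd p t ≫ j := by
  unfold fibPr
  rw [← Category.assoc, fibSecLeft_prj]
  exact pullback.lift_fst _ _ _

/-- The section of the base change of `W` to the fibre over `t` given by a point of `W`. -/
noncomputable def fibSec : EtCoh.top (pullback p t) ⟶ fibObj p t W :=
  MorphismProperty.Over.homMk (fibSecLeft p t j hj) (fibSecLeft_hom p t j hj) trivial

theorem fibSec_left : (fibSec p t j hj).left = fibSecLeft p t j hj := rfl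

/-- The sections attached to the points of a geometric fibre are jointly surjective. -/
theorem exists_mem_range [IsSepClosed Ω] (u : (fibObj p t W).left) :
    ∃ (j : Spec (CommRingCat.of Ω) ⟶ W.left) (hj : j ≫ W.hom = t) (c : ↥(pullback p t)),
      fibSecLeft p t j hj c = u := by
  let Z : Scheme.{u} := Spec ((fibObj p t W).left.residueField u)
  let w : Z ⟶ (fibObj p t W).left := (fibObj p t W).left.fromSpecResidueField u
  let z : Z := IsLocalRing.closedPoint _
  have hw : w z = u := Scheme.fromSpecResidueField_apply _ _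
  let l : Z ⟶ pullback W.hom t := pullback.lift (w ≫ fibPr p t W)
    (w ≫ (fibObj p t W).hom ≫ pullback.snd p t) (by
      rw [Category.assoc, fibPr_hom, Category.assoc, Category.assoc])
  have hl1 : l ≫ pullback.fst W.hom t = w ≫ fibPr p t W := pullback.lift_fst _ _ _
  have hl2 : l ≫ pullback.snd W.hom t = w ≫ (fibObj p t W).hom ≫ pullback.snd p t :=
    pullback.lift_snd _ _ _
  have hWe : Etale W.hom := W.prop
  obtain ⟨j', hj', hj'l⟩ := Scheme.exists_fac_of_etale_of_isSepClosed (pullback.snd W.hom t)
    (𝟙 (Spec (CommRingCat.of Ω))) (l z) (Subsingleton.elim _ _)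
  have he : Etale j' := by
    have : Etale (j' ≫ pullback.snd W.hom t) := by
      rw [hj']
      infer_instance
    exact Etale.of_comp j' (pullback.snd W.hom t)
  have hm : Mono j' := by
    have : Mono (j' ≫ pullback.snd W.hom t) := by
      rw [hj']
      infer_instance
    exact mono_of_mono j' (pullback.snd W.hom t)
  have ho : IsOpenImmersion j' := IsOpenImmersion.of_flat_of_mono j'
  have hr : Set.range l ⊆ Set.range j' := by
    rintro _ ⟨a, rfl⟩
    refine ⟨default, ?_⟩
    rw [hj'l, Subsingleton.elim a z]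
  have hfac := IsOpenImmersion.lift_fac j' l hr
  have hl' : IsOpenImmersion.lift j' l hr = w ≫ (fibObj p t W).hom ≫ pullback.snd p t := by
    have h1 : (IsOpenImmersion.lift j' l hr ≫ j') ≫ pullback.snd W.hom t =
        l ≫ pullback.snd W.hom t := congrArg (· ≫ pullback.snd W.hom t) hfac
    rw [Category.assoc, hj', Category.comp_id] at h1
    exact h1.trans hl2
  have hj : (j' ≫ pullback.fst W.hom t) ≫ W.hom = t := by
    rw [Category.assoc, pullback.condition, ← Category.assoc, hj', Category.id_comp]
  refine ⟨j' ≫ pullback.fst W.hom t, hj, (w ≫ (fibObj p t W).hom) z, ?_⟩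
  have key : (w ≫ (fibObj p t W).hom) ≫ fibSecLeft p t (j' ≫ pullback.fst W.hom t) hj = w := by
    apply fib_ext
    · rw [Category.assoc, fibSecLeft_pr, ← hl1, ← hfac, hl']
      simp only [Category.assoc]
    · rw [Category.assoc, fibSecLeft_hom]
      exact Category.comp_id _
  rw [← Scheme.Hom.comp_apply, key, hw]

/-- Distinct points give disjoint sections. -/
theorem isEmpty_of_comp_eq {j j' : Spec (CommRingCat.of Ω) ⟶ W.left} (hj : j ≫ W.hom = t)
    (hj' : j' ≫ W.hom = t) (hne : j ≠ j') {Z : Scheme.{u}} (a : Z ⟶ pullback p t)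
    (h : a ≫ fibSecLeft p t j hj = a ≫ fibSecLeft p t j' hj') : IsEmpty Z := by
  by_contra hZ
  rw [not_isEmpty_iff] at hZ
  apply hne
  have hs : Surjective (a ≫ pullback.snd p t) := ⟨fun y => by
    obtain ⟨z⟩ := hZ
    exact ⟨z, Subsingleton.elim _ _⟩⟩
  have hf : Flat (a ≫ pullback.snd p t) := inferInstance
  have : Epi (a ≫ pullback.snd p t) := Flat.epi_of_flat_of_surjective _
  rw [← cancel_epi (a ≫ pullback.snd p t), Category.assoc, Category.assoc,
    ← fibSecLeft_pr p t j hj, ← fibSecLeft_pr p t j' hj', ← Category.assoc, h, Category.assoc]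

/-- The base change of a quasi-compact étale `S`-scheme to a geometric fibre is a finite disjoint
union of copies of the fibre. -/
theorem exists_disjCover [IsSepClosed Ω] (W : S.Etale) [QuasiCompact W.hom] :
    ∃ (m : ℕ) (j : Fin m → (Spec (CommRingCat.of Ω) ⟶ W.left)) (hj : ∀ i, j i ≫ W.hom = t)
      (D : DisjCover (pullback p t).smallEtaleTopology
        (fun _ : Fin m => EtCoh.top (pullback p t)) (fibObj p t W)),
        ∀ i, D.ι i = fibSec p t (j i) (hj i) := by
  have hfin := finite_lifts W t
  obtain ⟨m, ⟨e⟩⟩ := Finite.exists_equiv_fin {j : Spec (CommRingCat.of Ω) ⟶ W.left // j ≫ W.hom = t}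
  refine ⟨m, fun i => (e.symm i).1, fun i => (e.symm i).2,
    { ι := fun i => fibSec p t (e.symm i).1 (e.symm i).2
      mono := fun i => (isTerminalTop (pullback p t)).mono_from _
      cover := ?_
      disj := ?_ }, fun i => rfl⟩
  · rw [Groth.Agent.EtpbcA.Germ.mem_iff]
    intro u
    obtain ⟨j, hj, c, hc⟩ := exists_mem_range p t u
    refine ⟨_, fibSec p t (e.symm (e ⟨j, hj⟩)).1 (e.symm (e ⟨j, hj⟩)).2,
      Sieve.ofArrows_mk _ _ (e ⟨j, hj⟩), c, ?_⟩
    rw [← hc]
    have : e.symm (e ⟨j, hj⟩) = ⟨j, hj⟩ := e.symm_apply_apply _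
    change fibSecLeft p t (e.symm (e ⟨j, hj⟩)).1 (e.symm (e ⟨j, hj⟩)).2 c = _
    simp only [this]
  · intro i k hik Z a b h
    rw [Groth.Agent.EtpbcA.Germ.mem_iff]
    intro z
    have hab : a = b := (isTerminalTop (pullback p t)).hom_ext _ _
    subst hab
    have h1 : IsEmpty Z.left := isEmpty_of_comp_eq p t (e.symm i).2 (e.symm k).2
      (fun hh => hik (e.symm.injective (Subtype.ext hh))) a.left
      (congrArg (fun f : Z ⟶ fibObj p t W => f.left) h)
    exact h1.elim z

end Groth.Agent.Sga4B.DualVCover
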