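import Groth.Agent.Sga4B.EUConst
import Groth.Agent.Sga4B.DirSum
import Groth.Agent.EtpbcA.JZero

/-!
# `E_U F` and `u_! M` for finite disjoint covers

For a finite disjoint cover `D : DisjCover Y.smallEtaleTopology T V`, `E_V F` is the direct sum of the
`E_{T i} F` and `JF V = ⊕ JF (T i)`. Also `E_V F ≅ F` for `V` terminal.
-/

set_option autoImplicit false
universe u

open CategoryTheory CategoryTheory.Limits AlgebraicGeometry Opposite

namespace Groth.Agent.Sga4B.EUDisj

open Groth.Agent.Etcore.PullCoh Groth.Agent.Sga4B.EUFun Groth.Agent.Sga4B.EUConst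
  Groth.Agent.Sga4B.DirSum Groth.Agent.EtpbcA.JZero Groth.Agent.Sga4B.DualShape

section General

variable {C : Type (u + 1)} [Category.{u} C] {J : GrothendieckTopology C}

/-- Base change of a finite disjoint cover. -/
noncomputable def pb [HasPullbacks C] {I : Type} {T : I → C} {W W' : C} (D : DisjCover J T W)
    (a : W' ⟶ W) : DisjCover J (fun i => pullback a (D.ι i)) W' where
  ι i := pullback.fst a (D.ι i)
  mono i := by
    have := D.mono i
    infer_instance
  cover := by
    refine J.superset_covering ?_ (J.pullback_stable a D.cover)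
    intro Z z hz
    rw [Sieve.pullback_apply, Sieve.ofArrows, Sieve.generate_apply] at hz
    obtain ⟨_, b, _, ⟨i⟩, hb⟩ := hz
    exact ⟨_, pullback.lift z b hb.symm, _, ⟨i⟩, pullback.lift_fst _ _ _⟩
  disj i j hij Z b c h := by
    refine D.disj i j hij Z (b ≫ pullback.snd a (D.ι i)) (c ≫ pullback.snd a (D.ι j)) ?_
    rw [Category.assoc, Category.assoc, ← pullback.condition, ← pullback.condition,
      ← Category.assoc, ← Category.assoc, h]

end General

variable {Y : Scheme.{u}} {I : Type} {T : I → Y.Etale} {V : Y.Etale}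
  (D : DisjCover Y.smallEtaleTopology T V)

theorem hom_ext_disj {F G : EtCoh.Ab Y} (f g : (EU V).obj F ⟶ G)
    (h : ∀ j, (EUmap (D.ι j)).app F ≫ f = (EUmap (D.ι j)).app F ≫ g) : f = g := by
  apply EUFun.hom_ext
  intro W a s
  refine (pb D a).ext G (fun j => ?_)
  have e : ((EU V).obj F).obj.map ((pb D a).ι j).op (sec a s) =
      ((EUmap (D.ι j)).app F).hom.app _ (sec (pullback.snd a (D.ι j))
        (F.obj.map ((pb D a).ι j).op s)) := by
    rw [sec_res, EUmap_sec]
    congr 1
    exact pullback.condition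
  have h1 := congrArg (fun k => k.hom.app (op (pullback a (D.ι j)))
    (sec (pullback.snd a (D.ι j)) (F.obj.map ((pb D a).ι j).op s))) (h j)
  change f.hom.app _ (((EUmap (D.ι j)).app F).hom.app _ _) =
    g.hom.app _ (((EUmap (D.ι j)).app F).hom.app _ _) at h1
  rw [← e, map_res, map_res] at h1
  exact h1

section glue

variable {F G : EtCoh.Ab Y} (f : ∀ j, (EU (T j)).obj F ⟶ G)

/-- The local pieces of the glued section. -/
noncomputable def piece {W : Y.Etale} (a : W ⟶ V) (s : EtCoh.sect F W) (j : I) :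
    EtCoh.sect G (pullback a (D.ι j)) :=
  (f j).hom.app (op (pullback a (D.ι j)))
    (sec (pullback.snd a (D.ι j)) (F.obj.map (pullback.fst a (D.ι j)).op s))

/-- The glued section. -/
noncomputable def glued {W : Y.Etale} (a : W ⟶ V) (s : EtCoh.sect F W) : EtCoh.sect G W :=
  (pb D a).glue G (fun j => piece D f a s j)

theorem glued_map {W : Y.Etale} (a : W ⟶ V) (s : EtCoh.sect F W) (j : I) :
    G.obj.map (pullback.fst a (D.ι j)).op (glued D f a s) = piece D f a s j :=
  (pb D a).map_glue G (fun j => piece D f a s j) j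

theorem glued_ext {W : Y.Etale} (a : W ⟶ V) {x y : EtCoh.sect G W}
    (h : ∀ j, G.obj.map (pullback.fst a (D.ι j)).op x =
      G.obj.map (pullback.fst a (D.ι j)).op y) : x = y :=
  (pb D a).ext G h

theorem piece_add {W : Y.Etale} (a : W ⟶ V) (s t : EtCoh.sect F W) (j : I) :
    piece D f a (s + t) j = piece D f a s j + piece D f a t j := by
  unfold piece
  have h1 : F.obj.map (pullback.fst a (D.ι j)).op (s + t) =
    F.obj.map (pullback.fst a (D.ι j)).op s + F.obj.map (pullback.fst a (D.ι j)).op t :=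
      map_add (F.obj.map (pullback.fst a (D.ι j)).op).hom s t
  rw [h1, sec_add]
  exact map_add ((f j).hom.app (op (pullback a (D.ι j)))).hom _ _

theorem glued_add {W : Y.Etale} (a : W ⟶ V) (s t : EtCoh.sect F W) :
    glued D f a (s + t) = glued D f a s + glued D f a t := by
  apply glued_ext D a
  intro j
  have h1 : G.obj.map (pullback.fst a (D.ι j)).op (glued D f a s + glued D f a t) =
    G.obj.map (pullback.fst a (D.ι j)).op (glued D f a s) +
      G.obj.map (pullback.fst a (D.ι j)).op (glued D f a t) :=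
      map_add (G.obj.map (pullback.fst a (D.ι j)).op).hom _ _
  rw [h1, glued_map, glued_map, glued_map, piece_add]

theorem glued_res {W W' : Y.Etale} (a : W ⟶ V) (b : W' ⟶ W) (s : EtCoh.sect F W) :
    glued D f (b ≫ a) (F.obj.map b.op s) = G.obj.map b.op (glued D f a s) := by
  apply glued_ext D (b ≫ a)
  intro j
  rw [glued_map, ← res_comp]
  let l : pullback (b ≫ a) (D.ι j) ⟶ pullback a (D.ι j) :=
    pullback.lift (pullback.fst (b ≫ a) (D.ι j) ≫ b) (pullback.snd (b ≫ a) (D.ι j))
      (by rw [Category.assoc, pullback.condition])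
  have hl1 : l ≫ pullback.fst a (D.ι j) = pullback.fst (b ≫ a) (D.ι j) ≫ b :=
    pullback.lift_fst _ _ _
  have hl2 : l ≫ pullback.snd a (D.ι j) = pullback.snd (b ≫ a) (D.ι j) :=
    pullback.lift_snd _ _ _
  rw [← hl1, res_comp, glued_map]
  unfold piece
  rw [← map_res, sec_res, hl2, ← res_comp, ← res_comp, hl1]

/-- The glued morphism. -/
noncomputable def gluedHom : (EU V).obj F ⟶ G :=
  desc (fun {_} a => AddMonoidHom.mk' (fun s => glued D f a s) (fun s t => glued_add D f a s t))
    (fun {_ _} a b s => glued_res D f a b s)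

theorem gluedHom_sec {W : Y.Etale} (a : W ⟶ V) (s : EtCoh.sect F W) :
    (gluedHom D f).hom.app (op W) (sec a s) = glued D f a s :=
  desc_sec (fun {_} a => AddMonoidHom.mk' (fun s => glued D f a s)
    (fun s t => glued_add D f a s t)) (fun {_ _} a b s => glued_res D f a b s) a s

theorem glued_ι {W : Y.Etale} (j : I) (a : W ⟶ T j) (s : EtCoh.sect F W) :
    glued D f (a ≫ D.ι j) s = (f j).hom.app (op W) (sec a s) := by
  apply glued_ext D (a ≫ D.ι j)
  intro k
  rw [glued_map]
  by_cases hk : k = j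
  · subst hk
    have := D.mono k
    have e : pullback.snd (a ≫ D.ι k) (D.ι k) = pullback.fst (a ≫ D.ι k) (D.ι k) ≫ a := by
      rw [← cancel_mono (D.ι k), ← pullback.condition, Category.assoc]
    unfold piece
    rw [← map_res, sec_res, e]
  · have h := D.disj k j hk (pullback (a ≫ D.ι j) (D.ι k)) (pullback.snd (a ≫ D.ι j) (D.ι k))
      (pullback.fst (a ≫ D.ι j) (D.ι k) ≫ a) (by
        rw [← pullback.condition, Category.assoc])
    exact (subsingleton_of_bot_mem G h).elim _ _

theorem ι_gluedHom (j : I) : (EUmap (D.ι j)).app F ≫ gluedHom D f = f j := by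
  apply EUFun.hom_ext
  intro W a s
  rw [map_comp_app, EUmap_sec, gluedHom_sec, glued_ι]

end glue

/-- `E_V F = ⊕ E_{T j} F`. -/
theorem isDS_EU [Fintype I] (F : EtCoh.Ab Y) : IsDS (fun j => (EUmap (D.ι j)).app F) :=
  IsDS.of_existsUnique _ (fun _ f => ⟨gluedHom D f, fun j => ι_gluedHom D f j⟩)
    (fun _ f g h => hom_ext_disj D f g h)

/-- `V_! M = ⊕ (T j)_! M`. -/
theorem isDS_JF [Fintype I] (M : Type) [AddCommGroup M] :
    IsDS (fun j => (JF Y M).map (D.ι j)) := by
  refine (isDS_EU D (EtCoh.const Y M)).of_iso (inv (cE M V)) (fun j => inv (cE M (T j)))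
    (fun j => ?_)
  rw [IsIso.comp_inv_eq, Category.assoc, cE_naturality, IsIso.inv_hom_id_assoc]

/-! ### Terminal objects -/

/-- The counit `E_V F ⟶ F`. -/
noncomputable def cc (V : Y.Etale) (F : EtCoh.Ab Y) : (EU V).obj F ⟶ F :=
  desc (fun {_} _ => AddMonoidHom.id _) (fun {_ _} _ _ _ => rfl)

theorem cc_sec (V : Y.Etale) (F : EtCoh.Ab Y) {W : Y.Etale} (a : W ⟶ V) (s : EtCoh.sect F W) :
    (cc V F).hom.app (op W) (sec a s) = s :=
  desc_sec (fun {_} _ => AddMonoidHom.id _) (fun {_ _} _ _ _ => rfl) a s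

/-- `F ⟶ E_V F` for `V` terminal. -/
noncomputable def ccInv {V : Y.Etale} (hV : IsTerminal V) (F : EtCoh.Ab Y) : F ⟶ (EU V).obj F :=
  ⟨{ app := fun W => AddCommGrpCat.ofHom (AddMonoidHom.mk' (fun s => sec (hV.from W.unop) s)
      (fun s t => sec_add _ s t))
     naturality := fun W W' b => by
      ext s
      have h := sec_res (hV.from W.unop) b.unop s
      rw [hV.hom_ext (b.unop ≫ hV.from W.unop) (hV.from W'.unop)] at h
      exact h.symm }⟩

theorem ccInv_app {V : Y.Etale} (hV : IsTerminal V) (F : EtCoh.Ab Y) {W : Y.Etale}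
    (s : EtCoh.sect F W) : (ccInv hV F).hom.app (op W) s = sec (hV.from W) s := rfl

theorem isIso_cc {V : Y.Etale} (hV : IsTerminal V) (F : EtCoh.Ab Y) : IsIso (cc V F) := by
  refine ⟨ccInv hV F, ?_, ?_⟩
  · apply EUFun.hom_ext
    intro W a s
    rw [map_comp_app, cc_sec, ccInv_app, hV.hom_ext (hV.from W) a]
    rfl
  · apply Sheaf.hom_ext
    ext W s
    change (cc V F).hom.app _ ((ccInv hV F).hom.app _ s) = s
    rw [ccInv_app, cc_sec]

end Groth.Agent.Sga4B.EUDisj
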