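import Groth.Agent.Sga4B.UnitGerm
import Groth.Agent.Etbase.EtSite
import Groth.Agent.Etbase.PointBasics
import Groth.Agent.Etbase.StalkPull

/-!
# Sections of `f⁻¹ F` and germs

For `f : X ⟶ S` and an abelian étale sheaf `F` on `S`: every germ of `f⁻¹ F` at a geometric point
comes from a section of `F` on an étale neighbourhood, and the unit section of `m` has zero germ
only if `m` vanishes on an étale neighbourhood.
-/

set_option autoImplicit false
universe u
set_option linter.unusedSectionVars false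

open CategoryTheory CategoryTheory.Limits AlgebraicGeometry Opposite

namespace Groth.Agent.Sga4B.EtUnit

attribute [local instance] Groth.Agent.Etbase.PointBasics.preservesFilteredColimitsOfSize_forget

variable {X S : Scheme.{u}} (f : X ⟶ S) [EtCoh.BCCont f]

/-- The unit section of `f⁻¹ F` over `X ×_S V` attached to a section `m` of `F` over `V`. -/
noncomputable def usec (F : EtCoh.Ab S) (V : S.Etale) :
    EtCoh.sect F V →+ EtCoh.sect ((EtCoh.pull f).obj F) ((EtCoh.bc f).obj V) :=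
  (((EtCoh.pullPushAdj f).unit.app F).hom.app (op V)).hom

theorem usec_apply (F : EtCoh.Ab S) (V : S.Etale) (m : EtCoh.sect F V) :
    usec f F V m = ((EtCoh.pullPushAdj f).unit.app F).hom.app (op V) m := rfl

theorem usec_map (F : EtCoh.Ab S) {V V' : S.Etale} (g : V' ⟶ V) (m : EtCoh.sect F V) :
    ((EtCoh.pull f).obj F).obj.map ((EtCoh.bc f).map g).op (usec f F V m) =
      usec f F V' (F.obj.map g.op m) := by
  have := ConcreteCategory.congr_hom (((EtCoh.pullPushAdj f).unit.app F).hom.naturality g.op) m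
  exact this.symm

theorem usec_natural {F F' : EtCoh.Ab S} (φ : F ⟶ F') (V : S.Etale) (m : EtCoh.sect F V) :
    ((EtCoh.pull f).map φ).hom.app (op ((EtCoh.bc f).obj V)) (usec f F V m) =
      usec f F' V (φ.hom.app (op V) m) := by
  have h := (EtCoh.pullPushAdj f).unit.naturality φ
  have := ConcreteCategory.congr_hom (congrArg (fun α => α.hom.app (op V)) h) m
  exact this.symm

variable {Ω : Type u} [Field Ω] [IsSepClosed Ω] (ξ : Spec (CommRingCat.of Ω) ⟶ X)

/-- the image point, as a `comap` -/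
noncomputable abbrev cpt : GrothendieckTopology.Point.{u} S.smallEtaleTopology :=
  (Scheme.pointSmallEtale ξ).comap (EtCoh.bc f) (EtCoh.coverPreserving_bc f)

/-- germs of `F` at the image point -/
noncomputable def cgerm (F : EtCoh.Ab S) (V : S.Etale)
    (x : (Scheme.pointSmallEtale ξ).fiber.obj ((EtCoh.bc f).obj V)) :
    EtCoh.sect F V →+ ((cpt f ξ).sheafFiber.obj F : AddCommGrpCat.{u + 1}) :=
  ((cpt f ξ).toPresheafFiber V x F.obj).hom

/-- germs at `ξ` -/
noncomputable def germ (G : EtCoh.Ab X) (U : X.Etale) (x : (Scheme.pointSmallEtale ξ).fiber.obj U) :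
    EtCoh.sect G U →+ ((EtCoh.stalk ξ).obj G : AddCommGrpCat.{u + 1}) :=
  ((Scheme.pointSmallEtale ξ).toPresheafFiber U x G.obj).hom

/-- stalk of the inverse image -/
noncomputable def cequiv (F : EtCoh.Ab S) :
    ((cpt f ξ).sheafFiber.obj F : AddCommGrpCat.{u + 1}) ≃+
      ((EtCoh.stalk ξ).obj ((EtCoh.pull f).obj F) : AddCommGrpCat.{u + 1}) :=
  (((Scheme.pointSmallEtale ξ).sheafFiberComapIso (EtCoh.bc f) (EtCoh.coverPreserving_bc f)
      AddCommGrpCat.{u + 1}).app F).addCommGroupIsoToAddEquiv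

theorem cequiv_cgerm (F : EtCoh.Ab S) (V : S.Etale)
    (x : (Scheme.pointSmallEtale ξ).fiber.obj ((EtCoh.bc f).obj V)) (m : EtCoh.sect F V) :
    cequiv f ξ F (cgerm f ξ F V x m) =
      germ ξ ((EtCoh.pull f).obj F) ((EtCoh.bc f).obj V) x (usec f F V m) :=
  ConcreteCategory.congr_hom (UnitGerm.toPresheafFiber_sheafFiberComapIso_hom_app
    AddCommGrpCat.{u + 1} (Scheme.pointSmallEtale ξ) (EtCoh.bc f) (EtCoh.coverPreserving_bc f) F V x) m

theorem germ_surj (G : EtCoh.Ab X) (p : ((EtCoh.stalk ξ).obj G : AddCommGrpCat.{u + 1})) :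
    ∃ (U : X.Etale) (x : (Scheme.pointSmallEtale ξ).fiber.obj U) (z : EtCoh.sect G U),
      germ ξ G U x z = p :=
  Groth.Agent.Etbase.PointBasics.toPresheafFiber_surj ξ G.obj p

theorem germ_eq_iff (G : EtCoh.Ab X) (U : X.Etale) (x : (Scheme.pointSmallEtale ξ).fiber.obj U)
    (z₁ z₂ : EtCoh.sect G U) :
    germ ξ G U x z₁ = germ ξ G U x z₂ ↔
      ∃ (V : X.Etale) (g : V ⟶ U) (y : (Scheme.pointSmallEtale ξ).fiber.obj V),
        (Scheme.pointSmallEtale ξ).fiber.map g y = x ∧ G.obj.map g.op z₁ = G.obj.map g.op z₂ :=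
  Groth.Agent.Etbase.PointBasics.toPresheafFiber_eq_iff ξ G.obj U x z₁ z₂

theorem germ_map (G : EtCoh.Ab X) {U V : X.Etale} (g : V ⟶ U)
    (y : (Scheme.pointSmallEtale ξ).fiber.obj V) (z : EtCoh.sect G U) :
    germ ξ G V y (G.obj.map g.op z) = germ ξ G U ((Scheme.pointSmallEtale ξ).fiber.map g y) z :=
  ConcreteCategory.congr_hom ((Scheme.pointSmallEtale ξ).toPresheafFiber_w g y G.obj) z

theorem cgerm_surj (F : EtCoh.Ab S) (p : ((cpt f ξ).sheafFiber.obj F : AddCommGrpCat.{u + 1})) :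
    ∃ (V : S.Etale) (x : (Scheme.pointSmallEtale ξ).fiber.obj ((EtCoh.bc f).obj V))
      (m : EtCoh.sect F V), cgerm f ξ F V x m = p :=
  (cpt f ξ).toPresheafFiber_jointly_surjective (P := F.obj) p

theorem cgerm_eq_iff (F : EtCoh.Ab S) (V : S.Etale)
    (x : (Scheme.pointSmallEtale ξ).fiber.obj ((EtCoh.bc f).obj V)) (z₁ z₂ : EtCoh.sect F V) :
    cgerm f ξ F V x z₁ = cgerm f ξ F V x z₂ ↔
      ∃ (V' : S.Etale) (g : V' ⟶ V) (y : (Scheme.pointSmallEtale ξ).fiber.obj ((EtCoh.bc f).obj V')),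
        (Scheme.pointSmallEtale ξ).fiber.map ((EtCoh.bc f).map g) y = x ∧
          F.obj.map g.op z₁ = F.obj.map g.op z₂ :=
  (cpt f ξ).toPresheafFiber_eq_iff' (P := F.obj) V x z₁ z₂

theorem exists_usec_germ (F : EtCoh.Ab S)
    (p : ((EtCoh.stalk ξ).obj ((EtCoh.pull f).obj F) : AddCommGrpCat.{u + 1})) :
    ∃ (V : S.Etale) (x : (Scheme.pointSmallEtale ξ).fiber.obj ((EtCoh.bc f).obj V))
      (m : EtCoh.sect F V),
      germ ξ ((EtCoh.pull f).obj F) ((EtCoh.bc f).obj V) x (usec f F V m) = p := by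
  obtain ⟨V, x, m, hm⟩ := cgerm_surj f ξ F ((cequiv f ξ F).symm p)
  exact ⟨V, x, m, by rw [← cequiv_cgerm, hm, AddEquiv.apply_symm_apply]⟩

theorem germ_usec_eq_iff (F : EtCoh.Ab S) (V : S.Etale)
    (x : (Scheme.pointSmallEtale ξ).fiber.obj ((EtCoh.bc f).obj V)) (z₁ z₂ : EtCoh.sect F V) :
    germ ξ ((EtCoh.pull f).obj F) ((EtCoh.bc f).obj V) x (usec f F V z₁) =
      germ ξ ((EtCoh.pull f).obj F) ((EtCoh.bc f).obj V) x (usec f F V z₂) ↔
    ∃ (V' : S.Etale) (g : V' ⟶ V)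
      (y : (Scheme.pointSmallEtale ξ).fiber.obj ((EtCoh.bc f).obj V')),
      (Scheme.pointSmallEtale ξ).fiber.map ((EtCoh.bc f).map g) y = x ∧
        F.obj.map g.op z₁ = F.obj.map g.op z₂ := by
  rw [← cequiv_cgerm, ← cequiv_cgerm, (cequiv f ξ F).injective.eq_iff, cgerm_eq_iff]

end Groth.Agent.Sga4B.EtUnit
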