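import Groth.Agent.Sga4B.DTrunc
import Mathlib.Algebra.Homology.DerivedCategory.Ext.ExactSequences
import Mathlib.CategoryTheory.Triangulated.Yoneda

/-!
For `Y ∈ D(B)` and `Z ∈ B`: natural maps
`lo : Ext^i(Z, H^m Y) ⟶ Hom(Z[0], Y[n])` (`Y ∈ D^{≥ m}`, `i + m = n`),
`hi : Hom(Z[0], Y[n]) ⟶ Ext^i(Z, H^m Y)` (`Y ∈ D^{≤ m}`, `i + m = n`),
their exactness for `Y ∈ D^{[m,m+1]}`, and bijectivity criteria for `hi`, `lo`.
-/

set_option autoImplicit false
universe w w' v u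
open CategoryTheory CategoryTheory.Limits CategoryTheory.Pretriangulated DerivedCategory Opposite
open CategoryTheory.Abelian

namespace Groth.Agent.Sga4B.ExtTrunc

variable {B : Type u} [Category.{v} B] [Abelian B] [HasDerivedCategory.{w'} B]

/-- `(W[-m])[n] ≅ W[i]` for `i + m = n`. -/
noncomputable def sIso (m n i : ℤ) (h : i + m = n) :
    singleFunctor B m ⋙ shiftFunctor (DerivedCategory B) n ≅
      singleFunctor B 0 ⋙ shiftFunctor (DerivedCategory B) i :=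
  (singleFunctors B).shiftIso n (-i) m (by lia) ≪≫ ((singleFunctors B).shiftIso i (-i) 0 (by lia)).symm

/-- Exactness of `Hom(Z, -[n])` on a distinguished triangle. -/
theorem exact₂ (Z : DerivedCategory B) (T : Triangle (DerivedCategory B)) (hT : T ∈ distTriang _) (n : ℤ)
    (f : Z ⟶ T.obj₂⟦n⟧) (hf : f ≫ T.mor₂⟦n⟧' = 0) : ∃ g : Z ⟶ T.obj₁⟦n⟧, g ≫ T.mor₁⟦n⟧' = f := by
  have := (preadditiveCoyoneda.obj (op Z)).homologySequence_exact₂ T hT n
  rw [ShortComplex.ab_exact_iff] at this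
  obtain ⟨g, hg⟩ := this f hf
  exact ⟨g, hg⟩

theorem exact₁ (Z : DerivedCategory B) (T : Triangle (DerivedCategory B)) (hT : T ∈ distTriang _) (n : ℤ)
    (f : Z ⟶ T.obj₁⟦n + 1⟧) (hf : f ≫ T.mor₁⟦n + 1⟧' = 0) :
    ∃ g : Z ⟶ T.obj₃⟦n⟧, g ≫ T.mor₃⟦n⟧' ≫ (shiftFunctorAdd' (DerivedCategory B) 1 n (n + 1)
      (by lia)).inv.app T.obj₁ = f := by
  have := (preadditiveCoyoneda.obj (op Z)).homologySequence_exact₁ T hT n (n + 1) rfl
  rw [ShortComplex.ab_exact_iff] at this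
  obtain ⟨g, hg⟩ := this f hf
  refine ⟨g, ?_⟩
  rw [← hg]
  exact (preadditiveCoyoneda_homologySequenceδ_apply T n (n + 1) rfl g).symm

theorem exact₃ (Z : DerivedCategory B) (T : Triangle (DerivedCategory B)) (hT : T ∈ distTriang _) (n : ℤ)
    (f : Z ⟶ T.obj₃⟦n⟧) (hf : f ≫ T.mor₃⟦n⟧' ≫ (shiftFunctorAdd' (DerivedCategory B) 1 n (n + 1)
      (by lia)).inv.app T.obj₁ = 0) :
    ∃ g : Z ⟶ T.obj₂⟦n⟧, g ≫ T.mor₂⟦n⟧' = f := by
  have := (preadditiveCoyoneda.obj (op Z)).homologySequence_exact₃ T hT n (n + 1) rfl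
  rw [ShortComplex.ab_exact_iff] at this
  obtain ⟨g, hg⟩ := this f (by
    refine Eq.trans ?_ hf
    exact preadditiveCoyoneda_homologySequenceδ_apply T n (n + 1) rfl f)
  exact ⟨g, hg⟩

/-- Shifted version of `DTrunc.hom_eq_zero`. -/
theorem hom_shift_eq_zero (Z Y : DerivedCategory B) (a b n : ℤ) [hY1 : Y.IsGE a] [hY2 : Y.IsLE b]
    (h : ∀ q : ℤ, a ≤ q → q ≤ b →
      ∀ g : Z ⟶ ((singleFunctor B q).obj ((homologyFunctor B q).obj Y))⟦n⟧, g = 0)
    (f : Z ⟶ Y⟦n⟧) : f = 0 := by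
  let e : shiftFunctor (DerivedCategory B) n ⋙ shiftFunctor (DerivedCategory B) (-n) ≅ 𝟭 _ :=
    shiftFunctorCompIsoId _ n (-n) (add_neg_cancel n)
  have key : ∀ (W : DerivedCategory B) (g : Z ⟶ W⟦n⟧), g⟦-n⟧' ≫ e.hom.app W = 0 → g = 0 := by
    intro W g hg
    have h1 : g⟦-n⟧' = 0 := by
      rw [← cancel_mono (e.hom.app W), hg]
      exact zero_comp.symm
    exact (shiftFunctor (DerivedCategory B) (-n)).map_injective (h1.trans (Functor.map_zero _ _ _).symm)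
  have key2 : ∀ (W : DerivedCategory B) (g : Z⟦-n⟧ ⟶ W), ∃ g' : Z ⟶ W⟦n⟧, g'⟦-n⟧' ≫ e.hom.app W = g := by
    intro W g
    obtain ⟨g', hg'⟩ := (shiftFunctor (DerivedCategory B) (-n)).map_surjective (g ≫ e.inv.app W)
    refine ⟨g', ?_⟩
    rw [hg', Category.assoc]
    exact (congrArg (fun x => g ≫ x) (e.inv_hom_id_app W)).trans (Category.comp_id g)
  apply key
  refine DTrunc.hom_eq_zero (b - a).toNat a b (by have := Int.self_le_toNat (b - a); lia) _ Y hY1 hY2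
    (fun q hq1 hq2 g => ?_) _
  obtain ⟨g', hg'⟩ := key2 _ g
  rw [← hg', h q hq1 hq2 g', Functor.map_zero, zero_comp]

variable [HasExt.{w} B]

/-- Maps `Z[0] ⟶ (W[-m])[n]` are `Ext^i(Z,W)`, `i + m = n`. -/
noncomputable def extEquiv (m n : ℤ) (i : ℕ) (h : (i : ℤ) + m = n) (Z W : B) :
    ((singleFunctor B 0).obj Z ⟶ ((singleFunctor B m).obj W)⟦n⟧) ≃+ Ext.{w} Z W i :=
  AddEquiv.trans
    { toEquiv := (Iso.homCongr (Iso.refl ((singleFunctor B 0).obj Z)) ((sIso m n i h).app W))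
      map_add' := fun f g => by
        change (𝟙 _) ≫ (f + g) ≫ (sIso m n i h).hom.app W = (𝟙 _) ≫ f ≫ (sIso m n i h).hom.app W +
          (𝟙 _) ≫ g ≫ (sIso m n i h).hom.app W
        rw [Preadditive.add_comp, Preadditive.comp_add] }
    (Ext.homAddEquiv (X := Z) (Y := W) (n := i)).symm

theorem extEquiv_hom (m n : ℤ) (i : ℕ) (h : (i : ℤ) + m = n) (Z W : B)
    (f : (singleFunctor B 0).obj Z ⟶ ((singleFunctor B m).obj W)⟦n⟧) :
    (extEquiv m n i h Z W f).hom = f ≫ (sIso m n i h).hom.app W := by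
  have h1 : Ext.homAddEquiv (extEquiv m n i h Z W f) = (𝟙 _) ≫ f ≫ (sIso m n i h).hom.app W :=
    (Ext.homAddEquiv (X := Z) (Y := W) (n := i)).apply_symm_apply _
  exact h1.trans (Category.id_comp _)

theorem extEquiv_naturality (m n : ℤ) (i : ℕ) (h : (i : ℤ) + m = n) (Z : B) {W W' : B} (g : W ⟶ W')
    (f : (singleFunctor B 0).obj Z ⟶ ((singleFunctor B m).obj W)⟦n⟧) :
    extEquiv m n i h Z W' (f ≫ ((singleFunctor B m).map g)⟦n⟧') =
      (extEquiv m n i h Z W f).comp (Ext.mk₀ g) (add_zero i) := by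
  apply Ext.ext
  rw [← Ext.hom_comp_singleFunctor_map_shift, extEquiv_hom, extEquiv_hom, Category.assoc, Category.assoc]
  exact congrArg (fun x => f ≫ x) ((sIso m n i h).hom.naturality g)

theorem extEquiv_precomp (m n : ℤ) (i : ℕ) (h : (i : ℤ) + m = n) {Z Z' : B} (W : B) (g : Z' ⟶ Z)
    (f : (singleFunctor B 0).obj Z ⟶ ((singleFunctor B m).obj W)⟦n⟧) :
    extEquiv m n i h Z' W ((singleFunctor B 0).map g ≫ f) =
      (Ext.mk₀ g).comp (extEquiv m n i h Z W f) (zero_add i) := by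
  apply Ext.ext
  rw [← Ext.singleFunctor_map_comp_hom, extEquiv_hom, extEquiv_hom, Category.assoc]

omit [HasExt.{w} B] in
/-- Maps `Z[0] ⟶ (W[-q])[n]` vanish for `n < q`. -/
theorem single_hom_eq_zero (q n : ℤ) (h : n < q) (Z W : B)
    (f : (singleFunctor B 0).obj Z ⟶ ((singleFunctor B q).obj W)⟦n⟧) : f = 0 := by
  have h1 : TStructure.t.IsLE ((singleFunctor B 0).obj Z) 0 :=
    (inferInstance : ((singleFunctor B 0).obj Z).IsLE 0)
  have h2 : TStructure.t.IsGE ((singleFunctor B q).obj W) q :=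
    (inferInstance : ((singleFunctor B q).obj W).IsGE q)
  have h3 : TStructure.t.IsGE (((singleFunctor B q).obj W)⟦n⟧) (q - n) :=
    TStructure.t.isGE_shift _ q n (q - n) (by lia)
  exact TStructure.t.zero_of_isLE_of_isGE f 0 (q - n) (by lia) h1 h3

/-- The canonical map `Hom(Z[0], Y[n]) ⟶ Ext^i(Z, H^m Y)` for `Y ∈ D^{≤ m}`, `i + m = n`. -/
noncomputable def hi (m n : ℤ) (i : ℕ) (h : (i : ℤ) + m = n) (Z : B) (Y : DerivedCategory B) [Y.IsLE m] :
    ((singleFunctor B 0).obj Z ⟶ Y⟦n⟧) →+ Ext.{w} Z ((homologyFunctor B m).obj Y) i :=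
  (extEquiv m n i h Z _).toAddMonoidHom.comp
    { toFun := fun f => f ≫ (DTrunc.π m Y)⟦n⟧'
      map_zero' := zero_comp
      map_add' := fun _ _ => Preadditive.add_comp _ _ _ _ _ _ }

theorem hi_apply (m n : ℤ) (i : ℕ) (h : (i : ℤ) + m = n) (Z : B) (Y : DerivedCategory B) [Y.IsLE m]
    (f : (singleFunctor B 0).obj Z ⟶ Y⟦n⟧) :
    hi m n i h Z Y f = extEquiv m n i h Z _ (f ≫ (DTrunc.π m Y)⟦n⟧') := rfl

/-- The canonical map `Ext^i(Z, H^m Y) ⟶ Hom(Z[0], Y[n])` for `Y ∈ D^{≥ m}`, `i + m = n`. -/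
noncomputable def lo (m n : ℤ) (i : ℕ) (h : (i : ℤ) + m = n) (Z : B) (Y : DerivedCategory B) [Y.IsGE m] :
    Ext.{w} Z ((homologyFunctor B m).obj Y) i →+ ((singleFunctor B 0).obj Z ⟶ Y⟦n⟧) :=
  AddMonoidHom.comp
    { toFun := fun f => f ≫ (DTrunc.ι m Y)⟦n⟧'
      map_zero' := zero_comp
      map_add' := fun _ _ => Preadditive.add_comp _ _ _ _ _ _ } (extEquiv m n i h Z _).symm.toAddMonoidHom

theorem lo_apply (m n : ℤ) (i : ℕ) (h : (i : ℤ) + m = n) (Z : B) (Y : DerivedCategory B) [Y.IsGE m]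
    (x : Ext.{w} Z ((homologyFunctor B m).obj Y) i) :
    lo m n i h Z Y x = (extEquiv m n i h Z _).symm x ≫ (DTrunc.ι m Y)⟦n⟧' := rfl

theorem hi_naturality (m n : ℤ) (i : ℕ) (h : (i : ℤ) + m = n) (Z : B) {Y Y' : DerivedCategory B} [Y.IsLE m]
    [Y'.IsLE m] (g : Y ⟶ Y') (f : (singleFunctor B 0).obj Z ⟶ Y⟦n⟧) :
    hi.{w} m n i h Z Y' (f ≫ g⟦n⟧') =
      (hi m n i h Z Y f).comp (Ext.mk₀ ((homologyFunctor B m).map g)) (add_zero i) := by
  rw [hi_apply, hi_apply, ← extEquiv_naturality, Category.assoc, Category.assoc, ← Functor.map_comp,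
    ← Functor.map_comp, DTrunc.π_naturality]

theorem lo_naturality (m n : ℤ) (i : ℕ) (h : (i : ℤ) + m = n) (Z : B) {Y Y' : DerivedCategory B} [Y.IsGE m]
    [Y'.IsGE m] (g : Y ⟶ Y') (x : Ext.{w} Z ((homologyFunctor B m).obj Y) i) :
    lo m n i h Z Y' (x.comp (Ext.mk₀ ((homologyFunctor B m).map g)) (add_zero i)) =
      lo m n i h Z Y x ≫ g⟦n⟧' := by
  obtain ⟨y, rfl⟩ := (extEquiv m n i h Z _).surjective x
  rw [← extEquiv_naturality, lo_apply, lo_apply, AddEquiv.symm_apply_apply, AddEquiv.symm_apply_apply,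
    Category.assoc, Category.assoc, ← Functor.map_comp, ← Functor.map_comp, DTrunc.ι_naturality]

theorem hi_precomp (m n : ℤ) (i : ℕ) (h : (i : ℤ) + m = n) {Z Z' : B} (g : Z' ⟶ Z) (Y : DerivedCategory B)
    [Y.IsLE m] (f : (singleFunctor B 0).obj Z ⟶ Y⟦n⟧) :
    hi.{w} m n i h Z' Y ((singleFunctor B 0).map g ≫ f) =
      (Ext.mk₀ g).comp (hi m n i h Z Y f) (zero_add i) := by
  rw [hi_apply, hi_apply, ← extEquiv_precomp, Category.assoc]

theorem lo_precomp (m n : ℤ) (i : ℕ) (h : (i : ℤ) + m = n) {Z Z' : B} (g : Z' ⟶ Z) (Y : DerivedCategory B)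
    [Y.IsGE m] (x : Ext.{w} Z ((homologyFunctor B m).obj Y) i) :
    lo m n i h Z' Y ((Ext.mk₀ g).comp x (zero_add i)) =
      (singleFunctor B 0).map g ≫ lo m n i h Z Y x := by
  obtain ⟨y, rfl⟩ := (extEquiv m n i h Z _).surjective x
  rw [← extEquiv_precomp, lo_apply, lo_apply, AddEquiv.symm_apply_apply, AddEquiv.symm_apply_apply,
    Category.assoc]

/-- `Ext^{i+1}(Z, H^m Y) ⟶ Hom(Z[0], Y[n]) ⟶ Ext^i(Z, H^{m+1} Y)` is exact for `Y ∈ D^{[m,m+1]}`. -/
theorem exact_lo_hi (m m' n : ℤ) (i i' : ℕ) (hm : m + 1 = m') (h : (i : ℤ) + m = n) (h' : (i' : ℤ) + m' = n)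
    (Z : B) (Y : DerivedCategory B) [Y.IsGE m] [Y.IsLE m'] :
    Function.Exact (lo.{w} m n i h Z Y) (hi.{w} m' n i' h' Z Y) := by
  obtain ⟨δ, hδ⟩ := DTrunc.exists_distinguished m m' hm Y
  intro f
  constructor
  · intro hf
    have h1 : f ≫ (DTrunc.π m' Y)⟦n⟧' = 0 := by
      rw [hi_apply] at hf
      exact (AddEquiv.map_eq_zero_iff _).1 hf
    obtain ⟨g, hg⟩ := exact₂ _ _ hδ n f h1
    refine ⟨extEquiv m n i h Z _ g, ?_⟩
    rw [lo_apply, AddEquiv.symm_apply_apply]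
    exact hg
  · rintro ⟨x, rfl⟩
    rw [hi_apply, lo_apply, Category.assoc, ← Functor.map_comp]
    have h1 : DTrunc.ι m Y ≫ DTrunc.π m' Y = 0 := comp_distTriang_mor_zero₁₂ _ hδ
    rw [h1, Functor.map_zero, comp_zero, map_zero]

/-- Maps `Z[0] ⟶ (W[-q])[n]` vanish if `Ext^j(Z,W) = 0` for `j + q = n`. -/
theorem single_hom_eq_zero_of_ext (q n : ℤ) (Z W : B)
    (h : ∀ j : ℕ, (j : ℤ) + q = n → Subsingleton (Ext.{w} Z W j))
    (f : (singleFunctor B 0).obj Z ⟶ ((singleFunctor B q).obj W)⟦n⟧) : f = 0 := by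
  rcases lt_or_ge n q with h1 | h1
  · exact single_hom_eq_zero q n h1 Z W f
  · obtain ⟨j, hj⟩ := Int.eq_ofNat_of_zero_le (sub_nonneg.2 h1)
    have := h j (by lia)
    exact (extEquiv q n j (by lia) Z W).injective (Subsingleton.elim _ _)

/-- Vanishing of `Hom(Z[0], Y[n])` from vanishing of `Ext^j(Z, H^q Y)`, `j + q = n`. -/
theorem hom_eq_zero_of_ext (a b n : ℤ) (Z : B) (Y : DerivedCategory B) [Y.IsGE a] [Y.IsLE b]
    (h : ∀ (q : ℤ) (j : ℕ), a ≤ q → q ≤ b → (j : ℤ) + q = n →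
      Subsingleton (Ext.{w} Z ((homologyFunctor B q).obj Y) j))
    (f : (singleFunctor B 0).obj Z ⟶ Y⟦n⟧) : f = 0 :=
  hom_shift_eq_zero _ Y a b n (fun q h1 h2 g =>
    single_hom_eq_zero_of_ext q n Z _ (fun j hj => h q j h1 h2 hj) g) f

/-- Top degree criterion: `hi` is bijective if the lower rows do not contribute. -/
theorem hi_bijective (a m n : ℤ) (i : ℕ) (hn : (i : ℤ) + m = n) (Z : B) (Y : DerivedCategory B)
    [hY1 : Y.IsGE a] [hY2 : Y.IsLE m]
    (h : ∀ (q : ℤ) (j : ℕ), a ≤ q → q < m → ((j : ℤ) + q = n ∨ (j : ℤ) + q = n + 1) →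
      Subsingleton (Ext.{w} Z ((homologyFunctor B q).obj Y) j)) :
    Function.Bijective (hi.{w} m n i hn Z Y) := by
  obtain ⟨δ, hδ⟩ := DTrunc.exists_distinguished_π (m - 1) m (by lia) Y
  have i1 : ((TStructure.t.truncLE (m - 1)).obj Y).IsLE (m - 1) :=
    (inferInstance : TStructure.t.IsLE ((TStructure.t.truncLE (m - 1)).obj Y) (m - 1))
  have i2 : ((TStructure.t.truncLE (m - 1)).obj Y).IsGE a := by
    have : TStructure.t.IsGE Y a := hY1
    exact (inferInstance : TStructure.t.IsGE ((TStructure.t.truncLE (m - 1)).obj Y) a)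
  have h0 : ∀ (q : ℤ), q < m → ∀ j : ℕ, Subsingleton (Ext.{w} Z ((homologyFunctor B q).obj Y) j) →
      Subsingleton (Ext.{w} Z ((homologyFunctor B q).obj ((TStructure.t.truncLE (m - 1)).obj Y)) j) := by
    intro q hq j hj
    have h1 := DTrunc.isIso_homology_truncLE (m - 1) q (by lia) Y
    refine ⟨fun x y => ?_⟩
    have h2 : ∀ z : Ext.{w} Z ((homologyFunctor B q).obj ((TStructure.t.truncLE (m - 1)).obj Y)) j,
        z = (z.comp (Ext.mk₀ ((homologyFunctor B q).map ((TStructure.t.truncLEι (m - 1)).app Y)))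
          (add_zero j)).comp
          (Ext.mk₀ (inv ((homologyFunctor B q).map ((TStructure.t.truncLEι (m - 1)).app Y))))
          (add_zero j) := by
      intro z
      rw [Ext.comp_assoc_of_third_deg_zero, Ext.mk₀_comp_mk₀, IsIso.hom_inv_id, Ext.comp_mk₀_id]
    rw [h2 x, h2 y]
    exact congrArg (fun z => Ext.comp z _ (add_zero j)) (hj.elim _ _)
  have hz1 : ∀ f : (singleFunctor B 0).obj Z ⟶ ((TStructure.t.truncLE (m - 1)).obj Y)⟦n⟧, f = 0 :=
    fun f => hom_eq_zero_of_ext a (m - 1) n Z _ (fun q j h1 h2 h3 =>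
      h0 q (by lia) j (h q j h1 (by lia) (Or.inl h3))) f
  have hz2 : ∀ f : (singleFunctor B 0).obj Z ⟶ ((TStructure.t.truncLE (m - 1)).obj Y)⟦n + 1⟧, f = 0 :=
    fun f => hom_eq_zero_of_ext a (m - 1) (n + 1) Z _ (fun q j h1 h2 h3 =>
      h0 q (by lia) j (h q j h1 (by lia) (Or.inr h3))) f
  constructor
  · rw [injective_iff_map_eq_zero]
    intro f hf
    have h1 : f ≫ (DTrunc.π m Y)⟦n⟧' = 0 := by
      rw [hi_apply] at hf
      exact (AddEquiv.map_eq_zero_iff _).1 hf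
    obtain ⟨g, hg⟩ := exact₂ _ _ hδ n f h1
    rw [← hg, hz1 g]
    exact zero_comp
  · intro x
    obtain ⟨y, rfl⟩ := (extEquiv m n i hn Z _).surjective x
    obtain ⟨g, hg⟩ := exact₃ _ _ hδ n y (hz2 _)
    refine ⟨g, ?_⟩
    rw [hi_apply]
    exact congrArg _ hg

/-- Bottom degree criterion: `lo` is bijective if the higher rows do not contribute. -/
theorem lo_bijective (m b n : ℤ) (i : ℕ) (hn : (i : ℤ) + m = n) (Z : B) (Y : DerivedCategory B)
    [hY1 : Y.IsGE m] [hY2 : Y.IsLE b]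
    (h : ∀ (q : ℤ) (j : ℕ), m < q → q ≤ b → ((j : ℤ) + q = n ∨ (j : ℤ) + q = n - 1) →
      Subsingleton (Ext.{w} Z ((homologyFunctor B q).obj Y) j)) :
    Function.Bijective (lo.{w} m n i hn Z Y) := by
  obtain ⟨δ, hδ⟩ := DTrunc.exists_distinguished_ι m (m + 1) rfl Y
  have i1 : ((TStructure.t.truncGE (m + 1)).obj Y).IsGE (m + 1) :=
    (inferInstance : TStructure.t.IsGE ((TStructure.t.truncGE (m + 1)).obj Y) (m + 1))
  have i2 : ((TStructure.t.truncGE (m + 1)).obj Y).IsLE b := by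
    have : TStructure.t.IsLE Y b := hY2
    exact (inferInstance : TStructure.t.IsLE ((TStructure.t.truncGE (m + 1)).obj Y) b)
  have h0 : ∀ (q : ℤ), m < q → ∀ j : ℕ, Subsingleton (Ext.{w} Z ((homologyFunctor B q).obj Y) j) →
      Subsingleton (Ext.{w} Z ((homologyFunctor B q).obj ((TStructure.t.truncGE (m + 1)).obj Y)) j) := by
    intro q hq j hj
    have h1 := DTrunc.isIso_homology_truncGE (m + 1) q (by lia) Y
    refine ⟨fun x y => ?_⟩
    have h2 : ∀ z : Ext.{w} Z ((homologyFunctor B q).obj ((TStructure.t.truncGE (m + 1)).obj Y)) j,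
        z = (z.comp (Ext.mk₀ (inv ((homologyFunctor B q).map ((TStructure.t.truncGEπ (m + 1)).app Y))))
          (add_zero j)).comp
          (Ext.mk₀ ((homologyFunctor B q).map ((TStructure.t.truncGEπ (m + 1)).app Y)))
          (add_zero j) := by
      intro z
      rw [Ext.comp_assoc_of_third_deg_zero, Ext.mk₀_comp_mk₀, IsIso.inv_hom_id, Ext.comp_mk₀_id]
    rw [h2 x, h2 y]
    exact congrArg (fun z => Ext.comp z _ (add_zero j)) (hj.elim _ _)
  have hz1 : ∀ f : (singleFunctor B 0).obj Z ⟶ ((TStructure.t.truncGE (m + 1)).obj Y)⟦n⟧, f = 0 :=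
    fun f => hom_eq_zero_of_ext (m + 1) b n Z _ (fun q j h1 h2 h3 =>
      h0 q (by lia) j (h q j (by lia) h2 (Or.inl h3))) f
  have hz2 : ∀ f : (singleFunctor B 0).obj Z ⟶ ((TStructure.t.truncGE (m + 1)).obj Y)⟦n - 1⟧, f = 0 :=
    fun f => hom_eq_zero_of_ext (m + 1) b (n - 1) Z _ (fun q j h1 h2 h3 =>
      h0 q (by lia) j (h q j (by lia) h2 (Or.inr h3))) f
  constructor
  · rw [injective_iff_map_eq_zero]
    intro x hx
    obtain ⟨y, rfl⟩ := (extEquiv m n i hn Z _).surjective x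
    rw [lo_apply, AddEquiv.symm_apply_apply] at hx
    obtain ⟨n', rfl⟩ : ∃ n' : ℤ, n = n' + 1 := ⟨n - 1, by lia⟩
    obtain ⟨g, hg⟩ := exact₁ _ _ hδ n' y hx
    have hz3 : g = 0 := by
      have h1 : n' + 1 - 1 = n' := by lia
      rw [h1] at hz2
      exact hz2 g
    have h4 : y = 0 := by
      rw [← hg, hz3]
      exact zero_comp
    rw [h4, map_zero]
  · intro f
    obtain ⟨g, hg⟩ := exact₂ _ _ hδ n f (hz1 _)
    refine ⟨extEquiv m n i hn Z _ g, ?_⟩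
    rw [lo_apply, AddEquiv.symm_apply_apply]
    exact hg

end Groth.Agent.Sga4B.ExtTrunc
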