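import Groth.Agent.EtpbcB.FamUp
import Groth.Agent.Dix.NormalLoc
import Groth.Agent.Ega1.GenPts
import Groth.Agent.Desc.LQF
import Mathlib.AlgebraicGeometry.Geometrically.Connected
import Mathlib.AlgebraicGeometry.Morphisms.QuasiFinite

/-!
# Fibrewise dense opens and local families

* `IsFibDense f U`: `U` is dense in every fibre of `f`.
* `eq_of_fibDense`: local families (in the language of `EtpbcB.BigFam`) of a sheaf on the base which agree on a
  fibrewise dense open are equal.
* `exists_ext_of_geomConnected`: extension of local families from fibrewise dense opens of smooth schemes with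
  geometrically connected fibres.
-/

set_option autoImplicit false
universe u
open CategoryTheory CategoryTheory.Limits AlgebraicGeometry Opposite

namespace Groth.Agent.Sga4B.FibDense

open Groth.Agent.EtpbcB.Big

section Top

variable {X X' S S' : Scheme.{u}}

/-- `U` is dense in every fibre of `f`. -/
def IsFibDense (f : X ⟶ S) (U : Set X) : Prop := ∀ x : X, x ∈ closure (U ∩ {y | f y = f x})

theorem IsFibDense.nonempty {f : X ⟶ S} {U : Set X} (h : IsFibDense f U) (x : X) : ∃ y ∈ U, f y = f x := by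
  obtain ⟨y, -, hy, hy'⟩ := mem_closure_iff.1 (h x) Set.univ isOpen_univ trivial
  exact ⟨y, hy, hy'⟩

theorem IsFibDense.postcomp {f : X ⟶ S'} {U : Set X} (h : IsFibDense f U) (c : S' ⟶ S) : IsFibDense (f ≫ c) U := by
  intro x
  refine closure_mono ?_ (h x)
  rintro y ⟨hy, hy'⟩
  refine ⟨hy, ?_⟩
  simp only [Set.mem_ofPred_eq, Scheme.Hom.comp_apply] at hy' ⊢
  rw [hy']

theorem IsFibDense.preimage {f : X ⟶ S} {U : Set X} (h : IsFibDense f U) (a : X' ⟶ X) (ha : IsOpenMap a)
    (b : X' ⟶ S') (c : S' ⟶ S) [LocallyQuasiFinite c] (w : a ≫ f = b ≫ c) : IsFibDense b (a ⁻¹' U) := by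
  intro x
  rw [mem_closure_iff]
  intro O hO hxO
  -- a neighbourhood of `b x` meeting the fibre of `c` only in `b x`
  have hd : _root_.IsDiscrete (c ⁻¹' {c (b x)}) := c.isDiscrete_preimage_singleton _
  obtain ⟨N, hN, hbx, hN'⟩ : ∃ N : Set S', IsOpen N ∧ b x ∈ N ∧ ∀ y ∈ N, c y = c (b x) → y = b x := by
    have h1 := hd.1
    have h2 : IsOpen ({⟨b x, rfl⟩} : Set ↥(c ⁻¹' {c (b x)})) := isOpen_discrete _
    obtain ⟨N, hN, hN'⟩ := isOpen_induced_iff.1 h2
    refine ⟨N, hN, ?_, fun y hy hyc => ?_⟩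
    · have : (⟨b x, rfl⟩ : ↥(c ⁻¹' {c (b x)})) ∈ (Subtype.val ⁻¹' N) := by rw [hN']; rfl
      exact this
    · have h3 : (⟨y, hyc⟩ : ↥(c ⁻¹' {c (b x)})) ∈ (Subtype.val ⁻¹' N) := hy
      rw [hN'] at h3
      exact congrArg Subtype.val h3
  have hO' : IsOpen (a '' (O ∩ b ⁻¹' N)) := ha _ (hO.inter (hN.preimage b.continuous))
  obtain ⟨_, ⟨y, ⟨hy1, hy2⟩, rfl⟩, hyU, hyf⟩ := mem_closure_iff.1 (h (a x)) _ hO' ⟨x, ⟨hxO, hbx⟩, rfl⟩
  refine ⟨y, hy1, hyU, hN' _ hy2 ?_⟩
  have h3 : f (a y) = f (a x) := hyf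
  rw [← Scheme.Hom.comp_apply, ← Scheme.Hom.comp_apply, w] at h3
  simpa using h3

end Top

section Agree

variable {X Z : Scheme.{u}} {F : EtCoh.Ab X} {q : Z ⟶ X}

/-- A common chart for two local families. -/
theorem exists_common {v v' : Fam F q} (hv : IsLoc v) (hv' : IsLoc v') (z : Z) :
    ∃ (W : Scheme.{u}) (a : W ⟶ Z) (_ : Etale a) (w : W) (V : X.Etale) (b : W ⟶ V.left)
      (hb : b ≫ V.hom = a ≫ q) (σ σ' : EtCoh.sect F V), a w = z ∧
      v.res a rfl = (fam σ).res b hb ∧ v'.res a rfl = (fam σ').res b hb := by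
  obtain ⟨W, a, ha, w, V, b, hb, σ, hw, hσ⟩ := hv z
  obtain ⟨W', a', ha', w', V', b', hb', σ', hw', hσ'⟩ := hv' z
  obtain ⟨p, hp1, hp2⟩ := Scheme.Pullback.exists_preimage_pullback (f := a) (g := a') w w'
    (hw.trans hw'.symm)
  let P := pullback a a'
  let c : P ⟶ Z := pullback.fst a a' ≫ a
  have hc' : c = pullback.snd a a' ≫ a' := pullback.condition
  let V2 : X.Etale := Scheme.Etale.mk (pullback.fst V.hom V'.hom ≫ V.hom)
  have e1 : (pullback.fst a a' ≫ b) ≫ V.hom = (pullback.snd a a' ≫ b') ≫ V'.hom := by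
    rw [Category.assoc, hb, Category.assoc, hb', ← Category.assoc, pullback.condition,
      Category.assoc]
  let d : P ⟶ V2.left := pullback.lift (pullback.fst a a' ≫ b) (pullback.snd a a' ≫ b') e1
  let p1 : V2 ⟶ V := etHom (pullback.fst V.hom V'.hom) rfl
  let p2 : V2 ⟶ V' := etHom (pullback.snd V.hom V'.hom) pullback.condition.symm
  have hd1 : d ≫ p1.left = pullback.fst a a' ≫ b := pullback.lift_fst _ _ _
  have hd2 : d ≫ p2.left = pullback.snd a a' ≫ b' := pullback.lift_snd _ _ _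
  have hd : d ≫ V2.hom = c ≫ q := by
    have : d ≫ V2.hom = (d ≫ p1.left) ≫ V.hom := by
      rw [Category.assoc]; rfl
    rw [this, hd1, Category.assoc, hb]
    exact (Category.assoc _ _ _).symm
  refine ⟨P, c, inferInstance, p, V2, d, hd, F.obj.map p1.op σ, F.obj.map p2.op σ', ?_, ?_, ?_⟩
  · change (pullback.fst a a' ≫ a) p = z
    rw [Scheme.Hom.comp_apply, hp1, hw]
  · have h1 : v.res c rfl = (v.res a rfl).res (pullback.fst a a')
        (show pullback.fst a a' ≫ a ≫ q = c ≫ q from (Category.assoc _ _ _).symm) := by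
      rw [Fam.res_res]
    rw [h1, hσ, fam_map, Fam.res_res, Fam.res_res]
    exact Fam.res_congr _ _ hd1.symm
  · have h1 : v'.res c rfl = (v'.res a' rfl).res (pullback.snd a a')
        (show pullback.snd a a' ≫ a' ≫ q = c ≫ q by rw [← Category.assoc, ← hc']) := by
      rw [Fam.res_res]
      exact Fam.res_congr _ _ hc'
    rw [h1, hσ', fam_map, Fam.res_res, Fam.res_res]
    exact Fam.res_congr _ _ hd2.symm

/-- Local families which agree on a fibrewise dense subset are equal. -/
theorem eq_of_fibDense {v v' : Fam F q} (hv : IsLoc v) (hv' : IsLoc v') {U : Set Z}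
    (hU : IsFibDense q U) (h : U ⊆ agree v v') : v = v' := by
  refine eq_of_agree fun z => ?_
  obtain ⟨W, a, ha, w, V, b, hb, σ, σ', hw, h1, h2⟩ := exists_common hv hv' z
  have hlqf : LocallyQuasiFinite V.hom := Desc.LQF.of_etale V.hom
  have hd : IsFibDense b (a ⁻¹' U) := hU.preimage a (Scheme.Hom.isOpenMap a) b V.hom hb.symm
  obtain ⟨w', hw', hbw⟩ := hd.nonempty w
  have h3 : agree (v.res a rfl) (v'.res a rfl) = a ⁻¹' agree v v' := hv.agree_res hv' a rfl
  have h4 : agree ((fam σ).res b hb) ((fam σ').res b hb) = b ⁻¹' agree (fam σ) (fam σ') :=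
    (isLoc_fam σ).agree_res (isLoc_fam σ') b hb
  rw [h1, h2, h4] at h3
  have h5 : w' ∈ b ⁻¹' agree (fam σ) (fam σ') := by
    rw [h3]
    exact h hw'
  have h6 : w ∈ b ⁻¹' agree (fam σ) (fam σ') := by
    rw [Set.mem_preimage] at h5 ⊢
    rw [← hbw]
    exact h5
  rw [h3] at h6
  rw [← hw]
  exact h6

theorem subset_agree_of_res_eq {Z' : Scheme.{u}} {v v' : Fam F q} (hv : IsLoc v) (hv' : IsLoc v')
    (j : Z' ⟶ Z) {q' : Z' ⟶ X} (hq : j ≫ q = q') (h : v.res j hq = v'.res j hq) :
    Set.range j ⊆ agree v v' := by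
  rintro _ ⟨z, rfl⟩
  have h1 := hv.agree_res hv' j hq
  have h2 : z ∈ agree (v.res j hq) (v'.res j hq) := by
    rw [h]
    intro Ω _ _ l ξ hl _
    rfl
  rw [h1] at h2
  exact h2

end Agree

section Irr

variable {X S : Scheme.{u}}

/-- A connected scheme smooth over a field is irreducible. -/
theorem irreducibleSpace_of_smooth {k : Type u} [Field k] (f : X ⟶ Spec (CommRingCat.of k)) [Smooth f]
    [ConnectedSpace X] : IrreducibleSpace X := by
  have h1 : IsLocallyNoetherian X := LocallyOfFiniteType.isLocallyNoetherian f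
  have h2 : IsIntegral X := (Ega1.GenPts.isIntegral_iff X).2
    ⟨inferInstance, fun x => (Dix.NormalLoc.stalk_of_smooth f x).1⟩
  infer_instance

theorem irreducibleSpace_pullback (p : X ⟶ S) [Smooth p] [GeometricallyConnected p] {Ω : Type u} [Field Ω]
    (s : Spec (CommRingCat.of Ω) ⟶ S) : IrreducibleSpace ↥(pullback p s) := by
  have h1 : ConnectedSpace ↥(pullback p s) :=
    GeometricallyConnected.geometrically_connectedSpace _ _ _ (.of_hasPullback _ _)
  exact irreducibleSpace_of_smooth (pullback.snd p s)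

theorem isPreirreducible_fibre (p : X ⟶ S) [Smooth p] [GeometricallyConnected p] (x : X) :
    IsPreirreducible {y : X | p y = p x} := by
  have h1 : ConnectedSpace (p.fiber (p x)) := inferInstance
  have h2 : Smooth (p.fiberToSpecResidueField (p x)) :=
    MorphismProperty.pullback_snd (P := @Smooth) _ _ inferInstance
  have h3 : IrreducibleSpace (p.fiber (p x)) :=
    irreducibleSpace_of_smooth (k := S.residueField (p x)) (p.fiberToSpecResidueField (p x))
  have h4 : IsPreirreducible (Set.range (p.fiberι (p x))) := by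
    rw [← Set.image_univ]
    exact (PreirreducibleSpace.isPreirreducible_univ).image _ (p.fiberι _).continuous.continuousOn
  rw [p.range_fiberι] at h4
  exact h4

/-- An open `O₁ ⊂ O` hitting all the fibres of `O` is fibrewise dense in `O` if the fibres are irreducible. -/
theorem fibDense_of_irreducible {X O : Scheme.{u}} (p : X ⟶ S) [Smooth p] [GeometricallyConnected p]
    (j : O ⟶ X) [IsOpenImmersion j] (O₁ : Set O) (hO₁ : IsOpen O₁)
    (h : ∀ x : O, ∃ y ∈ O₁, p (j y) = p (j x)) : IsFibDense (j ≫ p) O₁ := by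
  intro x
  rw [mem_closure_iff]
  intro N hN hxN
  obtain ⟨y, hy, hyx⟩ := h x
  have h1 := isPreirreducible_fibre p (j x) (j '' N) (j '' O₁) (j.isOpenEmbedding.isOpenMap _ hN)
    (j.isOpenEmbedding.isOpenMap _ hO₁) ⟨j x, rfl, x, hxN, rfl⟩ ⟨j y, hyx, y, hy, rfl⟩
  obtain ⟨_, hz, ⟨z, hzN, rfl⟩, ⟨z', hzO, hzz⟩⟩ := h1
  have : z' = z := j.isOpenEmbedding.injective hzz
  subst this
  refine ⟨z', hzN, hzO, ?_⟩
  simp only [Set.mem_ofPred_eq, Scheme.Hom.comp_apply]
  exact hz

end Irr

end Groth.Agent.Sga4B.FibDense
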