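import Groth.Agent.Sga4B.FibDense
import Groth.Agent.EtpbcB.BCCrit
import Groth.Agent.EtpbcA.OverSite2
import Groth.Agent.S1414

/-!
# Extension of local families from fibrewise dense opens

* `exists_ext_of_geomConnected`: the case of smooth morphisms with geometrically connected fibres.
* `Local` / `isIso_unit_of_local`: the unit `f^* F ⟶ j_* j^* f^* F` is an isomorphism if local families extend
  etale locally.
-/

set_option autoImplicit false
universe u
open CategoryTheory CategoryTheory.Limits AlgebraicGeometry Opposite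

namespace Groth.Agent.Sga4B.FibDense

open Groth.Agent.EtpbcB.Big

section Conn

variable {X S S' : Scheme.{u}}

theorem exists_ext_of_geomConnected {F : EtCoh.Ab S} {U : Scheme.{u}} [IsAffine S'] (p : X ⟶ S') [Smooth p]
    [GeometricallyConnected p] (c : S' ⟶ S) (j : U ⟶ X) [IsOpenImmersion j] (hj : IsFibDense p (Set.range j))
    {q : U ⟶ S} (hq : j ≫ p ≫ c = q) (v : Fam F q) (hv : IsLoc v) (x : X) :
    ∃ (O : X.Opens) (_ : x ∈ O) (v' : Fam F (O.ι ≫ p ≫ c)), IsLoc v' ∧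
      ∀ (T : Scheme.{u}) (r : T ⟶ O) (r' : T ⟶ U) (e : r ≫ O.ι = r' ≫ j),
        v'.res r rfl = v.res r' (by rw [← hq, ← reassoc_of% e]) := by
  obtain ⟨_, ⟨u₀, rfl⟩, hu₀⟩ := hj.nonempty x
  obtain ⟨_, ⟨U₁ : U.Opens, hU₁, rfl⟩, hu₁, -⟩ :=
    U.isBasis_affineOpens.exists_subset_of_mem_open (Set.mem_univ u₀) isOpen_univ
  have hU₁a : IsAffine U₁ := hU₁
  let g : (U₁ : Scheme.{u}) ⟶ S' := U₁.ι ≫ j ≫ p
  let S₁ : S'.Opens := ⟨Set.range g, (Scheme.Hom.isOpenMap g).isOpen_range⟩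
  let p₁ : pullback g S₁.ι ⟶ S₁ := pullback.snd g S₁.ι
  -- connected geometric fibres
  have hc : ∀ (Ω : Type u) [Field Ω] [IsAlgClosed Ω] (s : Spec (CommRingCat.of Ω) ⟶ S₁),
      ConnectedSpace ↥(pullback p₁ s) := by
    intro Ω _ _ s
    have hirr : IrreducibleSpace ↥(pullback p (s ≫ S₁.ι)) := irreducibleSpace_pullback p (s ≫ S₁.ι)
    let m : pullback p₁ s ⟶ pullback p (s ≫ S₁.ι) :=
      pullback.map p₁ s p (s ≫ S₁.ι) (pullback.fst g S₁.ι ≫ U₁.ι ≫ j) (𝟙 _) S₁.ι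
        (by rw [Category.assoc, Category.assoc]; exact pullback.condition.symm) (by simp)
    have hm : IsOpenImmersion m := inferInstance
    have hsurj : Surjective p₁ := by
      refine ⟨fun y => ?_⟩
      obtain ⟨y', hy'⟩ : y.1 ∈ Set.range g := y.2
      obtain ⟨z, -, hz⟩ := Scheme.Pullback.exists_preimage_pullback (f := g) (g := S₁.ι) y' y hy'
      exact ⟨z, hz⟩
    have hne : Nonempty ↥(pullback p₁ s) := by
      obtain ⟨z, -⟩ := (pullback.snd p₁ s).surjective default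
      exact ⟨z⟩
    have h1 : IrreducibleSpace ↥(pullback p₁ s) := by
      have h2 : PreirreducibleSpace ↥(pullback p₁ s) := m.isOpenEmbedding.preirreducibleSpace
      exact ⟨hne⟩
    infer_instance
  let t : pullback g S₁.ι ⟶ U := pullback.fst g S₁.ι ≫ U₁.ι
  have ht : p₁ ≫ S₁.ι ≫ c = t ≫ q := by
    rw [← hq]
    simp only [t, Category.assoc]
    rw [← reassoc_of% (pullback.condition : pullback.fst g S₁.ι ≫ g = _)]
    simp only [g, Category.assoc]
  obtain ⟨τ, hτ, hτ'⟩ := exists_of_connected p₁ hc ht (v.res t rfl) (hv.res t rfl)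
  refine ⟨p ⁻¹ᵁ S₁, ⟨⟨u₀, hu₁⟩, ?_⟩, τ.res (p ∣_ S₁) ?_, hτ.res _ _, fun T r r' e => ?_⟩
  · exact hu₀
  · rw [← Category.assoc, morphismRestrict_ι, Category.assoc]
  · -- compare on `U ∩ p⁻¹ S₁`
    let U₂ := pullback (p ⁻¹ᵁ S₁).ι j
    have e₂ : pullback.fst (p ⁻¹ᵁ S₁).ι j ≫ (p ⁻¹ᵁ S₁).ι ≫ p ≫ c = pullback.snd (p ⁻¹ᵁ S₁).ι j ≫ q := by
      rw [← hq, ← Category.assoc, pullback.condition, Category.assoc]
    have e₃ : (p ∣_ S₁) ≫ S₁.ι ≫ c = (p ⁻¹ᵁ S₁).ι ≫ p ≫ c := by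
      rw [← Category.assoc, morphismRestrict_ι, Category.assoc]
    have key : (τ.res (p ∣_ S₁) e₃).res (pullback.fst (p ⁻¹ᵁ S₁).ι j) e₂ =
        v.res (pullback.snd (p ⁻¹ᵁ S₁).ι j) rfl := by
      let O₁ : Set U₂ := pullback.snd (p ⁻¹ᵁ S₁).ι j ⁻¹' U₁
      have hO₁ : IsOpen O₁ := U₁.2.preimage (pullback.snd (p ⁻¹ᵁ S₁).ι j).continuous
      have hfd : IsFibDense (pullback.snd (p ⁻¹ᵁ S₁).ι j ≫ q) O₁ := by
        have h1 : IsFibDense ((pullback.snd (p ⁻¹ᵁ S₁).ι j ≫ j) ≫ p) O₁ := by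
          refine fibDense_of_irreducible p (pullback.snd (p ⁻¹ᵁ S₁).ι j ≫ j) O₁ hO₁ fun x => ?_
          have hx : p (((pullback.snd (p ⁻¹ᵁ S₁).ι j) ≫ j) x) ∈ Set.range g := by
            rw [← pullback.condition]
            exact (pullback.fst (p ⁻¹ᵁ S₁).ι j x).2
          obtain ⟨u, hu⟩ := hx
          have hu' : p (j u.1) ∈ S₁ := ⟨u, rfl⟩
          obtain ⟨y, -, hy⟩ := Scheme.Pullback.exists_preimage_pullback (f := (p ⁻¹ᵁ S₁).ι) (g := j)
            ⟨j u.1, hu'⟩ u.1 rfl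
          refine ⟨y, ?_, ?_⟩
          · change pullback.snd (p ⁻¹ᵁ S₁).ι j y ∈ (U₁ : Set U)
            rw [hy]
            exact u.2
          · rw [Scheme.Hom.comp_apply, hy, ← hu]
            rfl
        have h2 := h1.postcomp c
        have h3 : ((pullback.snd (p ⁻¹ᵁ S₁).ι j ≫ j) ≫ p) ≫ c = pullback.snd (p ⁻¹ᵁ S₁).ι j ≫ q := by
          rw [← hq]
          simp only [Category.assoc]
        rwa [h3] at h2
      let k₁ : pullback g S₁.ι ⟶ p ⁻¹ᵁ S₁ := (isPullback_morphismRestrict p S₁).lift p₁ (t ≫ j) (by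
        simp only [t, Category.assoc]
        exact pullback.condition.symm)
      have hk₁ : k₁ ≫ (p ⁻¹ᵁ S₁).ι = t ≫ j := (isPullback_morphismRestrict p S₁).lift_snd _ _ _
      have hk₁' : k₁ ≫ (p ∣_ S₁) = p₁ := (isPullback_morphismRestrict p S₁).lift_fst _ _ _
      let k : pullback g S₁.ι ⟶ U₂ := pullback.lift k₁ t hk₁
      have hkf : k ≫ pullback.fst (p ⁻¹ᵁ S₁).ι j = k₁ := pullback.lift_fst _ _ _
      have hks : k ≫ pullback.snd (p ⁻¹ᵁ S₁).ι j = t := pullback.lift_snd _ _ _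
      refine eq_of_fibDense ((hτ.res _ _).res _ _) (hv.res _ _) hfd ?_
      have hsub : O₁ ⊆ Set.range k := by
        intro y hy
        have hgy : g ⟨pullback.snd (p ⁻¹ᵁ S₁).ι j y, hy⟩ ∈ S₁ := ⟨_, rfl⟩
        obtain ⟨z, hz, -⟩ := Scheme.Pullback.exists_preimage_pullback (f := g) (g := S₁.ι)
            ⟨pullback.snd (p ⁻¹ᵁ S₁).ι j y, hy⟩ ⟨_, hgy⟩ rfl
        refine ⟨z, (pullback.snd (p ⁻¹ᵁ S₁).ι j).isOpenEmbedding.injective ?_⟩
        rw [← Scheme.Hom.comp_apply, hks]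
        simp only [t, Scheme.Hom.comp_apply, hz]
        rfl
      refine hsub.trans (subset_agree_of_res_eq ((hτ.res _ _).res _ _) (hv.res _ _) k
        (q' := t ≫ q) (by rw [← Category.assoc, hks]) ?_)
      rw [Fam.res_res, Fam.res_res, Fam.res_res]
      have h4 := hτ'
      have h5 : (k ≫ pullback.fst (p ⁻¹ᵁ S₁).ι j) ≫ (p ∣_ S₁) = p₁ := by rw [hkf, hk₁']
      rw [Fam.res_congr τ _ h5, Fam.res_congr v _ hks]
      exact hτ'
    let l : T ⟶ U₂ := pullback.lift r r' e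
    have hl1 : l ≫ pullback.fst (p ⁻¹ᵁ S₁).ι j = r := pullback.lift_fst _ _ _
    have hl2 : l ≫ pullback.snd (p ⁻¹ᵁ S₁).ι j = r' := pullback.lift_snd _ _ _
    have h6 := congrArg (fun w => Fam.res w l (show l ≫ pullback.snd (p ⁻¹ᵁ S₁).ι j ≫ q =
      r ≫ (p ⁻¹ᵁ S₁).ι ≫ p ≫ c by rw [← e₂, ← Category.assoc, hl1])) key
    simp only [Fam.res_res] at h6 ⊢
    rw [Fam.res_congr τ _ (by rw [← Category.assoc, hl1] :
      l ≫ pullback.fst (p ⁻¹ᵁ S₁).ι j ≫ p ∣_ S₁ = r ≫ p ∣_ S₁)] at h6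
    rw [h6]
    exact Fam.res_congr v _ hl2

end Conn

section Unit

open EtCoh EtShriek EtpbcA.OverSite EtpbcA.OverSite2

variable {X S U : Scheme.{u}}

/-- Local families extend etale locally around `x`, from `U` to `X`. -/
def LocExt (f : X ⟶ S) (j : U ⟶ X) (F : EtCoh.Ab S) : Prop :=
  ∀ (v : Fam F (j ≫ f)), IsLoc v → ∀ x : X, ∃ (X₁ : Scheme.{u}) (a : X₁ ⟶ X) (_ : Etale a) (x₁ : X₁)
    (v' : Fam F (a ≫ f)), a x₁ = x ∧ IsLoc v' ∧ ∀ (T : Scheme.{u}) (r : T ⟶ X₁) (r' : T ⟶ U)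
      (e : r ≫ a = r' ≫ j), v'.res r rfl = v.res r' (by rw [← Category.assoc, ← e, Category.assoc])

/-- `V ×_X U` as an etale `X`-scheme. -/
noncomputable def ov (j : U ⟶ X) [Etale j] (V : X.Etale) : X.Etale := (compEtale j).obj ((bc j).obj V)

noncomputable def ovC (j : U ⟶ X) [Etale j] (V : X.Etale) : ov j V ⟶ V := (compEtaleAdj j).counit.app V

noncomputable def ovM (j : U ⟶ X) [Etale j] {V V' : X.Etale} (α : V' ⟶ V) : ov j V' ⟶ ov j V :=
  (compEtale j).map ((bc j).map α)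

theorem ovC_left (j : U ⟶ X) [Etale j] (V : X.Etale) : (ovC j V).left = pullback.fst V.hom j := rfl

theorem ovM_ovC (j : U ⟶ X) [Etale j] {V V' : X.Etale} (α : V' ⟶ V) : ovM j α ≫ ovC j V = ovC j V' ≫ α :=
  (compEtaleAdj j).counit.naturality α

/-- The unit `f^* F ⟶ j_* j^* f^* F` is an isomorphism if local families extend etale locally. -/
theorem isIso_unit_of_locExt (f : X ⟶ S) (j : U ⟶ X) [IsOpenImmersion j] (F : EtCoh.Ab S)
    (hj : IsFibDense f (Set.range j))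
    (H : ∀ (V : X.Etale), LocExt (V.hom ≫ f) (pullback.fst V.hom j) F) :
    IsIso ((EtCoh.pullPushAdj j).unit.app ((EtCoh.pull f).obj F)) := by
  let G := (EtCoh.pull f).obj F
  have hφ : IsIso ((restrPushAdj j).unit.app G) := by
    -- density on etale `X`-schemes
    have hd : ∀ V : X.Etale, IsFibDense (V.hom ≫ f) (Set.range (pullback.fst V.hom j)) := by
      intro V
      have h1 : Set.range (pullback.fst V.hom j) = V.hom ⁻¹' Set.range j := Scheme.Pullback.range_fst _ _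
      rw [h1]
      exact hj.preimage V.hom (Scheme.Hom.isOpenMap _) (V.hom ≫ f) (𝟙 S) (Category.comp_id _).symm
    apply EtpbcB.BCCrit.isIso_of_local
    · intro V s hs x
      refine ⟨V, 𝟙 V, x, rfl, ?_⟩
      have hs' : G.obj.map (ovC j V).op s = 0 := hs
      have e0 : (ovC j V).left ≫ V.hom ≫ f = (ov j V).hom ≫ f := by rw [← Category.assoc, et_w]
      have h1 : val f F s = val f F (0 : EtCoh.sect G V) := by
        refine eq_of_fibDense (val_isLoc f F s) (val_isLoc f F _) (hd V) ?_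
        refine subset_agree_of_res_eq (val_isLoc f F s) (val_isLoc f F _) (ovC j V).left e0 ?_
        rw [← val_res, ← val_res, hs']
        exact congrArg _ (map_zero (G.obj.map (ovC j V).op).hom).symm
      rw [val_ext f F h1]
      exact map_zero (G.obj.map (𝟙 V : V ⟶ V).op).hom
    · intro V t x
      let t' : EtCoh.sect G (ov j V) := t
      have e0 : (ovC j V).left ≫ V.hom ≫ f = (ov j V).hom ≫ f := by rw [← Category.assoc, et_w]
      let v : Fam F (pullback.fst V.hom j ≫ V.hom ≫ f) :=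
        (val f F t').res (𝟙 _) ((Category.id_comp _).trans e0.symm)
      have hv : IsLoc v := (val_isLoc f F t').res _ _
      obtain ⟨X₁, a, ha, x₁, v', hx, hv', hr⟩ := H V v hv x
      let V₁ : X.Etale := Scheme.Etale.mk (a ≫ V.hom)
      let α : V₁ ⟶ V := etHom a rfl
      have e1 : 𝟙 _ ≫ a ≫ V.hom ≫ f = V₁.hom ≫ f := by
        rw [Category.id_comp]
        exact (Category.assoc _ _ _).symm
      obtain ⟨s, hs⟩ := exists_of_isLoc f F (U := V₁) (v'.res (𝟙 _) e1) (hv'.res _ _)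
      refine ⟨V₁, α, x₁, s, hx, ?_⟩
      have e2 : (ovC j V₁).left ≫ V₁.hom ≫ f = (ov j V₁).hom ≫ f := by rw [← Category.assoc, et_w]
      have e3 : (ovM j α).left ≫ (ov j V).hom ≫ f = (ov j V₁).hom ≫ f := by rw [← Category.assoc, et_w]
      apply val_ext f F (U := ov j V₁)
      refine (val_res f F (ovC j V₁) s).trans (Eq.trans ?_ (val_res f F (ovM j α) t').symm)
      have e4 : (ovC j V₁).left ≫ a = (ovM j α).left ≫ pullback.fst V.hom j :=
        (congrArg (fun k => k.left) (ovM_ovC j α)).symm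
      have h3 := hr _ (ovC j V₁).left (ovM j α).left e4
      rw [hs]
      ext Ω _ _ l ξ hl
      have e5 : l ≫ (ovC j V₁).left ≫ a ≫ V.hom ≫ f = ξ := by
        rw [← hl, ← e2]
        rfl
      have h4 := Fam.congr_fun h3 l e5
      rw [Fam.res_apply, Fam.res_apply] at h4 ⊢
      refine Eq.trans ?_ (h4.trans ?_)
      · exact v'.congr (Category.comp_id _) _
      · exact (val f F t').congr (Category.comp_id _) _
  have h1 : (pullPushAdj j).unit.app G ≫ (push j).map ((pullIsoRestr j).hom.app G) =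
      (restrPushAdj j).unit.app G := unit_pullIsoRestr j G
  have h2 : IsIso ((pullPushAdj j).unit.app G ≫ (push j).map ((pullIsoRestr j).hom.app G)) := by
    rw [h1]
    exact hφ
  exact IsIso.of_isIso_comp_right _ ((push j).map ((pullIsoRestr j).hom.app G))

end Unit

end Groth.Agent.Sga4B.FibDense
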