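import Groth.Agent.Pi1A.DepthTwo
import Groth.Agent.Pi1A.DepthSpread
import Groth.Agent.FlatA.NagataOpen
import Groth.Agent.Flat2B.FlatLocusAux
import Mathlib.RingTheory.Flat.Equalizer
import Mathlib.RingTheory.Flat.FaithfullyFlat.Algebra

/-!
# Universally regular pairs

`UnivReg A B a b`: the pair `(1 ⊗ a, 1 ⊗ b)` is a regular pair on `K ⊗[A] B` for every
`A`-algebra `K`.
-/

set_option autoImplicit false
set_option linter.dupNamespace false
universe u

open TensorProduct

namespace Groth.Agent.Sga4B.UnivReg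

open Groth.Agent.Pi1A.DepthTwo

/-- `(1 ⊗ a, 1 ⊗ b)` is a regular pair on `K ⊗[A] B` for every `A`-algebra `K`. -/
def UnivReg (A B : Type u) [CommRing A] [CommRing B] [Algebra A B] (a b : B) : Prop :=
  ∀ (K : Type u) [CommRing K] [Algebra A K], IsRegPair ((1 : K) ⊗ₜ[A] a) ((1 : K) ⊗ₜ[A] b)

theorem IsRegPair.map_equiv {A B : Type*} [CommRing A] [CommRing B] (e : A ≃+* B) {x y : A}
    (h : IsRegPair x y) : IsRegPair (e x) (e y) := by
  refine ⟨fun b hb => ?_, fun b c hbc => ?_⟩
  · have h1 : x * e.symm b = 0 := by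
      apply e.injective
      simpa using hb
    have h2 := h.fst _ h1
    simpa using h2
  · obtain ⟨d, hd⟩ := h.snd (e.symm b) (e.symm c) (by
      apply e.injective
      simpa using hbc)
    refine ⟨e d, ?_⟩
    have := congrArg e hd
    simpa using this

section

variable {A B : Type u} [CommRing A] [CommRing B] [Algebra A B] {a b : B}

/-- A regular pair with flat quotients is universally regular. -/
theorem of_flat (h : IsRegPair a b) (h₁ : Module.Flat A (B ⧸ Ideal.span {a}))
    (h₂ : Module.Flat A (B ⧸ Ideal.span {a, b})) : UnivReg A B a b := by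
  intro K _ _
  -- multiplication by `a`
  let ma : B →ₗ[A] B := LinearMap.mulLeft A a
  let πa : B →ₗ[A] B ⧸ Ideal.span {a} := (Ideal.Quotient.mkₐ A (Ideal.span {a})).toLinearMap
  have hπa : Function.Surjective πa := Ideal.Quotient.mk_surjective
  have hexa : Function.Exact ma πa := by
    intro x
    change Ideal.Quotient.mk _ x = 0 ↔ _
    rw [Ideal.Quotient.eq_zero_iff_mem, Ideal.mem_span_singleton']
    constructor
    · rintro ⟨c, hc⟩
      exact ⟨c, by rw [← hc]; exact mul_comm _ _⟩
    · rintro ⟨c, hc⟩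
      exact ⟨c, by rw [← hc]; exact mul_comm _ _⟩
  have hma : Function.Injective ma := by
    rw [injective_iff_map_eq_zero]
    exact fun x hx => h.fst x hx
  have hmaK : ∀ x : K ⊗[A] B, ma.lTensor K x = ((1 : K) ⊗ₜ[A] a) * x := by
    intro x
    induction x with
    | zero => simp
    | add x y hx hy => rw [map_add, hx, hy, mul_add]
    | tmul k x => simp [ma]
  have hinja := LinearMap.lTensor_injective_of_exact_of_flat πa hπa ma hma hexa K
  -- multiplication by `b` on `B / a`
  let mb : (B ⧸ Ideal.span {a}) →ₗ[A] (B ⧸ Ideal.span {a}) :=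
    LinearMap.mulLeft A (Ideal.Quotient.mk _ b)
  have hle : Ideal.span {a} ≤ Ideal.span {a, b} := Ideal.span_mono (by simp)
  let πb : (B ⧸ Ideal.span {a}) →ₗ[A] (B ⧸ Ideal.span {a, b}) :=
    (Ideal.Quotient.factorₐ A hle).toLinearMap
  have hπb : Function.Surjective πb := Ideal.Quotient.factor_surjective hle
  have hexb : Function.Exact mb πb := by
    intro x
    obtain ⟨x, rfl⟩ := Ideal.Quotient.mk_surjective x
    change Ideal.Quotient.mk _ x = 0 ↔ _
    rw [Ideal.Quotient.eq_zero_iff_mem, Ideal.mem_span_pair]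
    constructor
    · rintro ⟨c, d, hcd⟩
      refine ⟨Ideal.Quotient.mk _ d, ?_⟩
      change Ideal.Quotient.mk _ b * Ideal.Quotient.mk _ d = _
      rw [← map_mul, Ideal.Quotient.eq, Ideal.mem_span_singleton']
      exact ⟨-c, by rw [← hcd]; ring⟩
    · rintro ⟨c, hc⟩
      obtain ⟨c, rfl⟩ := Ideal.Quotient.mk_surjective c
      change Ideal.Quotient.mk _ b * Ideal.Quotient.mk _ c = _ at hc
      rw [← map_mul, Ideal.Quotient.eq, Ideal.mem_span_singleton'] at hc
      obtain ⟨d, hd⟩ := hc
      exact ⟨-d, c, by linear_combination -hd⟩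
  have hmb : Function.Injective mb := by
    rw [injective_iff_map_eq_zero]
    intro x hx
    obtain ⟨x, rfl⟩ := Ideal.Quotient.mk_surjective x
    change Ideal.Quotient.mk _ b * Ideal.Quotient.mk _ x = 0 at hx
    rw [← map_mul, Ideal.Quotient.eq_zero_iff_mem, Ideal.mem_span_singleton'] at hx
    obtain ⟨c, hc⟩ := hx
    obtain ⟨d, hd⟩ := h.snd x c (by rw [← hc, mul_comm])
    rw [Ideal.Quotient.eq_zero_iff_mem, Ideal.mem_span_singleton']
    exact ⟨d, by rw [hd, mul_comm]⟩
  have hinjb := LinearMap.lTensor_injective_of_exact_of_flat πb hπb mb hmb hexb K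
  have hmbK : ∀ x : K ⊗[A] B, πa.lTensor K (((1 : K) ⊗ₜ[A] b) * x) =
      mb.lTensor K (πa.lTensor K x) := by
    intro x
    induction x with
    | zero => simp
    | add x y hx hy => rw [mul_add, map_add, hx, hy, map_add, map_add]
    | tmul k x => simp [mb, πa]
  have hexK := lTensor_exact K hexa hπa
  refine ⟨fun x hx => ?_, fun x y hxy => ?_⟩
  · apply hinja
    rw [hmaK, hx, map_zero]
  · have h0 : πa.lTensor K (((1 : K) ⊗ₜ[A] a) * y) = 0 := by
      rw [← hmaK]
      exact (hexK _).mpr ⟨y, rfl⟩
    rw [← hxy, hmbK] at h0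
    have h3 : πa.lTensor K x = 0 := hinjb (by rw [h0, map_zero])
    obtain ⟨z, hz⟩ := (hexK x).mp h3
    exact ⟨z, by rw [← hz, hmaK]⟩

/-- Universally regular pairs are stable under base change. -/
theorem UnivReg.baseChange (h : UnivReg A B a b) (A' : Type u) [CommRing A'] [Algebra A A'] :
    UnivReg A' (A' ⊗[A] B) ((1 : A') ⊗ₜ[A] a) ((1 : A') ⊗ₜ[A] b) := by
  intro K _ _
  let _ : Algebra A K := Algebra.compHom K (algebraMap A A')
  have : IsScalarTower A A' K := .of_algebraMap_eq' rfl
  have h' := h K
  let e := (Algebra.TensorProduct.cancelBaseChange A A' A' K B).symm.toRingEquiv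
  have := IsRegPair.map_equiv e h'
  convert! this using 1

/-- Universally regular pairs are stable under flat extension of `B`. -/
theorem UnivReg.of_flat_extension (h : UnivReg A B a b) (B' : Type u) [CommRing B'] [Algebra A B']
    [Algebra B B'] [IsScalarTower A B B'] [Module.Flat B B'] :
    UnivReg A B' (algebraMap B B' a) (algebraMap B B' b) := by
  intro K _ _
  have h' := h K
  let φ : K ⊗[A] B →+* K ⊗[A] B' :=
    (Algebra.TensorProduct.map (AlgHom.id A K) (IsScalarTower.toAlgHom A B B')).toRingHom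
  have hφ : φ.Flat := by
    refine RingHom.Flat.tensorProductMap (f := AlgHom.id A K)
      (g := IsScalarTower.toAlgHom A B B') (RingHom.Flat.id K) ?_
    change (algebraMap B B').Flat
    rw [RingHom.flat_algebraMap_iff]
    infer_instance
  have := h'.map_of_flat φ hφ
  convert! this using 1

/-- A universally regular pair is regular modulo extended ideals. -/
theorem UnivReg.quotient (h : UnivReg A B a b) (J : Ideal A) :
    IsRegPair (Ideal.Quotient.mk (J.map (algebraMap A B)) a)
      (Ideal.Quotient.mk (J.map (algebraMap A B)) b) := by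
  have h' := h (A ⧸ J)
  have := IsRegPair.map_equiv
    (Algebra.TensorProduct.quotIdealMapEquivQuotTensor B J).symm.toRingEquiv h'
  convert! this using 1
  · exact ((AlgEquiv.symm_apply_eq _).mpr
      (Algebra.TensorProduct.quotIdealMapEquivQuotTensor_mk B J a).symm).symm
  · exact ((AlgEquiv.symm_apply_eq _).mpr
      (Algebra.TensorProduct.quotIdealMapEquivQuotTensor_mk B J b).symm).symm

end

end Groth.Agent.Sga4B.UnivReg
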