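import Groth.Agent.Sga4B.G0Top586

/-!
# Plan B, module M2: the class on the projective line from its pieces

`mulBij_of`: a class `γ : F ⟶ G[2]` which sends a generator of `H^0(P, F) = ℤ/n` to a generator of
`H^2(P, G) = ℤ/n` acts bijectively if the other groups vanish.
-/

set_option autoImplicit false
universe u
open CategoryTheory CategoryTheory.Limits AlgebraicGeometry Opposite Abelian
open Groth.Agent.Sga4B.DualShape
open scoped Groth.Agent.Etcore.EtInst
open Groth.Agent.Etcore.EtInst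

namespace Groth.Agent.Sga4B.G0Fin586

open Groth.Agent.Sga4B.DiagB Groth.Agent.Sga4B.DiagProd

theorem zmod_hom_apply {n : ℕ} (f : ZMod n →+ ZMod n) (h : f 1 = 1) (x : ZMod n) : f x = x := by
  obtain ⟨m, rfl⟩ := ZMod.intCast_surjective x
  have h1 : ((m : ℤ) : ZMod n) = m • (1 : ZMod n) := by rw [zsmul_eq_mul, mul_one]
  rw [h1, map_zsmul, h]

theorem mulBij_of {P : Scheme.{u}} {F G : EtCoh.Ab P} {n : ℕ} (e : HH P F 0 ≃+ ZMod n)
    (one : HH P F 0) (he : e one = 1) (hF : ∀ q : ℕ, 0 < q → Subsingleton (HH P F q))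
    (e2 : HH P G 2 ≃+ ZMod n) (hG : ∀ q : ℕ, 2 < q → Subsingleton (HH P G q))
    (γ : Ext.{u + 1} F G 2) (hγ : one.comp γ (zero_add 2) = e2.symm 1) : MulBij γ := by
  rw [mulBij_iff]
  intro m m' h
  rcases Nat.eq_zero_or_pos m with hm | hm
  · subst hm
    obtain rfl : m' = 2 := by omega
    let f : HH P F 0 →+ HH P G 2 := γ.postcomp (EtCoh.const P ℤ) (zero_add 2)
    have h1 : ∀ x, (e2.toAddMonoidHom.comp (f.comp e.symm.toAddMonoidHom)) x = x := by
      apply zmod_hom_apply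
      change e2 (f (e.symm 1)) = 1
      have h0 : e.symm 1 = one := by rw [← he, AddEquiv.symm_apply_apply]
      rw [h0]
      change e2 (one.comp γ (zero_add 2)) = _
      rw [hγ, AddEquiv.apply_symm_apply]
    have h2 : ∀ x : HH P F 0, (x.comp γ h : HH P G 2) = e2.symm (e x) := by
      intro x
      have h3 := h1 (e x)
      change e2 (f (e.symm (e x))) = e x at h3
      rw [AddEquiv.symm_apply_apply] at h3
      rw [← h3, AddEquiv.symm_apply_apply]
      rfl
    have h4 : (fun x : HH P F 0 => (x.comp γ h : HH P G 2)) = fun x => e2.symm (e x) := funext h2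
    rw [h4]
    exact e2.symm.bijective.comp e.bijective
  · have h1 := hF m hm
    have h2 := hG m' (by omega)
    exact ⟨fun a b _ => h1.elim a b, fun b => ⟨0, h2.elim _ _⟩⟩

/-- The class on the projective line. -/
theorem exists_gamma {k : Type u} [Field k] [IsSepClosed k] {n : ℕ} (i : Fin (1 + 1))
    (hlift : ∀ y : HH (Groth.Agent.EtpbcA.P1Charts.PP (CommRingCat.of k))
      (LS n (opE (DiagGeom.Op i (CommRingCat.of k)))) 2,
      ∃ γ : Ext.{u + 1} (LQ n (opE (DiagGeom.Op (i + 1) (CommRingCat.of k))))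
        (LS n (opE (DiagGeom.Op i (CommRingCat.of k)))) 2,
        (Ext.mk₀ (G0Top586.oneQ n (opE (DiagGeom.Op (i + 1) (CommRingCat.of k))))).comp γ
          (zero_add 2) = y)
    (hvan : Van (Groth.Agent.EtpbcA.P1Charts.PP (CommRingCat.of k))
      (LS n (opE (DiagGeom.Op i (CommRingCat.of k)))) 2)
    (h2 : Nonempty (HH (Groth.Agent.EtpbcA.P1Charts.PP (CommRingCat.of k))
      (LS n (opE (DiagGeom.Op i (CommRingCat.of k)))) 2 ≃+ ZMod n))
    (h3 : ∀ q : ℕ, 2 < q → Subsingleton (HH (Groth.Agent.EtpbcA.P1Charts.PP (CommRingCat.of k))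
      (LS n (opE (DiagGeom.Op i (CommRingCat.of k)))) q)) :
    ∃ γ : Ext.{u + 1} (LQ n (opE (DiagGeom.Op (i + 1) (CommRingCat.of k))))
      (LS n (opE (DiagGeom.Op i (CommRingCat.of k)))) (2 * 1),
      MulBij γ ∧ Van (Groth.Agent.EtpbcA.P1Charts.PP (CommRingCat.of k))
        (LS n (opE (DiagGeom.Op i (CommRingCat.of k)))) (2 * 1) ∧
      Nonempty (HH (Groth.Agent.EtpbcA.P1Charts.PP (CommRingCat.of k))
        (LQ n (opE (DiagGeom.Op (i + 1) (CommRingCat.of k)))) 0 ≃+ ZMod n) := by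
  obtain ⟨⟨e, he⟩, hF⟩ := G0Top586.main_P1 k n (i + 1)
  obtain ⟨e2⟩ := h2
  obtain ⟨γ, hγ⟩ := hlift (e2.symm 1)
  exact ⟨γ, mulBij_of e _ he hF e2 h3 γ hγ, hvan, ⟨e⟩⟩

end Groth.Agent.Sga4B.G0Fin586
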