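import Groth.Agent.Sga4B.DiagProdTools
import Groth.Agent.Sga4B.DiagGeom
import Groth.Agent.Sga4B.DiagLocZ1
import Groth.Agent.Etrest.SHPoint

/-!
# Plan B, module M2: the cohomology of `L / L[O]` for the complement `O` of a rational point

`k` separably closed, `s : Spec k ⟶ P` a closed immersion with range the complement of `O`.
* `subsingleton_HH`: `H^q(P, LQ n O) = 0` for `q > 0`.
* `exists_equiv`: `H^0(P, LQ n O) ≃+ ℤ/n`, the class of `oneQ n O : ℤ ⟶ LQ n O` goes to `1`.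
-/

set_option autoImplicit false
universe u
open CategoryTheory CategoryTheory.Limits AlgebraicGeometry Opposite Abelian
open Groth.Agent.Sga4B.DualShape
open scoped Groth.Agent.Etcore.EtInst
open Groth.Agent.Etcore.EtInst

namespace Groth.Agent.Sga4B.G0Top586

open Groth.Agent.Sga4B.DiagB Groth.Agent.Sga4B.DiagProd

noncomputable section

variable {P : Scheme.{u}}

instance epi_pi (n : ℕ) (U : P.Etale) : Epi (DiagLocZ.pi n U) := by
  have h1 : Epi (DiagLocZ.castZ.{u} n) := by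
    rw [AddCommGrpCat.epi_iff_surjective]
    rintro ⟨m⟩
    obtain ⟨k, rfl⟩ := ZMod.intCast_surjective m
    exact ⟨⟨k⟩, rfl⟩
  have h2 : Epi ((DiagLocZ.CF U).map (DiagLocZ.castZ.{u} n)) := inferInstance
  rw [DiagLocZ.CF_map_g] at h2
  exact h2

/-- The canonical map `ℤ ⟶ L / L[O]`. -/
def oneQ (n : ℕ) (O : P.Etale) : EtCoh.const P ℤ ⟶ LQ n O :=
  (JFComp.topIso ℤ P).inv ≫ DiagLocZ.pi n (EtCoh.top P) ≫ LQπ n O

instance epi_oneQ (n : ℕ) (O : P.Etale) : Epi (oneQ n O) := by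
  unfold oneQ
  infer_instance

section

variable {Z : Scheme.{u}} (s : Z ⟶ P) (O : P.Opens) (hr : Set.range s = (O : Set P)ᶜ)

include hr in
theorem suppOn [IsClosedImmersion s] (n : ℕ) : DiagB.SuppLemma.SuppOn s (LQ n (opE O)) := by
  have hO : Set.range O.ι = (Set.range s)ᶜ := by
    rw [Scheme.Opens.range_ι, hr, compl_compl]
  refine DiagB.SuppLemma.suppOn_of_isZero_pull O.ι hO _ ?_
  have : IsIso ((EtCoh.bc O.ι).map (toTop (opE O))) := by
    refine isIso_of_range ?_ _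
    rw [range_bc, range_bc, range_opE]
    intro x _
    exact x.2
  exact (isZero_LC_of_isIso n _).of_iso (LCpull n O.ι (toTop (opE O)))

include hr in
/-- The restriction of `L / L[O]` to the complement of `O`. -/
theorem nonempty_iso (n : ℕ) :
    Nonempty ((EtCoh.pull s).obj (LQ n (opE O)) ≅ EtCoh.const Z (ZMod n)) := by
  have he : IsEmpty ((EtCoh.bc s).obj (opE O)).left := by
    constructor
    intro x
    have h1 : ((EtCoh.bc s).obj (opE O)).hom x ∈ Set.range ((EtCoh.bc s).obj (opE O)).hom := ⟨x, rfl⟩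
    rw [range_bc, range_opE] at h1
    have h2 : s (((EtCoh.bc s).obj (opE O)).hom x) ∈ (O : Set P)ᶜ := hr ▸ ⟨_, rfl⟩
    exact h2 h1
  refine ⟨LCpull n s (toTop (opE O)) ≪≫ LCEmpty n _ ≪≫
    (JF Z (ZMod n)).mapIso (isoOfRange (V := EtCoh.top Z) ?_) ≪≫ JFComp.topIso (ZMod n) Z⟩
  rw [range_bc, range_top, range_top]
  rfl

end

/-! ### Cohomology of a point -/

/-- Endomorphisms of the constant sheaf `ℤ` of a connected scheme are integers. -/
theorem exists_zsmul_id {Z : Scheme.{u}} [ConnectedSpace Z] (g : EtCoh.const Z ℤ ⟶ EtCoh.const Z ℤ) :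
    ∃ m : ℤ, g = m • 𝟙 _ := by
  obtain ⟨e⟩ := Etrest.SHPoint.nonempty_H0_const Z ℤ
  let φ : (EtCoh.const Z ℤ ⟶ EtCoh.const Z ℤ) ≃+ ℤ :=
    (Ext.addEquiv₀ (X := EtCoh.const Z ℤ) (Y := EtCoh.const Z ℤ)).symm.trans e
  have hφ : ∀ g, g = φ g • φ.symm 1 := by
    intro g
    apply φ.injective
    rw [map_zsmul, AddEquiv.apply_symm_apply, smul_eq_mul, mul_one]
  set γ := φ.symm 1 with hγ
  have h1 : (𝟙 _ : EtCoh.const Z ℤ ⟶ _) = φ (𝟙 _) • γ := hφ _
  have h2 : γ ≫ γ = φ (γ ≫ γ) • γ := hφ _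
  set a := φ (𝟙 _)
  set b := φ (γ ≫ γ)
  have h3 : γ = (a * b) • γ := by
    have : γ = (a • γ) ≫ γ := by rw [← h1, Category.id_comp]
    rw [Preadditive.zsmul_comp, h2, smul_smul] at this
    exact this
  have h4 : a * b = 1 := by
    have h5 := congrArg φ h3
    rw [map_zsmul, hγ, AddEquiv.apply_symm_apply, smul_eq_mul, mul_one] at h5
    exact h5.symm
  have h6 : γ = b • 𝟙 _ := by
    rw [h1, smul_smul, mul_comm, h4, one_smul]
  exact ⟨φ g * b, by rw [← smul_smul, ← h6]; exact hφ g⟩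

variable {k : Type u} [Field k] [IsSepClosed k] (s : Spec (CommRingCat.of k) ⟶ P)
  [IsClosedImmersion s] (O : P.Opens) (hr : Set.range s = (O : Set P)ᶜ)

include hr in
theorem subsingleton_HH (n : ℕ) (q : ℕ) (hq : 0 < q) : Subsingleton (HH P (LQ n (opE O)) q) := by
  have h1 := bijective_hp s (suppOn s O hr n) q
  have h2 : Subsingleton (HH (Spec (CommRingCat.of k)) ((EtCoh.pull s).obj (LQ n (opE O))) q) :=
    Etrest.SHPoint.subsingleton_H_of_sepClosed k _ q hq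
  exact h1.1.subsingleton

include hr in
theorem exists_mul (n : ℕ) (x : HH P (LQ n (opE O)) 0) :
    ∃ m : ℤ, x = m • (Ext.mk₀ (oneQ n (opE O)) : HH P (LQ n (opE O)) 0) := by
  obtain ⟨f, rfl⟩ := Ext.addEquiv₀.symm.surjective x
  change ∃ m : ℤ, Ext.mk₀ f = _
  have hinj := (bijective_hp s (suppOn s O hr n) 0).1
  let e0 := (EtCore.pullConst s ℤ).inv ≫ (EtCoh.pull s).map (oneQ n (opE O))
  have he0 : Epi e0 := inferInstance
  let S : ShortComplex (EtCoh.Ab (Spec (CommRingCat.of k))) :=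
    ShortComplex.mk (kernel.ι e0) e0 (kernel.condition e0)
  have hS : S.ShortExact :=
    { exact := ShortComplex.exact_kernel e0
      mono_f := inferInstanceAs (Mono (kernel.ι e0))
      epi_g := he0 }
  have h1 : Subsingleton (HH (Spec (CommRingCat.of k)) S.X₁ 1) :=
    Etrest.SHPoint.subsingleton_H_of_sepClosed k _ 1 one_pos
  obtain ⟨y, hy⟩ := Ext.covariant_sequence_exact₃ (EtCoh.const (Spec (CommRingCat.of k)) ℤ) hS
    (Ext.mk₀ ((EtCore.pullConst s ℤ).inv ≫ (EtCoh.pull s).map f)) rfl (h1.elim _ _)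
  obtain ⟨g, rfl⟩ := Ext.addEquiv₀.symm.surjective y
  obtain ⟨m, rfl⟩ := exists_zsmul_id g
  refine ⟨m, hinj ?_⟩
  rw [map_zsmul]
  have h2 : ∀ a : EtCoh.const P ℤ ⟶ LQ n (opE O), Etcore.HpullCalc.hp s (LQ n (opE O)) 0 (Ext.mk₀ a) =
      Ext.mk₀ ((EtCore.pullConst s ℤ).inv ≫ (EtCoh.pull s).map a) := by
    intro a
    rw [Etcore.HpullCalc.hp_apply, Ext.mapExactFunctor_mk₀, Ext.mk₀_comp_mk₀]
  rw [h2, h2, ← hy]
  change (Ext.mk₀ (m • 𝟙 (EtCoh.const (Spec (CommRingCat.of k)) ℤ))).comp (Ext.mk₀ e0) (add_zero 0) =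
    m • Ext.mk₀ e0
  rw [Ext.mk₀_comp_mk₀, Preadditive.zsmul_comp, Category.id_comp]
  exact map_zsmul Ext.addEquiv₀.symm m e0

include hr in
/-- `H^0(P, L / L[O]) = ℤ/n`, generated by the class of `ℤ ⟶ L / L[O]`. -/
theorem exists_equiv (n : ℕ) :
    ∃ e : HH P (LQ n (opE O)) 0 ≃+ ZMod n, e (Ext.mk₀ (oneQ n (opE O))) = 1 := by
  obtain ⟨ε⟩ := nonempty_iso s O hr n
  obtain ⟨e₁⟩ := Etrest.SHPoint.nonempty_H0_const (Spec (CommRingCat.of k)) (ZMod n)
  let e₂ : HH P (LQ n (opE O)) 0 ≃+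
      HH (Spec (CommRingCat.of k)) ((EtCoh.pull s).obj (LQ n (opE O))) 0 :=
    AddEquiv.ofBijective (Etcore.HpullCalc.hp s (LQ n (opE O)) 0)
      (bijective_hp s (suppOn s O hr n) 0)
  let e : HH P (LQ n (opE O)) 0 ≃+ ZMod n := e₂.trans ((HHcongr ε 0).trans e₁)
  obtain ⟨m, hm⟩ := exists_mul s O hr n (e.symm 1)
  have h1 : (m : ZMod n) * e (Ext.mk₀ (oneQ n (opE O))) = 1 := by
    have h2 := congrArg e hm
    rw [AddEquiv.apply_symm_apply, map_zsmul, zsmul_eq_mul] at h2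
    exact h2.symm
  let v : (ZMod n)ˣ := ⟨(m : ZMod n), e (Ext.mk₀ (oneQ n (opE O))), h1, (mul_comm _ _).trans h1⟩
  exact ⟨e.trans (DistribMulAction.toAddEquiv (ZMod n) v), h1⟩

/-- the case of the projective line -/
theorem main_P1 (k : Type u) [Field k] [IsSepClosed k] (n : ℕ) (i : Fin (1 + 1)) :
    (∃ e : HH (Groth.Agent.EtpbcA.P1Charts.PP (CommRingCat.of k)) (LQ n (opE (DiagGeom.Op i (CommRingCat.of k)))) 0 ≃+ ZMod n,
      e (Ext.mk₀ (oneQ n (opE (DiagGeom.Op i (CommRingCat.of k))))) = 1) ∧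
    ∀ q : ℕ, 0 < q → Subsingleton (HH (Groth.Agent.EtpbcA.P1Charts.PP (CommRingCat.of k))
      (LQ n (opE (DiagGeom.Op i (CommRingCat.of k)))) q) := by
  have h0 : i = (i + 1) + 1 := by
    fin_cases i <;> rfl
  have hr : Set.range (P1.sect (Spec (CommRingCat.of k)) (i + 1)) =
      (DiagGeom.Op i (CommRingCat.of k) : Set ↥(Groth.Agent.EtpbcA.P1Charts.PP (CommRingCat.of k)))ᶜ := by
    conv_rhs => rw [h0]
    rw [DiagGeom.Op_add_one, compl_compl]
  exact ⟨exists_equiv _ _ hr n, fun q hq => subsingleton_HH _ _ hr n q hq⟩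

end

end Groth.Agent.Sga4B.G0Top586
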