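import Groth.Agent.Sga4B.DualShape
import Groth.Agent.Etbase.EtGlue

/-!
# `U ↦ u_! M` and disjoint unions

* `isColimitCofan`: if `f i : U i ⟶ W` are monomorphisms with disjoint ranges covering `W`, then
  `W_! M` is the coproduct of the `(U i)_! M`.
* `isIso_of_cofans`: a map between two coproducts which is an isomorphism on components (after an additive
  functor, finite index set) is an isomorphism.
-/

set_option autoImplicit false
universe v u
open CategoryTheory CategoryTheory.Limits AlgebraicGeometry Opposite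
open Groth.Agent.EtpbcA Groth.Agent.Sga4B.DualShape

namespace Groth.Agent.Sga4B.JFCoprod

noncomputable section

variable {X : Scheme.{u}}

/-- `(u_! M ⟶ G)` is determined by the sections on `U`. -/
theorem jMap_comp (M : Type) [AddCommGroup M] {U V : X.Etale} (g : U ⟶ V) {G : EtCoh.Ab X}
    (ψ : EtPBC.extZeroConst V M ⟶ G) (m : M) :
    (jMap M g ≫ ψ).hom.app (op U) (Jshriek.univ U M m) =
      G.obj.map g.op (ψ.hom.app (op V) (Jshriek.univ V M m)) := by
  refine (congrArg (ψ.hom.app (op U)) (jMap_univ M g m)).trans ?_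
  exact NatTrans.naturality_apply ψ.hom g.op _

theorem existsUnique_desc (M : Type) [AddCommGroup M] {ι : Type v} {W : X.Etale} {U : ι → X.Etale}
    (f : ∀ i, U i ⟶ W) [∀ i, Mono (f i)] (hf : ⋃ i, Set.range (f i).left = Set.univ)
    (hd : ∀ i j, i ≠ j → Disjoint (Set.range (f i).left) (Set.range (f j).left))
    (G : EtCoh.Ab X) (φ : ∀ i, EtPBC.extZeroConst (U i) M ⟶ G) :
    ∃ ψ : EtPBC.extZeroConst W M ⟶ G, (∀ i, jMap M (f i) ≫ ψ = φ i) ∧
      ∀ ψ' : EtPBC.extZeroConst W M ⟶ G, (∀ i, jMap M (f i) ≫ ψ' = φ i) → ψ' = ψ := by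
  have h1 : ∀ m : M, ∃ t : EtCoh.sect G W, (∀ i, G.obj.map (f i).op t =
      (φ i).hom.app (op (U i)) (Jshriek.univ (U i) M m)) ∧
      ∀ t' : EtCoh.sect G W, (∀ i, G.obj.map (f i).op t' =
        (φ i).hom.app (op (U i)) (Jshriek.univ (U i) M m)) → t' = t := fun m =>
    Etbase.EtGlue.existsUnique_glue_disjoint G f hf hd
      (fun i => (φ i).hom.app (op (U i)) (Jshriek.univ (U i) M m))
  choose t ht hu using h1
  have hadd : ∀ m m' : M, t (m + m') = t m + t m' := fun m m' => by
    refine (hu (m + m') (t m + t m') fun i => ?_).symm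
    have e1 := map_add (G.obj.map (f i).op).hom (t m) (t m')
    have e2 : (φ i).hom.app (op (U i)) (Jshriek.univ (U i) M (m + m')) =
        (φ i).hom.app (op (U i)) (Jshriek.univ (U i) M m) +
          (φ i).hom.app (op (U i)) (Jshriek.univ (U i) M m') :=
      map_add (((φ i).hom.app (op (U i))).hom.comp (Jshriek.univ (U i) M)) m m'
    refine e1.trans ((congrArg₂ (· + ·) (ht m i) (ht m' i)).trans e2.symm)
  let τ : M →+ EtCoh.sect G W := AddMonoidHom.mk' t hadd
  refine ⟨Jshriek.lift W τ, fun i => ?_, fun ψ hψ => ?_⟩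
  · apply Jshriek.hom_ext (U i)
    intro m
    refine (jMap_comp M (f i) _ m).trans ?_
    rw [Jshriek.lift_univ]
    exact ht m i
  · apply Jshriek.hom_ext W
    intro m
    rw [Jshriek.lift_univ]
    refine hu m _ fun i => ?_
    rw [← hψ i]
    exact (jMap_comp M (f i) ψ m).symm

/-- `u_! M` sends disjoint unions to coproducts. -/
def isColimitCofan (M : Type) [AddCommGroup M] {ι : Type v} {W : X.Etale} {U : ι → X.Etale}
    (f : ∀ i, U i ⟶ W) [∀ i, Mono (f i)] (hf : ⋃ i, Set.range (f i).left = Set.univ)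
    (hd : ∀ i j, i ≠ j → Disjoint (Set.range (f i).left) (Set.range (f j).left)) :
    IsColimit (Cofan.mk ((JF X M).obj W) (fun i => (JF X M).map (f i))) :=
  Cofan.IsColimit.mk _ (fun s => (existsUnique_desc M f hf hd s.pt s.inj).choose)
    (fun s i => (existsUnique_desc M f hf hd s.pt s.inj).choose_spec.1 i)
    (fun s m hm => (existsUnique_desc M f hf hd s.pt s.inj).choose_spec.2 m hm)

end

section

universe w₁ w₂ v₁ v₂

variable {C : Type v₁} [Category.{w₁} C] [Preadditive C] {D : Type v₂} [Category.{w₂} D] [Preadditive D]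

/-- A map between finite coproducts which becomes an isomorphism on components after an additive functor `Φ`
becomes an isomorphism after `Φ`. -/
theorem isIso_of_cofans (Φ : C ⥤ D) [Φ.Additive] {ι : Type v} [Finite ι] {A B : ι → C} {P Q : C}
    (a : ∀ i, A i ⟶ P) (b : ∀ i, B i ⟶ Q) (ha : IsColimit (Cofan.mk P a)) (hb : IsColimit (Cofan.mk Q b))
    (g : P ⟶ Q) (c : ∀ i, A i ⟶ B i) (h : ∀ i, a i ≫ g = c i ≫ b i) (hc : ∀ i, IsIso (Φ.map (c i))) :
    IsIso (Φ.map g) := by
  have hcf : PreservesFiniteCoproducts Φ := inferInstance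
  have hcs : PreservesColimitsOfShape (Discrete ι) Φ := inferInstance
  let ha' := isColimitCofanMkObjOfIsColimit Φ _ _ ha
  let hb' := isColimitCofanMkObjOfIsColimit Φ _ _ hb
  let r : Φ.obj Q ⟶ Φ.obj P := Cofan.IsColimit.desc hb' (fun i => inv (Φ.map (c i)) ≫ Φ.map (a i))
  have hr : ∀ i, Φ.map (b i) ≫ r = inv (Φ.map (c i)) ≫ Φ.map (a i) := fun i =>
    Cofan.IsColimit.fac hb' _ i
  refine ⟨r, ?_, ?_⟩
  · refine Cofan.IsColimit.hom_ext ha' _ _ fun i => ?_
    change Φ.map (a i) ≫ Φ.map g ≫ r = Φ.map (a i) ≫ 𝟙 _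
    rw [← Φ.map_comp_assoc, h i, Φ.map_comp_assoc, hr, IsIso.hom_inv_id_assoc, Category.comp_id]
  · refine Cofan.IsColimit.hom_ext hb' _ _ fun i => ?_
    change Φ.map (b i) ≫ r ≫ Φ.map g = Φ.map (b i) ≫ 𝟙 _
    rw [← Category.assoc, hr, Category.assoc, ← Φ.map_comp, h i, Φ.map_comp, IsIso.inv_hom_id_assoc,
      Category.comp_id]

end

end Groth.Agent.Sga4B.JFCoprod
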