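import Groth.Agent.Sga4B.NoethStrata
import Groth.Agent.EtpbcA.StrataGlob
import Groth.Agent.Ega1.ReducedSub

/-!
# Generic constructibility on integral closed subschemes implies constructibility (locally Noetherian)

* `localStratum_of_isImmersion`: on a locally Noetherian scheme an immersion along which `F` is finite locally
  constant gives a local stratum of `F` at each point of its range.
* `isConstructible_of_generic_flc`, `isConstructible_of_generic`: if for every integral scheme `Z` with a closed
  immersion `i : Z ⟶ X` there is a nonempty open `U` of `Z` on which the inverse image of `F` is finite locally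
  constant (constructible), then `F` is constructible.
-/

set_option autoImplicit false
universe u

open CategoryTheory CategoryTheory.Limits AlgebraicGeometry Opposite Topology
open Groth.Agent.EtpbcA

namespace Groth.Agent.Sga4B.NoethCrit

variable {X : Scheme.{u}}

/-- On a locally Noetherian scheme an immersion along which `F` is finite locally constant gives a local stratum. -/
theorem localStratum_of_isImmersion [IsLocallyNoetherian X] (F : EtCoh.Ab X) {T : Scheme.{u}} (g : T ⟶ X)
    [IsImmersion g] (hF : EtCoh.IsFiniteLocallyConstant ((EtCoh.pull g).obj F)) {x : X} (hx : x ∈ Set.range g) :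
    ∃ V : X.Opens, x ∈ V ∧ Strata.LocalStratum F (V : Set X) x := by
  obtain ⟨W, hW, hxW, -⟩ := exists_isAffineOpen_mem_and_subset (x := x) (U := (⊤ : X.Opens)) trivial
  have hNr : IsNoetherianRing Γ(X, W) := IsLocallyNoetherian.component_noetherian ⟨W, hW⟩
  have hN : TopologicalSpace.NoetherianSpace (W : Set X) := noetherianSpace_of_isAffineOpen W hW
  have hlc : IsLocallyClosed ((W : Set X) ∩ Set.range g) :=
    W.2.isLocallyClosed.inter g.isLocallyClosed_range
  obtain ⟨T', h, h1, h2, hr⟩ := Strata.exists_sub_immersion g _ hlc Set.inter_subset_right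
  refine ⟨W, hxW, T', h ≫ g, h2, ?_, ?_, ?_, Strata.isFLC_comp g h F hF⟩
  · rw [hr]
    exact Set.inter_subset_left
  · rw [hr]
    exact ⟨hxW, hx⟩
  · rw [hr]
    exact NoethStrata.isConstructible_of_isLocallyClosed_noetherian (hlc.preimage continuous_subtype_val)

/-- Every point of a scheme is the image of a point of an integral closed subscheme lying in each nonempty open. -/
theorem exists_integral_closed (x : X) : ∃ (Z : Scheme.{u}) (i : Z ⟶ X), IsIntegral Z ∧ IsClosedImmersion i ∧
    ∀ U : Z.Opens, (U : Set Z).Nonempty → ∃ z ∈ U, i z = x := by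
  let C : TopologicalSpace.Closeds X := ⟨closure {x}, isClosed_closure⟩
  let I := Scheme.IdealSheafData.vanishingIdeal C
  have hr : Set.range I.subschemeι = closure {x} := by
    rw [Scheme.IdealSheafData.range_subschemeι, Scheme.IdealSheafData.coe_support_vanishingIdeal]
    rfl
  have hirr : IsIrreducible (closure {x}) := isIrreducible_singleton.closure
  have h2 : IsReduced I.subscheme := Groth.Agent.Ega1.ReducedSub.isReduced_subscheme_vanishingIdeal C
  have h1 : IrreducibleSpace I.subscheme := by
    have hi : IsIrreducible (Set.univ : Set I.subscheme) := by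
      let e := I.subschemeι.isClosedEmbedding.isEmbedding.toHomeomorph
      have h3 : IrreducibleSpace (Set.range I.subschemeι) := by
        rw [← isIrreducible_iff_irreducibleSpace, hr]; exact hirr
      have h4 := (IrreducibleSpace.isIrreducible_univ (Set.range I.subschemeι)).image e.symm
        e.symm.continuous.continuousOn
      rwa [Set.image_univ, e.symm.surjective.range_eq] at h4
    have : PreirreducibleSpace I.subscheme := ⟨hi.isPreirreducible⟩
    obtain ⟨x, _⟩ := hi.nonempty
    exact { toPreirreducibleSpace := this, toNonempty := ⟨x⟩ }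
  refine ⟨I.subscheme, I.subschemeι, isIntegral_of_irreducibleSpace_of_isReduced _, inferInstance, ?_⟩
  intro U hU
  have hx : x ∈ Set.range I.subschemeι := by rw [hr]; exact subset_closure rfl
  obtain ⟨z, hz⟩ := hx
  refine ⟨z, ?_, hz⟩
  obtain ⟨y, hy⟩ := hU
  have hsp : I.subschemeι z ⤳ I.subschemeι y := by
    rw [hz, specializes_iff_mem_closure, ← hr]
    exact ⟨y, rfl⟩
  exact (I.subschemeι.isEmbedding.isInducing.specializes_iff.1 hsp).mem_open U.2 hy

/-- Generic constructibility on all integral closed subschemes implies constructibility. -/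
theorem isConstructible_of_generic [IsLocallyNoetherian X] (F : EtCoh.Ab X)
    (h : ∀ (Z : Scheme.{u}) (i : Z ⟶ X), IsIntegral Z → IsClosedImmersion i →
      ∃ U : Z.Opens, (U : Set Z).Nonempty ∧ EtPBC.IsConstructible ((EtCoh.pull (U.ι ≫ i)).obj F)) :
    EtPBC.IsConstructible F := by
  refine Strata.isConstructible_of_local' F fun x => ?_
  obtain ⟨Z, i, hZ, hi, hx⟩ := exists_integral_closed x
  obtain ⟨U, hU, hc⟩ := h Z i hZ hi
  obtain ⟨z, hzU, hzx⟩ := hx U hU
  obtain ⟨V, hzV, T, g, h1, h2, h3, h4, h5⟩ := (Strata.isConstructible_iff_local' _).1 hc ⟨z, hzU⟩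
  obtain ⟨t, ht⟩ := h3
  have hF : EtCoh.IsFiniteLocallyConstant ((EtCoh.pull (g ≫ U.ι ≫ i)).obj F) :=
    PullFLC.isFLC_of_iso ((PullFLC.pullComp g (U.ι ≫ i)).app F) h5
  refine localStratum_of_isImmersion F (g ≫ U.ι ≫ i) hF ⟨t, ?_⟩
  rw [← hzx, Scheme.Hom.comp_apply, ht]
  rfl

/-- Generic finite local constancy on all integral closed subschemes implies constructibility. -/
theorem isConstructible_of_generic_flc [IsLocallyNoetherian X] (F : EtCoh.Ab X)
    (h : ∀ (Z : Scheme.{u}) (i : Z ⟶ X), IsIntegral Z → IsClosedImmersion i →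
      ∃ U : Z.Opens, (U : Set Z).Nonempty ∧
        EtCoh.IsFiniteLocallyConstant ((EtCoh.pull (U.ι ≫ i)).obj F)) :
    EtPBC.IsConstructible F := by
  refine Strata.isConstructible_of_local' F fun x => ?_
  obtain ⟨Z, i, hZ, hi, hx⟩ := exists_integral_closed x
  obtain ⟨U, hU, hc⟩ := h Z i hZ hi
  obtain ⟨z, hzU, hzx⟩ := hx U hU
  refine localStratum_of_isImmersion F (U.ι ≫ i) hc ⟨⟨z, hzU⟩, ?_⟩
  rw [← hzx]
  rfl

end Groth.Agent.Sga4B.NoethCrit
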