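import Groth.Agent.Sga5.ProjSmooth
import Groth.Agent.CurvesC.TwoAffine
import Groth.Prelude.Def_Curve
import Groth.Agent.PerfA.QCohSerre

/-!
# `H^1(P^1_R, O) = 0`
-/

set_option autoImplicit false
universe u
open CategoryTheory CategoryTheory.Limits AlgebraicGeometry MvPolynomial HomogeneousLocalization

namespace Groth.Agent.Sga4B.P1Genus682

open Groth.Agent.Sga5.ProjChart Groth.Agent.CohqB.QC2

variable (R : Type u) [CommRing R]

/-- the grading -/
noncomputable abbrev gr := CohB1.polyGrading 1 R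

lemma X_mul_mem : (X 0 * X 1 : MvPolynomial (Fin 2) R) ∈ gr R 2 :=
  (isHomogeneous_X R 0).mul (isHomogeneous_X R 1)

/-- ring of the intersection -/
abbrev A01 := Away (gr R) (X 0 * X 1 : MvPolynomial (Fin 2) R)

noncomputable def l0 : Chart 1 R 0 →+* A01 R := awayMap (gr R) (X_mem 1 R 1) rfl
noncomputable def l1 : Chart 1 R 1 →+* A01 R := awayMap (gr R) (X_mem 1 R 0) (mul_comm _ _)

lemma l0_mul_l1 : l0 R (coord 1 R 0 1) * l1 R (coord 1 R 1 0) = 1 := by
  apply HomogeneousLocalization.val_injective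
  rw [HomogeneousLocalization.val_mul, l0, l1, coord, coord, awayMap_mk, awayMap_mk, Away.val_mk, Away.val_mk,
    Localization.mk_mul, HomogeneousLocalization.val_one, ← Localization.mk_one,
    Localization.mk_eq_mk_iff, Localization.r_iff_exists]
  refine ⟨1, ?_⟩
  simp
  ring

lemma l0_chartC (r : R) : l0 R (chartC 1 R 0 r) = l1 R (chartC 1 R 1 r) :=
  (awayMap_fromZeroRingHom (gr R) (X_mem 1 R 1) rfl _).trans
    (awayMap_fromZeroRingHom (gr R) (X_mem 1 R 0) (mul_comm _ _) _).symm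

/-- Every element of the ring of the intersection of the two charts is a difference. -/
lemma exists_sub (z : A01 R) :
    ∃ (a : Chart 1 R 0) (b : Chart 1 R 1), l0 R a - l1 R b = z := by
  let S : AddSubgroup (A01 R) :=
    { carrier := {z | ∃ (a : Chart 1 R 0) (b : Chart 1 R 1), l0 R a - l1 R b = z}
      zero_mem' := ⟨0, 0, by rw [map_zero, map_zero, sub_zero]⟩
      add_mem' := by
        rintro _ _ ⟨s, t, rfl⟩ ⟨s', t', rfl⟩
        exact ⟨s + s', t + t', by rw [map_add, map_add]; ring⟩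
      neg_mem' := by
        rintro _ ⟨s, t, rfl⟩
        exact ⟨-s, -t, by rw [map_neg, map_neg]; ring⟩ }
  change z ∈ S
  have hrr := l0_mul_l1 R
  set r : A01 R := l0 R (coord 1 R 0 1) with hr
  set r' : A01 R := l1 R (coord 1 R 1 0) with hr'
  have hS1 : ∀ (a : R) (i n : ℕ), l0 R (chartC 1 R 0 a) * r ^ i * r' ^ n ∈ S := by
    intro a i n
    rcases le_total n i with h | h
    · obtain ⟨k, rfl⟩ := Nat.exists_eq_add_of_le h
      refine ⟨chartC 1 R 0 a * coord 1 R 0 1 ^ k, 0, ?_⟩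
      rw [map_zero, sub_zero, map_mul, map_pow, ← hr]
      calc l0 R (chartC 1 R 0 a) * r ^ k = l0 R (chartC 1 R 0 a) * r ^ k * (r * r') ^ n := by
            rw [hrr, one_pow, mul_one]
        _ = _ := by ring
    · obtain ⟨k, rfl⟩ := Nat.exists_eq_add_of_le h
      refine ⟨0, -(chartC 1 R 1 a * coord 1 R 1 0 ^ k), ?_⟩
      rw [map_zero, map_neg, sub_neg_eq_add, zero_add, map_mul, map_pow, ← hr', ← l0_chartC]
      calc l0 R (chartC 1 R 0 a) * r' ^ k = l0 R (chartC 1 R 0 a) * r' ^ k * (r * r') ^ i := by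
            rw [hrr, one_pow, mul_one]
        _ = _ := by ring
  have hS2 : ∀ (P : MvPolynomial (Fin 1) R) (n : ℕ), l0 R (ofPoly 1 R 0 P) * r' ^ n ∈ S := by
    intro P n
    rw [ofPoly, coe_eval₂Hom, eval₂_eq', map_sum, Finset.sum_mul]
    refine AddSubgroup.sum_mem _ fun i _ => ?_
    rw [map_mul, map_prod, Fin.prod_univ_one, map_pow]
    exact hS1 _ _ _
  have hloc := Away.isLocalization_mul (𝒜 := gr R) (X_mem 1 R 0) (X_mem 1 R 1) (x := X 0 * X 1) rfl one_ne_zero
  obtain ⟨⟨c, ⟨_, n, rfl⟩⟩, hc⟩ := @IsLocalization.surj _ _ (Submonoid.powers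
    (Away.isLocalizationElem (X_mem 1 R 0) (X_mem 1 R 1))) _ _ (awayMap (gr R) (X_mem 1 R 1) rfl).toAlgebra hloc z
  have hc' : z * r ^ n = l0 R c := by
    have h1 : z * l0 R ((Away.isLocalizationElem (X_mem 1 R 0) (X_mem 1 R 1)) ^ n) = l0 R c := hc
    rw [map_pow] at h1
    have h2 : l0 R (Away.isLocalizationElem (X_mem 1 R 0) (X_mem 1 R 1)) = r := by
      rw [hr]
      congr 1
      apply HomogeneousLocalization.val_injective
      rw [Away.isLocalizationElem, coord, Away.val_mk, Away.val_mk]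
      simp
    rwa [h2] at h1
  obtain ⟨P, rfl⟩ := ofPoly_surjective 1 R 0 c
  have hg : z = l0 R (ofPoly 1 R 0 P) * r' ^ n := by
    rw [← hc', mul_assoc, ← mul_pow, hrr, one_pow, mul_one]
  rw [hg]
  exact hS2 P n

/-- The two charts. -/
noncomputable abbrev D (i : Fin 2) : (Proj (gr R)).Opens := Proj.basicOpen (gr R) (X i)

theorem exists_sub_sections (z : Γ(Proj (gr R), D R 0 ⊓ D R 1)) :
    ∃ (a : Γ(Proj (gr R), D R 0)) (b : Γ(Proj (gr R), D R 1)),
      resR (inf_le_left : D R 0 ⊓ D R 1 ≤ D R 0) a - resR (inf_le_right : D R 0 ⊓ D R 1 ≤ D R 1) b = z := by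
  have hW : Proj.basicOpen (gr R) (X 0 * X 1) = D R 0 ⊓ D R 1 := Proj.basicOpen_mul _ _ _
  have hb := resR_bijective_of_eq (X := Proj (gr R)) hW.le hW.symm
  have : IsIso (Proj.awayToSection (gr R) (X 0 * X 1)) :=
    inferInstanceAs (IsIso (Proj.basicOpenIsoAway (gr R) (X 0 * X 1) (X_mul_mem R) (by norm_num)).hom)
  obtain ⟨y, hy⟩ := (ConcreteCategory.bijective_of_isIso (Proj.awayToSection (gr R) (X 0 * X 1))).2
    (resR hW.le z)
  obtain ⟨a, b, hab⟩ := exists_sub R y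
  refine ⟨(Proj.awayToSection (gr R) (X 0)).hom a, (Proj.awayToSection (gr R) (X 1)).hom b, hb.1 ?_⟩
  have e1 : ∀ (α : Γ(Proj (gr R), D R 0)) (β : Γ(Proj (gr R), D R 1)),
      resR hW.le (resR (inf_le_left : D R 0 ⊓ D R 1 ≤ D R 0) α -
        resR (inf_le_right : D R 0 ⊓ D R 1 ≤ D R 1) β) =
      resR (hW.le.trans inf_le_left) α - resR (hW.le.trans inf_le_right) β := by
    intro α β
    rw [map_sub, resR_resR, resR_resR]
  refine (e1 _ _).trans (Eq.trans ?_ hy)
  rw [← hab]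
  have h0 := congrArg (fun f => f.hom a) (Proj.awayMap_awayToSection (gr R) (X_mem 1 R 1)
    (rfl : (X 0 * X 1 : MvPolynomial (Fin 2) R) = X 0 * X 1))
  have h1 := congrArg (fun f => f.hom b) (Proj.awayMap_awayToSection (gr R) (X_mem 1 R 0)
    (mul_comm (X 0) (X 1) : (X 0 * X 1 : MvPolynomial (Fin 2) R) = X 1 * X 0))
  refine Eq.trans ?_ (map_sub _ _ _).symm
  exact congrArg₂ (· - ·) h0.symm h1.symm

theorem isAffineOpen_D (i : Fin 2) : IsAffineOpen (D R i) :=
  Proj.isAffineOpen_basicOpen (gr R) _ (X_mem 1 R i) Nat.one_pos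

theorem D_sup : D R 0 ⊔ D R 1 = ⊤ := by
  rw [eq_top_iff]
  intro x _
  obtain ⟨i, hi⟩ := Groth.Agent.PerfB.ProjSpaceCover.exists_mem_basicOpen_X 1 R x
  fin_cases i
  · exact Or.inl hi
  · exact Or.inr hi

/-- `H^1(P^1_R, O) = 0`. -/
theorem subsingleton_HH_one :
    Subsingleton (Coh.HH (CohB1.ProjSpace 1 R) (Coh.structureModule _) 1) := by
  refine Groth.Agent.CurvesC.TwoAffine.subsingleton_one (isAffineOpen_D R 0) (isAffineOpen_D R 1)
    (D_sup R) _ (Groth.Agent.PerfA.QCohSerre.isQCoh_unit _) ?_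
  intro z
  obtain ⟨a, b, hab⟩ := exists_sub_sections R z
  exact ⟨a, b, hab⟩

end Groth.Agent.Sga4B.P1Genus682
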