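import Groth.Agent.Pi1A.FEtAffine
import Groth.Agent.Pi1C.PurityQuot
import Groth.Agent.S0238
import Groth.Agent.S0261

/-!
Purity (essential surjectivity of restriction of finite etale covers to the punctured spectrum)
lifts along thickenings and along hypersurfaces `f` when the depth is at least three.
-/

set_option autoImplicit false
universe u

open AlgebraicGeometry CategoryTheory CategoryTheory.Limits

namespace Groth.Agent.Sga4B.PurityStep

open Groth.Agent.Pi1A.FEtAffine

/-- Lifting essential surjectivity along a square whose left side restricts fully faithfully. -/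
theorem essSurj_of_square {X X' U U' : Scheme.{u}} (j : U ⟶ X) (j' : U' ⟶ X') (π : X' ⟶ X)
    (q : U' ⟶ U) (w : q ≫ j = j' ≫ π) [(FEt.restrict q).Full] [(FEt.restrict q).Faithful]
    [(FEt.restrict π).EssSurj] [(FEt.restrict j').EssSurj] : (FEt.restrict j).EssSurj where
  mem_essImage V := by
    let V' := (FEt.restrict q).obj V
    let W' := (FEt.restrict j').objPreimage V'
    let eW' : (FEt.restrict j').obj W' ≅ V' := (FEt.restrict j').objObjPreimageIso V'
    let W := (FEt.restrict π).objPreimage W'
    let eW : (FEt.restrict π).obj W ≅ W' := (FEt.restrict π).objObjPreimageIso W'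
    refine ⟨W, ⟨(FEt.restrict q).preimageIso ?_⟩⟩
    exact (restrictComp q j).symm.app W ≪≫ (restrictCongr w).app W ≪≫ (restrictComp j' π).app W ≪≫
      (FEt.restrict j').mapIso eW ≪≫ eW'

variable {A B : Type u} [CommRing A] [IsLocalRing A] [CommRing B] [IsLocalRing B]

/-- Purity lifts along a nilpotent thickening of local rings. -/
theorem purityHolds_of_nilpotent (φ : A →+* B) (hφ : Function.Surjective φ)
    (hn : ∀ x, φ x = 0 → IsNilpotent x) (h : FEt.PurityHolds B) : FEt.PurityHolds A := by
  obtain ⟨e, he⟩ := Pi1C.PurityQuot.exists_iso_puncturedSpec A B φ hφ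
  let π := Spec.map (CommRingCat.ofHom φ)
  have hci : IsClosedImmersion π := IsClosedImmersion.spec_of_surjective _ hφ
  have hsur : Surjective π := by
    constructor
    intro x
    have h2 : x ∈ Set.range (PrimeSpectrum.comap φ) := by
      rw [range_comap_of_surjective _ φ hφ]
      intro y hy
      obtain ⟨n, hn⟩ := hn y hy
      exact x.isPrime.mem_of_pow_mem n (hn ▸ x.asIdeal.zero_mem)
    exact h2
  have h1 : (FEt.restrict π).IsEquivalence := S0238.result π
  have h3 : (FEt.restrict (pullback.fst (FEt.puncturedSpec A).ι π)).IsEquivalence := S0238.result _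
  have h4 : (FEt.restrict (FEt.puncturedSpec B).ι).EssSurj := h
  have h5 : (FEt.restrict (e.hom ≫ (FEt.puncturedSpec B).ι)).EssSurj :=
    Functor.essSurj_of_iso (restrictComp _ _).symm
  have h6 : (FEt.restrict (pullback.snd (FEt.puncturedSpec A).ι π)).EssSurj := by
    rw [← he]; exact h5
  exact essSurj_of_square _ (pullback.snd (FEt.puncturedSpec A).ι π) π
    (pullback.fst (FEt.puncturedSpec A).ι π) pullback.condition

/-- Purity lifts from a quotient `A / f` when `A` has depth at least three. -/
theorem purityHolds_of_quotient_span_singleton (A : Type u) [CommRing A] [IsLocalRing A]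
    [IsNoetherianRing A] (f : A) (hf : f ∈ IsLocalRing.maximalIdeal A)
    [IsLocalRing (A ⧸ Ideal.span {f})]
    (hd : (3 : ℕ∞) ≤ LocCoh.depth A A) (h : FEt.PurityHolds (A ⧸ Ideal.span {f})) :
    FEt.PurityHolds A := by
  constructor
  intro V
  obtain ⟨e, he⟩ := Pi1C.PurityQuot.exists_iso_puncturedSpec A (A ⧸ Ideal.span {f})
    (Ideal.Quotient.mk (Ideal.span {f})) Ideal.Quotient.mk_surjective
  have h4 : (FEt.restrict (FEt.puncturedSpec (A ⧸ Ideal.span {f})).ι).EssSurj := h
  have h5 : (FEt.restrict (e.hom ≫ (FEt.puncturedSpec (A ⧸ Ideal.span {f})).ι)).EssSurj :=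
    Functor.essSurj_of_iso (restrictComp _ _).symm
  have h6 : (FEt.restrict (pullback.snd (FEt.puncturedSpec A).ι
      (Spec.map (CommRingCat.ofHom (Ideal.Quotient.mk (Ideal.span {f})))))).EssSurj := by
    rw [← he]; exact h5
  obtain ⟨Y, hY⟩ := S0261.result A hd f hf V ⟨_, ⟨Functor.objObjPreimageIso _ _⟩⟩
  exact ⟨Y, hY⟩

end Groth.Agent.Sga4B.PurityStep
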