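import Groth.Prelude.Def_FEt
import Groth.Agent.Pi1A.DepthTwo
import Groth.Agent.Pi1A.DepthPunctured
import Groth.Agent.Pi1A.FEtHom
import Groth.Agent.Pi1A.FEtGlue

/-!
# Opens whose complement is locally cut out by a regular pair

`RegOpen U`: locally on `X` there are functions `a`, `b` forming a regular pair and invertible only
on `U`. Finite étale covers (and all sections of flat schemes) then extend uniquely (as morphisms)
from `U` to `X`.
-/

set_option autoImplicit false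
set_option linter.dupNamespace false
universe u

open CategoryTheory CategoryTheory.Limits TopologicalSpace Opposite AlgebraicGeometry

namespace Groth.Agent.Sga4B.RegOpen

open Pi1A.DepthTwo Pi1A.FEtHom Pi1A.DepthPunctured

/-- Locally, `U` contains `D(a) ∪ D(b)` for a regular pair `(a, b)`. -/
def RegOpen {X : Scheme.{u}} (U : X.Opens) : Prop :=
  ∀ x : X, ∃ (N : X.Opens) (_ : IsAffineOpen N) (_ : x ∈ N) (a b : Γ(X, N)), IsRegPair a b ∧
    X.basicOpen a ⊔ X.basicOpen b ≤ U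

theorem isRegPair_one {B : Type*} [CommRing B] : IsRegPair (1 : B) 1 :=
  ⟨fun b hb => by simpa using hb, fun b c _ => ⟨b, by simp⟩⟩

theorem RegOpen.mono {X : Scheme.{u}} {U U' : X.Opens} (h : RegOpen U) (hU : U ≤ U') :
    RegOpen U' := by
  intro x
  obtain ⟨N, hN, hx, a, b, hab, hle⟩ := h x
  exact ⟨N, hN, hx, a, b, hab, hle.trans hU⟩

/-- Construction from charts. -/
theorem RegOpen.of_charts {X : Scheme.{u}} {U : X.Opens}
    (h : ∀ x : X, x ∉ U → ∃ (P : Scheme.{u}) (i : P ⟶ X) (_ : IsOpenImmersion i) (y : P),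
      i y = x ∧ RegOpen (i ⁻¹ᵁ U)) : RegOpen U := by
  intro x
  by_cases hx : x ∈ U
  · obtain ⟨_, ⟨N, hN, rfl⟩, hxN, hNU⟩ := X.isBasis_affineOpens.exists_subset_of_mem_open hx U.isOpen
    exact ⟨N, hN, hxN, 1, 1, isRegPair_one,
      sup_le ((X.basicOpen_le _).trans hNU) ((X.basicOpen_le _).trans hNU)⟩
  · obtain ⟨P, i, _, y, rfl, hreg⟩ := h x hx
    obtain ⟨N, hN, hy, a, b, hab, hle⟩ := hreg y
    refine ⟨i ''ᵁ N, hN.image_of_isOpenImmersion i, ⟨y, hy, rfl⟩, (i.appIso N).inv a,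
      (i.appIso N).inv b, ?_, ?_⟩
    · refine hab.map_of_flat (i.appIso N).inv.hom (RingHom.Flat.of_bijective ?_)
      exact (ConcreteCategory.isIso_iff_bijective _).mp inferInstance
    · rw [← Scheme.image_basicOpen, ← Scheme.image_basicOpen]
      have h1 : P.basicOpen a ≤ i ⁻¹ᵁ U := le_sup_left.trans hle
      have h2 : P.basicOpen b ≤ i ⁻¹ᵁ U := le_sup_right.trans hle
      refine sup_le ?_ ?_
      · rintro _ ⟨y, hy, rfl⟩
        exact h1 hy
      · rintro _ ⟨y, hy, rfl⟩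
        exact h2 hy

/-- Hartogs: sections of flat schemes extend uniquely. -/
theorem RegOpen.bijective {X Z : Scheme.{u}} {U : X.Opens} (h : RegOpen U) (π : Z ⟶ X) [Flat π]
    (V : Z.Opens) :
    Function.Bijective (Z.presheaf.map (homOfLE (inf_le_left : V ⊓ π ⁻¹ᵁ U ≤ V)).op) := by
  refine bijective_res_of_locally _ _ fun z hz N' hzN' => ?_
  obtain ⟨N, hN, hx, a, b, hab, hle⟩ := h (π z)
  obtain ⟨_, ⟨B, hB, rfl⟩, hzB, hBN⟩ := Z.isBasis_affineOpens.exists_subset_of_mem_open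
    (show z ∈ N' ⊓ π ⁻¹ᵁ N from ⟨hzN', hx⟩) (N' ⊓ π ⁻¹ᵁ N).isOpen
  have hBN' : B ≤ N' ⊓ π ⁻¹ᵁ N := hBN
  refine ⟨B, hzB, hBN'.trans inf_le_left, ?_⟩
  refine bijective_res_of_flat π hN hab hB (hBN'.trans inf_le_right) inf_le_left ?_
  exact inf_le_inf_left B ((Opens.map π.base).monotone hle)

/-- Stability under flat base change. -/
theorem RegOpen.preimage {X Z : Scheme.{u}} {U : X.Opens} (h : RegOpen U) (π : Z ⟶ X) [Flat π] :
    RegOpen (π ⁻¹ᵁ U) := by
  intro z
  obtain ⟨N, hN, hx, a, b, hab, hle⟩ := h (π z)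
  obtain ⟨_, ⟨B, hB, rfl⟩, hzB, hBN⟩ := Z.isBasis_affineOpens.exists_subset_of_mem_open
    (show z ∈ π ⁻¹ᵁ N from hx) (π ⁻¹ᵁ N).isOpen
  have hBN' : B ≤ π ⁻¹ᵁ N := hBN
  have hb : ∀ a : Γ(X, N), Z.basicOpen ((π.appLE N B hBN').hom a) = B ⊓ π ⁻¹ᵁ (X.basicOpen a) := by
    intro a
    simp only [Scheme.Hom.appLE, CommRingCat.hom_comp, RingHom.comp_apply]
    erw [Scheme.basicOpen_res]
    rw [Scheme.preimage_basicOpen]
  refine ⟨B, hB, hzB, (π.appLE N B hBN').hom a, (π.appLE N B hBN').hom b,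
    hab.map_of_flat _ (π.flat_appLE hN hB hBN'), ?_⟩
  rw [hb, hb]
  exact sup_le (inf_le_right.trans ((Opens.map π.base).monotone (le_sup_left.trans hle)))
    (inf_le_right.trans ((Opens.map π.base).monotone (le_sup_right.trans hle)))

/-- Full faithfulness of restriction of finite étale covers. -/
theorem RegOpen.full_faithful {X : Scheme.{u}} {U : X.Opens} (h : RegOpen U) :
    (FEt.restrict U.ι).Full ∧ (FEt.restrict U.ι).Faithful := by
  refine full_faithful_of_bijective_app _ fun T V => ?_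
  rw [bijective_app_iff, proj_opensRange]
  have : Etale T.hom := T.prop.2
  exact h.bijective T.hom V

/-- Full faithfulness, for open immersions. -/
theorem full_faithful_of_opensRange {X Y : Scheme.{u}} (j : Y ⟶ X) [IsOpenImmersion j]
    (h : RegOpen j.opensRange) :
    (FEt.restrict j).Full ∧ (FEt.restrict j).Faithful := by
  have e : Arrow.mk j ≅ Arrow.mk j.opensRange.ι :=
    Arrow.isoMk j.isoOpensRange (Iso.refl _) (by simp)
  exact ⟨Pi1A.FEtGlue.full_of_arrowIso e h.full_faithful.1,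
    Pi1A.FEtGlue.faithful_of_arrowIso e h.full_faithful.2⟩

end Groth.Agent.Sga4B.RegOpen
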