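import Groth.Agent.Sga4B.DiagB1

/-!
# Multiplication by a relative class: general form

* `ext_cofan_zero`, `ext_cofan_lift` : `Ext^m(∐ Z_j, A) = ∏ Ext^m(Z_j, A)`.
* `bijective_comp_of_local` : `Φ : 𝒮 ⥤ 𝒴` exact, `g ∈ Ext^r(A, B)`.  If, locally on `T`, classes in
  `Ext^m(Φ T, A)` killed by `g` vanish, classes in `Ext^(m+r)(Φ T, B)` are divisible by `g`, and
  classes in `Ext^j(Φ T, B)`, `j < r`, vanish, then `x ↦ x g` is bijective
  `Ext^m(Φ T, A) → Ext^(m+r)(Φ T, B)` for all `m`, `T` (no condition on the degrees of `A`, `B`).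
* `bijective_comp_of_gen` : it is enough to check these conditions for a generating family of `T`'s.
-/

set_option autoImplicit false

universe w v v' u u' t

open CategoryTheory Limits Abelian

namespace Groth.Agent.Sga4B.RelMul916

open Groth.Agent.Sga4B.DiagB1

section Cofan

variable {𝒴 : Type u'} [Category.{v'} 𝒴] [Abelian 𝒴] [HasExt.{w} 𝒴] [EnoughInjectives 𝒴]
  {J : Type t} {Z : J → 𝒴} (c : Cofan Z) (hc : IsColimit c)

include hc in
theorem ext_cofan (m : ℕ) :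
    (∀ (A : 𝒴) (x : Ext.{w} c.pt A m),
      (∀ j, (Ext.mk₀ (c.inj j)).comp x (zero_add m) = 0) → x = 0) ∧
    (∀ (A : 𝒴) (y : ∀ j, Ext.{w} (Z j) A m), ∃ x : Ext.{w} c.pt A m,
      ∀ j, (Ext.mk₀ (c.inj j)).comp x (zero_add m) = y j) := by
  induction m with
  | zero =>
    refine ⟨fun A x hx => ?_, fun A y => ?_⟩
    · obtain ⟨f, rfl⟩ := (Ext.mk₀_bijective _ _).2 x
      have : f = 0 := by
        refine Cofan.IsColimit.hom_ext hc _ _ fun j => ?_
        have h := hx j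
        rw [Ext.mk₀_comp_mk₀, ← Ext.mk₀_zero] at h
        rw [(Ext.mk₀_bijective _ _).1 h, comp_zero]
      rw [this, Ext.mk₀_zero]
    · choose f hf using fun j => (Ext.mk₀_bijective _ _).2 (y j)
      refine ⟨Ext.mk₀ (Cofan.IsColimit.desc hc f), fun j => ?_⟩
      rw [Ext.mk₀_comp_mk₀, Cofan.IsColimit.fac, hf]
  | succ m ih =>
    have key : ∀ A : 𝒴, ∃ (S : ShortComplex 𝒴) (_ : S.ShortExact), S.X₁ = A ∧ Injective S.X₂ := by
      intro A
      let I : InjectivePresentation A := Classical.arbitrary _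
      exact ⟨ShortComplex.mk _ _ (cokernel.condition I.f),
        { exact := ShortComplex.exact_cokernel I.f }, rfl, I.injective⟩
    refine ⟨fun A x hx => ?_, fun A y => ?_⟩
    · obtain ⟨S, hS, rfl, hI⟩ := key A
      obtain ⟨y, rfl⟩ := Ext.covariant_sequence_exact₁ _ hS x (Ext.eq_zero_of_injective _) rfl
      have h1 : ∀ j, ∃ z : Ext.{w} (Z j) S.X₂ m, z.comp (Ext.mk₀ S.g) (add_zero m) =
          (Ext.mk₀ (c.inj j)).comp y (zero_add m) := by
        intro j
        refine Ext.covariant_sequence_exact₃ _ hS _ rfl ?_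
        rw [Ext.comp_assoc _ _ _ (zero_add m) rfl (by omega)]
        exact hx j
      choose z hz using h1
      obtain ⟨z', hz'⟩ := ih.2 _ z
      have h2 : y = z'.comp (Ext.mk₀ S.g) (add_zero m) := by
        rw [← sub_eq_zero]
        refine ih.1 _ _ fun j => ?_
        rw [sub_eq_add_neg, Ext.comp_add, Ext.comp_neg,
          ← Ext.comp_assoc _ _ _ (zero_add m) (add_zero m) (by omega), hz' j,
          hz j, add_neg_cancel]
      rw [h2, Ext.comp_assoc _ _ _ (add_zero m) (zero_add 1) (by omega), hS.comp_extClass,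
        Ext.comp_zero]
    · obtain ⟨S, hS, rfl, hI⟩ := key A
      have h1 : ∀ j, ∃ z : Ext.{w} (Z j) S.X₃ m, z.comp hS.extClass rfl = y j :=
        fun j => Ext.covariant_sequence_exact₁ _ hS (y j) (Ext.eq_zero_of_injective _) rfl
      choose z hz using h1
      obtain ⟨z', hz'⟩ := ih.2 _ z
      refine ⟨z'.comp hS.extClass rfl, fun j => ?_⟩
      rw [← Ext.comp_assoc _ _ _ (zero_add m) rfl (by omega), hz' j, hz j]

end Cofan

variable {𝒮 : Type u} [Category.{v} 𝒮] [Abelian 𝒮] {𝒴 : Type u'} [Category.{v'} 𝒴] [Abelian 𝒴]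
  [HasExt.{w} 𝒴] (Φ : 𝒮 ⥤ 𝒴)

section Local

variable [Φ.Additive] [PreservesFiniteLimits Φ] [PreservesFiniteColimits Φ]

/-- **Multiplication by a relative class is bijective if it is so locally.** -/
theorem bijective_comp_of_local {A B : 𝒴} {r : ℕ} (g : Ext.{w} A B r)
    (hI : ∀ (m : ℕ) (T : 𝒮) (x : Ext.{w} (Φ.obj T) A m), x.comp g rfl = 0 →
      ∃ (T' : 𝒮) (p : T' ⟶ T) (_ : Epi p), res Φ p x = 0)
    (hE : ∀ (m : ℕ) (T : 𝒮) (y : Ext.{w} (Φ.obj T) B (m + r)),
      ∃ (T' : 𝒮) (p : T' ⟶ T) (_ : Epi p) (x : Ext.{w} (Φ.obj T') A m),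
        res Φ p y = x.comp g rfl)
    (hV : ∀ j, j < r → LocZero.{w} Φ B j)
    (m : ℕ) (T : 𝒮) :
    Function.Bijective (fun x : Ext.{w} (Φ.obj T) A m => x.comp g (rfl : m + r = m + r)) := by
  have hB0 := eq_zero_of_locZero Φ (B := B) (r := r) hV
  -- injectivity for all `T` in a given degree, from a kernel statement
  have hinj_of : ∀ (m : ℕ), (∀ (T : 𝒮) (x : Ext.{w} (Φ.obj T) A m), x.comp g rfl = 0 → x = 0) →
      ∀ T, Function.Injective (fun x : Ext.{w} (Φ.obj T) A m => x.comp g (rfl : m + r = m + r)) := by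
    intro m h T x x' hxx'
    rw [← sub_eq_zero]
    apply h
    rw [sub_eq_add_neg, Ext.add_comp, Ext.neg_comp]
    change x.comp g rfl = x'.comp g rfl at hxx'
    rw [hxx', add_neg_cancel]
  -- the surjectivity, from the injectivity in the same degree and a lifting of kernel classes
  have hsurj_of : ∀ (m : ℕ),
      (∀ (T : 𝒮) (x : Ext.{w} (Φ.obj T) A m), x.comp g rfl = 0 → x = 0) →
      (∀ (T T' : 𝒮) (p : T' ⟶ T) (_ : Epi p) (y : Ext.{w} (Φ.obj T) B (m + r)),
        res Φ p y = 0 → ∃ x : Ext.{w} (Φ.obj T) A m, x.comp g rfl = y) →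
      ∀ T, Function.Surjective
        (fun x : Ext.{w} (Φ.obj T) A m => x.comp g (rfl : m + r = m + r)) := by
    intro m h0 hk T y
    obtain ⟨T', p, hp, x, hx⟩ := hE m T y
    have h1 : res Φ (kernel.ι p) x = 0 := by
      apply h0
      rw [← res_comp, ← hx, res_res, kernel.condition]
      change (Ext.mk₀ (Φ.map 0)).comp y (zero_add _) = 0
      rw [Functor.map_zero, Ext.mk₀_zero, Ext.zero_comp]
    obtain ⟨x₀, hx₀⟩ : ∃ x₀ : Ext.{w} (Φ.obj T) A m, res Φ p x₀ = x :=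
      Ext.contravariant_sequence_exact₂ (kerSeq_map_shortExact Φ p) A x h1
    obtain ⟨x₁, hx₁⟩ := hk T T' p hp (y - x₀.comp g rfl) (by
      rw [res_sub, res_comp, hx₀, hx, sub_self])
    refine ⟨x₁ + x₀, ?_⟩
    change (x₁ + x₀).comp g rfl = y
    rw [Ext.add_comp, hx₁, sub_add_cancel]
  induction m generalizing T with
  | zero =>
    have h0 : ∀ (T : 𝒮) (x : Ext.{w} (Φ.obj T) A 0), x.comp g rfl = 0 → x = 0 := by
      intro T x hx
      obtain ⟨T', p, hp, h⟩ := hI 0 T x hx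
      exact eq_zero_of_res_zero Φ p x h
    refine ⟨hinj_of 0 h0 T, hsurj_of 0 h0 ?_ T⟩
    intro T T' p hp y hy
    have hy0 : y = 0 := by
      rcases Nat.eq_zero_or_pos r with hr | hr
      · subst hr
        exact eq_zero_of_res_zero Φ p y hy
      · obtain ⟨r', rfl⟩ : ∃ r', r = r' + 1 := ⟨r - 1, by omega⟩
        obtain ⟨z, hz⟩ := exists_delta Φ p (by omega : 1 + r' = 0 + (r' + 1)) y hy
        rw [hB0 r' (by omega) _ z, Ext.comp_zero] at hz
        exact hz.symm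
    exact ⟨0, by rw [hy0, Ext.zero_comp]⟩
  | succ m ih =>
    have h0 : ∀ (T : 𝒮) (x : Ext.{w} (Φ.obj T) A (m + 1)), x.comp g rfl = 0 → x = 0 := by
      intro T x hx
      obtain ⟨T', p, hp, hpx⟩ := hI (m + 1) T x hx
      obtain ⟨x₁, hx₁⟩ := exists_delta Φ p (add_comm 1 m) x hpx
      have h1 : (delta Φ p).comp (x₁.comp g (rfl : m + r = m + r))
          (by omega : 1 + (m + r) = m + 1 + r) = 0 := by
        rw [← Ext.comp_assoc (delta Φ p) x₁ g (add_comm 1 m) rfl (by omega), hx₁]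
        exact hx
      obtain ⟨z, hz⟩ := exists_res Φ p _ _ h1
      obtain ⟨z₁, hz₁⟩ := (ih T').2 z
      change z₁.comp g rfl = z at hz₁
      have h2 : res Φ (kernel.ι p) z₁ = x₁ := by
        apply (ih _).1
        change (res Φ (kernel.ι p) z₁).comp g rfl = x₁.comp g rfl
        rw [← res_comp, hz₁, hz]
      rw [← hx₁, ← h2, delta_res]
    refine ⟨hinj_of _ h0 T, hsurj_of _ h0 ?_ T⟩
    intro T T' p hp y hy
    obtain ⟨y₁, hy₁⟩ := exists_delta Φ p (by omega : 1 + (m + r) = m + 1 + r) y hy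
    obtain ⟨x₁, hx₁⟩ := (ih (kernel p)).2 y₁
    change x₁.comp g rfl = y₁ at hx₁
    refine ⟨(delta Φ p).comp x₁ (add_comm 1 m), ?_⟩
    rw [Ext.comp_assoc _ _ _ (add_comm 1 m) rfl (by omega), hx₁, hy₁]

end Local

section Gen

variable {I : Type t} (P : I → 𝒮)

/-- The morphisms `P_j ⟶ P_i` with a given property are jointly epimorphic. -/
def Joint (i : I) (Q : ∀ j, (P j ⟶ P i) → Prop) : Prop :=
  ∀ (G : 𝒮) (f : P i ⟶ G), (∀ (j : I) (b : P j ⟶ P i), Q j b → b ≫ f = 0) → f = 0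

/-- The family separates morphisms. -/
def Sep : Prop := ∀ (T G : 𝒮) (f : T ⟶ G), (∀ (i : I) (a : P i ⟶ T), a ≫ f = 0) → f = 0

variable {P}

/-- Local solutions on generators glue to a solution on an epimorphism `T' ⟶ T`. -/
theorem exists_epi [HasCoproducts.{max t v} 𝒮] (hP : Sep P) (T : 𝒮) (Q : ∀ j, (P j ⟶ T) → Prop)
    (h : ∀ (i : I) (a : P i ⟶ T), Joint P i (fun j b => Q j (b ≫ a))) :
    Epi (Sigma.desc (fun c : {c : Σ j, P j ⟶ T // Q c.1 c.2} => c.1.2)) := by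
  refine Preadditive.epi_of_cancel_zero _ fun {G} f hf => ?_
  refine hP _ _ f fun i a => h i a G (a ≫ f) fun j b hb => ?_
  have h1 : Sigma.ι (fun c : {c : Σ j, P j ⟶ T // Q c.1 c.2} => P c.1.1) ⟨⟨j, b ≫ a⟩, hb⟩ ≫
    Sigma.desc (fun c : {c : Σ j, P j ⟶ T // Q c.1 c.2} => c.1.2) = b ≫ a := by
    rw [Sigma.ι_desc]
  rw [← Category.assoc, ← h1, Category.assoc, hf, comp_zero]

variable [EnoughInjectives 𝒴] [HasCoproducts.{max t v} 𝒮]
  [∀ J : Type (max t v), PreservesColimitsOfShape (Discrete J) Φ]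

section

variable {J : Type (max t v)} (Z : J → 𝒮)

omit [Abelian 𝒮] in
theorem ext_sigma_zero {A : 𝒴} {m : ℕ} (x : Ext.{w} (Φ.obj (∐ Z)) A m)
    (h : ∀ j, res Φ (Sigma.ι Z j) x = 0) : x = 0 :=
  (ext_cofan.{w} (Cofan.mk (Φ.obj (∐ Z)) fun j => Φ.map (Sigma.ι Z j))
    (isColimitOfHasCoproductOfPreservesColimit Φ Z) m).1 A x h

omit [Abelian 𝒮] in
theorem ext_sigma_lift {A : 𝒴} {m : ℕ} (y : ∀ j, Ext.{w} (Φ.obj (Z j)) A m) :
    ∃ x : Ext.{w} (Φ.obj (∐ Z)) A m, ∀ j, res Φ (Sigma.ι Z j) x = y j :=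
  (ext_cofan.{w} (Cofan.mk (Φ.obj (∐ Z)) fun j => Φ.map (Sigma.ι Z j))
    (isColimitOfHasCoproductOfPreservesColimit Φ Z) m).2 A y

end

variable [Φ.Additive] [PreservesFiniteLimits Φ] [PreservesFiniteColimits Φ]

/-- **Multiplication by a relative class is bijective if it is so locally on generators.** -/
theorem bijective_comp_of_gen (hP : Sep P) {A B : 𝒴} {r : ℕ} (g : Ext.{w} A B r)
    (hI : ∀ (m : ℕ) (i : I) (x : Ext.{w} (Φ.obj (P i)) A m), x.comp g rfl = 0 →
      Joint P i (fun _ b => res Φ b x = 0))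
    (hE : ∀ (m : ℕ) (i : I) (y : Ext.{w} (Φ.obj (P i)) B (m + r)),
      Joint P i (fun j b => ∃ x : Ext.{w} (Φ.obj (P j)) A m, res Φ b y = x.comp g rfl))
    (hV : ∀ (j : ℕ), j < r → ∀ (i : I) (y : Ext.{w} (Φ.obj (P i)) B j),
      Joint P i (fun _ b => res Φ b y = 0)) (m : ℕ) (T : 𝒮) :
    Function.Bijective (fun x : Ext.{w} (Φ.obj T) A m => x.comp g (rfl : m + r = m + r)) := by
  refine bijective_comp_of_local Φ g ?_ ?_ ?_ m T
  · intro m T x hx
    refine ⟨_, _, exists_epi hP T (fun j c => res Φ c x = 0) fun i a => ?_, ?_⟩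
    · have h := hI m i (res Φ a x) (by rw [← res_comp, hx, res_zero])
      simpa only [res_res] using h
    · refine ext_sigma_zero Φ _ _ fun c => ?_
      rw [res_res, Sigma.ι_desc]
      exact c.2
  · intro m T y
    have he := exists_epi hP T (fun j c => ∃ x : Ext.{w} (Φ.obj (P j)) A m,
      res Φ c y = x.comp g rfl) fun i a => by simpa only [res_res] using hE m i (res Φ a y)
    choose x hx using fun c : {c : Σ j, P j ⟶ T // ∃ x : Ext.{w} (Φ.obj (P c.1)) A m,
      res Φ c.2 y = x.comp g rfl} => c.2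
    obtain ⟨x', hx'⟩ := ext_sigma_lift Φ _ x
    refine ⟨_, _, he, x', ?_⟩
    rw [← sub_eq_zero]
    refine ext_sigma_zero Φ _ _ fun c => ?_
    rw [res_sub, res_res, Sigma.ι_desc, res_comp, hx', hx, sub_self]
  · intro j hj T y
    refine ⟨_, _, exists_epi hP T (fun _ c => res Φ c y = 0) fun i a => ?_, ?_⟩
    · simpa only [res_res] using hV j hj i (res Φ a y)
    · refine ext_sigma_zero Φ _ _ fun c => ?_
      rw [res_res, Sigma.ι_desc]
      exact c.2

/-- Vanishing is local on generators. -/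
theorem eq_zero_of_gen (hP : Sep P) {B : 𝒴} {r : ℕ}
    (hV : ∀ (j : ℕ), j < r → ∀ (i : I) (y : Ext.{w} (Φ.obj (P i)) B j),
      Joint P i (fun _ b => res Φ b y = 0)) (j : ℕ) (hj : j < r) (T : 𝒮)
    (y : Ext.{w} (Φ.obj T) B j) : y = 0 := by
  refine eq_zero_of_locZero Φ (r := r) (fun j hj T y => ?_) j hj T y
  refine ⟨_, _, exists_epi hP T (fun _ c => res Φ c y = 0) fun i a => ?_, ?_⟩
  · simpa only [res_res] using hV j hj i (res Φ a y)
  · refine ext_sigma_zero Φ _ _ fun c => ?_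
    rw [res_res, Sigma.ι_desc]
    exact c.2

end Gen

end Groth.Agent.Sga4B.RelMul916
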