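/-
Sections of `R^q f_* F` on an etale `V → Y` attached to classes in `Ext^q(Z[V ×_Y X], F)`.
-/
import Groth.Agent.CohtopB.RPushExt
import Groth.Agent.EtpbcA.CdDiesEt

set_option autoImplicit false

universe u

open CategoryTheory CategoryTheory.Limits AlgebraicGeometry Opposite CategoryTheory.Abelian

namespace Groth.Agent.Sga4B.RpushSec930

open Groth.Agent.CohtopB.RPushExt Groth.Agent.CohtopB.ExtRD Groth.Agent.CurvesA
open Groth.Agent.EtpbcA.CdDiesEt

theorem hasSheafify {X : Scheme.{u}} :
    HasSheafify X.smallEtaleTopology AddCommGrpCat.{u + 1} := inferInstance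

attribute [local instance 3000] hasSheafify

theorem hasExt {X : Scheme.{u}} : HasExt.{u + 1} (EtCoh.Ab X) := inferInstance

attribute [local instance 3000] hasExt

/-- `Hom(Z[U], F) = F(U)`, naturally in both variables. -/
noncomputable def homPreIso (X : Scheme.{u}) :
    homPre (Zf X) ≅ sheafToPresheaf X.smallEtaleTopology AddCommGrpCat.{u + 1} :=
  NatIso.ofComponents (fun F => NatIso.ofComponents
    (fun U => (SiteZU.evEquiv.{u + 1} U.unop F).toAddCommGrpIso) (fun {U V} f => by
      ext x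
      exact SiteZU.ev_map_comp.{u + 1} f.unop (F := F) x)) (fun {F G} g => by
      ext U x
      rfl)

variable {X Y : Scheme.{u}} (f : X ⟶ Y) (q : ℕ)

/-- `R^q f_* F` is the sheaf associated to `V ↦ Ext^q(Z[V ×_Y X], F)`. -/
noncomputable def rIso : EtCoh.Rpush f q ≅
    extPre (Zf X) q ⋙ preSh Y.smallEtaleTopology (EtCoh.bc f) :=
  rpushIso X.smallEtaleTopology Y.smallEtaleTopology (EtCoh.bc f) (Zf X) (homPreIso X) q

variable (F : EtCoh.Ab X)

/-- From the presheaf `V ↦ Ext^q(Z[V ×_Y X], F)` to `R^q f_* F`. -/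
noncomputable def natSec : (EtCoh.bc f).op ⋙ (extPre (Zf X) q).obj F ⟶
    ((EtCoh.Rpush f q).obj F).obj :=
  toSheafify Y.smallEtaleTopology _ ≫ ((rIso f q).inv.app F).hom

/-- The section of `R^q f_* F` over `V` attached to a class in `Ext^q(Z[V ×_Y X], F)`. -/
noncomputable def sec (V : Y.Etale) :
    Ext.{u + 1} ((Zf X).obj ((EtCoh.bc f).obj V)) F q →+ EtCoh.sect ((EtCoh.Rpush f q).obj F) V :=
  ((natSec f q F).app (op V)).hom

theorem sec_res {V W : Y.Etale} (g : W ⟶ V)
    (x : Ext.{u + 1} ((Zf X).obj ((EtCoh.bc f).obj V)) F q) :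
    ((EtCoh.Rpush f q).obj F).obj.map g.op (sec f q F V x) =
      sec f q F W ((Ext.mk₀ ((Zf X).map ((EtCoh.bc f).map g))).comp x (zero_add q)) := by
  have h := (natSec f q F).naturality g.op
  have h1 := ConcreteCategory.congr_hom h x
  exact h1.symm

/-- The section attached to `x` vanishes iff `x` is locally zero. -/
theorem exists_sieve_of_sec_eq_zero {V : Y.Etale}
    (x : Ext.{u + 1} ((Zf X).obj ((EtCoh.bc f).obj V)) F q) (hx : sec f q F V x = 0) :
    ∃ S ∈ Y.smallEtaleTopology V, ∀ (W : Y.Etale) (g : W ⟶ V), S g →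
      (Ext.mk₀ ((Zf X).map ((EtCoh.bc f).map g))).comp x (zero_add q) = 0 := by
  have h1 : (toSheafify Y.smallEtaleTopology
      ((EtCoh.bc f).op ⋙ (extPre (Zf X) q).obj F)).app (op V) x = 0 := by
    have h2 : Function.Injective (((rIso f q).inv.app F).hom.app (op V)) := by
      have : IsIso (((rIso f q).inv.app F).hom.app (op V)) := by
        have h3 : IsIso ((sheafToPresheaf _ _).map ((rIso f q).inv.app F)) := inferInstance
        exact inferInstanceAs (IsIso (((sheafToPresheaf _ _).map ((rIso f q).inv.app F)).app (op V)))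
      exact ((ConcreteCategory.isIso_iff_bijective _).1 this).1
    apply h2
    rw [map_zero]
    exact hx
  have h4 : Presheaf.IsLocallyInjective Y.smallEtaleTopology
      (toSheafify Y.smallEtaleTopology ((EtCoh.bc f).op ⋙ (extPre (Zf X) q).obj F)) :=
    inferInstance
  have h5 := Presheaf.equalizerSieve_mem Y.smallEtaleTopology
    (toSheafify Y.smallEtaleTopology ((EtCoh.bc f).op ⋙ (extPre (Zf X) q).obj F)) (X := op V)
    x 0 (by rw [map_zero]; exact h1)
  refine ⟨_, h5, fun W g hg => ?_⟩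
  have h6 : ((EtCoh.bc f).op ⋙ (extPre (Zf X) q).obj F).map g.op x =
    ((EtCoh.bc f).op ⋙ (extPre (Zf X) q).obj F).map g.op 0 := hg
  rw [map_zero] at h6
  exact h6

/-- Every section of `R^q f_* F` comes locally from a class. -/
theorem exists_sieve_sec_eq {V : Y.Etale} (s : EtCoh.sect ((EtCoh.Rpush f q).obj F) V) :
    ∃ S ∈ Y.smallEtaleTopology V, ∀ (W : Y.Etale) (g : W ⟶ V), S g →
      ∃ x, sec f q F W x = ((EtCoh.Rpush f q).obj F).obj.map g.op s := by
  have h4 : Presheaf.IsLocallySurjective Y.smallEtaleTopology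
      (toSheafify Y.smallEtaleTopology ((EtCoh.bc f).op ⋙ (extPre (Zf X) q).obj F)) :=
    inferInstance
  have h5 := Presheaf.imageSieve_mem Y.smallEtaleTopology
    (toSheafify Y.smallEtaleTopology ((EtCoh.bc f).op ⋙ (extPre (Zf X) q).obj F)) (U := op V)
    (((rIso f q).hom.app F).hom.app (op V) s)
  refine ⟨_, h5, fun W g hg => ?_⟩
  obtain ⟨x, hx⟩ := hg
  refine ⟨x, ?_⟩
  have h1 : sec f q F W x = ((rIso f q).inv.app F).hom.app (op W)
    ((toSheafify Y.smallEtaleTopology
      ((EtCoh.bc f).op ⋙ (extPre (Zf X) q).obj F)).app (op W) x) := rfl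
  rw [h1]
  have h2 := congrArg (((rIso f q).inv.app F).hom.app (op W)) hx
  refine h2.trans ?_
  have h3 := ConcreteCategory.congr_hom (((rIso f q).inv.app F).hom.naturality g.op)
    (((rIso f q).hom.app F).hom.app (op V) s)
  refine h3.trans ?_
  have h6 : ((rIso f q).inv.app F).hom.app (op V) (((rIso f q).hom.app F).hom.app (op V) s) = s := by
    have h7 := congrArg (fun a => a.hom.app (op V) s) ((rIso f q).hom_inv_id_app F)
    exact h7
  exact congrArg (((EtCoh.Rpush f q).obj F).obj.map g.op) h6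

/-- Naturality of `sec` in the sheaf. -/
theorem map_sec {G : EtCoh.Ab X} (φ : F ⟶ G) {V : Y.Etale}
    (x : Ext.{u + 1} ((Zf X).obj ((EtCoh.bc f).obj V)) F q) :
    ((EtCoh.Rpush f q).map φ).hom.app (op V) (sec f q F V x) =
      sec f q G V (x.comp (Ext.mk₀ φ) (add_zero q)) := by
  have h1 := congrArg (fun a => a.hom.app (op V) ((toSheafify Y.smallEtaleTopology
      ((EtCoh.bc f).op ⋙ (extPre (Zf X) q).obj F)).app (op V) x))
    ((rIso f q).inv.naturality φ)
  refine h1.symm.trans ?_
  have h2 := congrArg (fun a => a.app (op V) x) (toSheafify_naturality Y.smallEtaleTopology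
    (Functor.whiskerLeft (EtCoh.bc f).op ((extPre (Zf X) q).map φ)))
  exact congrArg (((rIso f q).inv.app G).hom.app (op V)) h2.symm

end Groth.Agent.Sga4B.RpushSec930
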