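import Groth.Agent.Sga4B.EUDisj
import Groth.Agent.Sga4B.BCDelta0
import Groth.Agent.Sga4B.AbsHex

/-!
# The natural map `E_V (R^q p_* F) ⟶ R^q p_* (E_{p⁻¹V} F)`

* `thp p V F : E_V (p_* F) ⟶ p_* (E_{p⁻¹V} F)` with section formula `thp_sec`;
* `TH p V` : its extension to a morphism of delta functors; `thq p V q`;
* `thq_naturality` in `V`.
-/

set_option autoImplicit false
universe u v₁ v₂ v₃ u₁ u₂ u₃

open CategoryTheory CategoryTheory.Limits AlgebraicGeometry Opposite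

namespace Groth.Agent.Sga4B.ThetaE

open Groth.Agent.Etcore.PullCoh Groth.Agent.Sga4B.EUFun Groth.Agent.Sga4B.EUConst
  Groth.Agent.Sga4B.DirSum Groth.Agent.EtpbcA.JZero Groth.Agent.Sga4B.DualShape
  Groth.Agent.Sga4B.EUDisj Groth.Agent.Sga4B.BCDelta Groth.Agent.Localalg.DeltaFun

open scoped Groth.Agent.Sga4B.EtAbInst

variable {X Y : Scheme.{u}} (p : X ⟶ Y)

/-- The section-level map defining `thp`. -/
noncomputable def thHom (V : Y.Etale) (F : EtCoh.Ab X) {W : Y.Etale} (a : W ⟶ V) :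
    EtCoh.sect ((EtCoh.push p).obj F) W →+
      EtCoh.sect ((EtCoh.push p).obj ((EU ((EtCoh.bc p).obj V)).obj F)) W :=
  AddMonoidHom.mk' (fun s => sec (Y := X) (U := (EtCoh.bc p).obj V) (W := (EtCoh.bc p).obj W)
      ((EtCoh.bc p).map a) (F := F) s)
    (fun s t => sec_add (Y := X) (U := (EtCoh.bc p).obj V) (W := (EtCoh.bc p).obj W)
      ((EtCoh.bc p).map a) (F := F) s t)

theorem thHom_compat (V : Y.Etale) (F : EtCoh.Ab X) {W W' : Y.Etale} (a : W ⟶ V) (b : W' ⟶ W)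
    (s : EtCoh.sect ((EtCoh.push p).obj F) W) :
    thHom p V F (b ≫ a) (((EtCoh.push p).obj F).obj.map b.op s) =
      ((EtCoh.push p).obj ((EU ((EtCoh.bc p).obj V)).obj F)).obj.map b.op (thHom p V F a s) := by
  have h := sec_res (Y := X) (U := (EtCoh.bc p).obj V) ((EtCoh.bc p).map a) ((EtCoh.bc p).map b)
    (F := F) s
  rw [← Functor.map_comp] at h
  exact h.symm

/-- `E_V (p_* F) ⟶ p_* (E_{p⁻¹V} F)`. -/
noncomputable def thp (V : Y.Etale) (F : EtCoh.Ab X) :
    (EU V).obj ((EtCoh.push p).obj F) ⟶ (EtCoh.push p).obj ((EU ((EtCoh.bc p).obj V)).obj F) :=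
  desc (fun {_} a => thHom p V F a) (fun {_ _} a b s => thHom_compat p V F a b s)

theorem thp_sec' (V : Y.Etale) (F : EtCoh.Ab X) {W : Y.Etale} (a : W ⟶ V)
    (s : EtCoh.sect ((EtCoh.push p).obj F) W) :
    (thp p V F).hom.app (op W) (sec a s) = thHom p V F a s :=
  desc_sec (fun {_} a => thHom p V F a) (fun {_ _} a b s => thHom_compat p V F a b s) a s

theorem thp_sec (V : Y.Etale) (F : EtCoh.Ab X) {W : Y.Etale} (a : W ⟶ V)
    (s : EtCoh.sect F ((EtCoh.bc p).obj W)) :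
    (thp p V F).hom.app (op W) (sec (F := (EtCoh.push p).obj F) a s) =
      sec ((EtCoh.bc p).map a) s :=
  thp_sec' p V F a s

theorem thp_naturality (V : Y.Etale) {F G : EtCoh.Ab X} (φ : F ⟶ G) :
    (EU V).map ((EtCoh.push p).map φ) ≫ thp p V G =
      thp p V F ≫ (EtCoh.push p).map ((EU ((EtCoh.bc p).obj V)).map φ) := by
  apply EUFun.hom_ext
  intro W a s
  rw [map_comp_app, map_comp_app, sec_map]
  refine (thp_sec p V G a _).trans ?_
  refine Eq.trans ?_ (congrArg _ (thp_sec p V F a s).symm)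
  exact (sec_map (Y := X) ((EtCoh.bc p).map a) φ s).symm

theorem thp_naturality' {V V' : Y.Etale} (g : V ⟶ V') (F : EtCoh.Ab X) :
    (EUmap g).app ((EtCoh.push p).obj F) ≫ thp p V' F =
      thp p V F ≫ (EtCoh.push p).map ((EUmap ((EtCoh.bc p).map g)).app F) := by
  apply EUFun.hom_ext
  intro W a s
  rw [map_comp_app, map_comp_app, EUmap_sec]
  refine (thp_sec p V' F _ _).trans ?_
  refine Eq.trans ?_ (congrArg _ (thp_sec p V F a s).symm)
  refine Eq.trans ?_ (EUmap_sec (Y := X) ((EtCoh.bc p).map g) ((EtCoh.bc p).map a) s).symm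
  rw [Functor.map_comp]

/-- Degree zero. -/
noncomputable def th0 (V : Y.Etale) (F : EtCoh.Ab X) :
    (EU V).obj ((EtCoh.Rpush p 0).obj F) ⟶
      (EtCoh.Rpush p 0).obj ((EU ((EtCoh.bc p).obj V)).obj F) :=
  (EU V).map ((zeroIso p).hom.app F) ≫ thp p V F ≫
    (zeroIso p).inv.app ((EU ((EtCoh.bc p).obj V)).obj F)

theorem th0_naturality (V : Y.Etale) {F G : EtCoh.Ab X} (φ : F ⟶ G) :
    (EU V).map ((EtCoh.Rpush p 0).map φ) ≫ th0 p V G =
      th0 p V F ≫ (EtCoh.Rpush p 0).map ((EU ((EtCoh.bc p).obj V)).map φ) := by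
  have h1 := (zeroIso p).hom.naturality φ
  have h2 := (zeroIso p).inv.naturality ((EU ((EtCoh.bc p).obj V)).map φ)
  have h3 := thp_naturality p V φ
  unfold th0
  rw [← Category.assoc, ← Functor.map_comp, h1, Functor.map_comp, Category.assoc, Category.assoc,
    Category.assoc, ← h2, ← Category.assoc (thp p V F), ← h3, Category.assoc]

/-- Degree zero, as a natural transformation. -/
noncomputable def th0N (V : Y.Etale) :
    EtCoh.Rpush p 0 ⋙ EU V ⟶ EU ((EtCoh.bc p).obj V) ⋙ EtCoh.Rpush p 0 where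
  app F := th0 p V F
  naturality _ _ φ := th0_naturality p V φ

theorem sD_eff (V : Y.Etale) : ((RpushD p).postcomp (EU V)).Effaceable :=
  fun J _ n => (EU V).map_isZero (RpushD_eff p J n)

theorem exists_TH (V : Y.Etale) :
    ∃ Φ : DeltaHom ((RpushD p).postcomp (EU V)) ((RpushD p).precomp (EU ((EtCoh.bc p).obj V))),
      Φ.app 0 = th0N p V :=
  exists_deltaHom ((RpushD p).postcomp (EU V)) ((RpushD p).precomp (EU ((EtCoh.bc p).obj V)))
    (sD_eff p V) (th0N p V)

/-- The morphism of delta functors `E_V R^q p_* ⟶ R^q p_* E_{p⁻¹V}`. -/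
noncomputable def TH (V : Y.Etale) :
    DeltaHom ((RpushD p).postcomp (EU V)) ((RpushD p).precomp (EU ((EtCoh.bc p).obj V))) :=
  (exists_TH p V).choose

theorem TH_app_zero (V : Y.Etale) : (TH p V).app 0 = th0N p V :=
  (exists_TH p V).choose_spec

theorem cp_TH_zero (V : Y.Etale) (F : EtCoh.Ab X) : AbsHex.cp (TH p V) 0 F = th0 p V F :=
  congrArg (fun k => k.app F) (TH_app_zero p V)

theorem th0_naturality' {V V' : Y.Etale} (g : V ⟶ V') (F : EtCoh.Ab X) :
    (EUmap g).app ((EtCoh.Rpush p 0).obj F) ≫ th0 p V' F =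
      th0 p V F ≫ (EtCoh.Rpush p 0).map ((EUmap ((EtCoh.bc p).map g)).app F) := by
  have h1 := (EUmap g).naturality ((zeroIso p).hom.app F)
  have h2 := (zeroIso p).inv.naturality ((EUmap ((EtCoh.bc p).map g)).app F)
  unfold th0
  rw [← Category.assoc, ← h1, Category.assoc, Category.assoc, Category.assoc, ← h2,
    ← Category.assoc (thp p V F), ← thp_naturality', Category.assoc]

theorem cp_TH_naturality0 {V V' : Y.Etale} (g : V ⟶ V') (F : EtCoh.Ab X) :
    (EUmap g).app (((RpushD p).T 0).obj F) ≫ AbsHex.cp (TH p V') 0 F =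
      AbsHex.cp (TH p V) 0 F ≫ ((RpushD p).T 0).map ((EUmap ((EtCoh.bc p).map g)).app F) := by
  rw [cp_TH_zero, cp_TH_zero]
  exact th0_naturality' p g F

/-- Naturality of `TH` in `V`. -/
theorem cp_TH_naturality {V V' : Y.Etale} (g : V ⟶ V') (q : ℕ) (F : EtCoh.Ab X) :
    (EUmap g).app (((RpushD p).T q).obj F) ≫ AbsHex.cp (TH p V') q F =
      AbsHex.cp (TH p V) q F ≫ ((RpushD p).T q).map ((EUmap ((EtCoh.bc p).map g)).app F) :=
  AbsHex.nat_of_zero (RpushD p) (EU V) (EU ((EtCoh.bc p).obj V)) (TH p V) (RpushD_eff p)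
    (EUmap g) (EUmap ((EtCoh.bc p).map g)) (TH p V') (fun F => cp_TH_naturality0 p g F) q F

end Groth.Agent.Sga4B.ThetaE
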