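import Groth.Agent.Sga4B.ThetaE

/-!
# `E_V R^q p_* ⟶ R^q p_* E_{p⁻¹V}` and base change

`hex`: the compatibility of `cp (TH p V) q` with the canonical base change maps `cp (BC w) q`.
-/

set_option autoImplicit false
universe u

open CategoryTheory CategoryTheory.Limits AlgebraicGeometry Opposite

namespace Groth.Agent.Sga4B.ThetaHex

open Groth.Agent.Etcore.PullCoh Groth.Agent.Sga4B.EUFun Groth.Agent.Sga4B.EUConst
  Groth.Agent.EtpbcB.BCCalc
  Groth.Agent.Sga4B.EUDisj Groth.Agent.Sga4B.BCDelta Groth.Agent.Localalg.DeltaFun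
  Groth.Agent.Sga4B.ThetaE

open scoped Groth.Agent.Sga4B.EtAbInst

variable {X Y X' Y' : Scheme.{u}} {p : X ⟶ Y} {i : Y' ⟶ Y} {p' : X' ⟶ Y'} {i' : X' ⟶ X}
  (w : i' ≫ p = p' ≫ i)

/-- The base change map on unit sections. -/
theorem baseChange0_eta (F : EtCoh.Ab X) {W : Y.Etale}
    (s : EtCoh.sect ((EtCoh.push p).obj F) W) :
    (EtCoh.baseChange0 p i p' i' w F).hom.app (op ((EtCoh.bc i).obj W))
      (eta i ((EtCoh.push p).obj F) W s) =
    ((EtCoh.pull i').obj F).obj.map (theta w W).hom.op (eta i' F ((EtCoh.bc p).obj W) s) := by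
  have h := unit_baseChange0 w F
  have h1 := congrArg (fun k => k.hom.app (op W) s) h
  refine h1.trans ?_
  have h2 := sq_hom_app_app w ((EtCoh.pull i').obj F) W
  exact congrArg (fun k => k.hom (eta i' F ((EtCoh.bc p).obj W) s)) h2

/-- Naturality of `theta`. -/
theorem theta_nat {W V : Y.Etale} (a : W ⟶ V) :
    (theta w W).hom ≫ (EtCoh.bc i').map ((EtCoh.bc p).map a) ≫ (theta w V).inv =
      (EtCoh.bc p').map ((EtCoh.bc i).map a) := by
  rw [← Category.assoc, Iso.comp_inv_eq]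
  apply hom_ext_bc₂
  rw [comp_left, comp_left]
  simp only [Category.assoc, bc_map_left_pr, bc_map_left_pr_assoc, theta_hom_left_pr,
    theta_hom_left_pr_assoc]

/-- `i'⁻¹ E_{p⁻¹V} F ⟶ E_{p'⁻¹ i⁻¹ V} i'⁻¹ F`. -/
noncomputable def lam (V : Y.Etale) (F : EtCoh.Ab X) :
    (EtCoh.pull i').obj ((EU ((EtCoh.bc p).obj V)).obj F) ⟶
      (EU ((EtCoh.bc p').obj ((EtCoh.bc i).obj V))).obj ((EtCoh.pull i').obj F) :=
  kap i' ((EtCoh.bc p).obj V) F ≫ (EUmap (theta w V).inv).app ((EtCoh.pull i').obj F)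

theorem lam_nat (V : Y.Etale) {F G : EtCoh.Ab X} (φ : F ⟶ G) :
    (EtCoh.pull i').map ((EU ((EtCoh.bc p).obj V)).map φ) ≫ lam w V G =
      lam w V F ≫ (EU ((EtCoh.bc p').obj ((EtCoh.bc i).obj V))).map ((EtCoh.pull i').map φ) := by
  unfold lam
  rw [← Category.assoc, kap_naturality, Category.assoc, Category.assoc,
    (EUmap (theta w V).inv).naturality]

/-- `lam` as a natural transformation. -/
noncomputable def lamN (V : Y.Etale) :
    EU ((EtCoh.bc p).obj V) ⋙ EtCoh.pull i' ⟶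
      EtCoh.pull i' ⋙ EU ((EtCoh.bc p').obj ((EtCoh.bc i).obj V)) where
  app F := lam w V F
  naturality _ _ φ := lam_nat w V φ

theorem lam_sec (V : Y.Etale) (F : EtCoh.Ab X) {W : X.Etale} (a : W ⟶ (EtCoh.bc p).obj V)
    (s : EtCoh.sect F W) :
    (lam w V F).hom.app (op ((EtCoh.bc i').obj W)) (eta i' _ W (sec a s)) =
      sec ((EtCoh.bc i').map a ≫ (theta w V).inv) (eta i' F W s) := by
  unfold lam
  rw [map_comp_app, kap_sec, EUmap_sec]

/-- The hexagon in degree zero, for `p_*`. -/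
theorem hexP (V : Y.Etale) (F : EtCoh.Ab X) :
    kap i V ((EtCoh.push p).obj F) ≫
      (EU ((EtCoh.bc i).obj V)).map (EtCoh.baseChange0 p i p' i' w F) ≫
        thp p' ((EtCoh.bc i).obj V) ((EtCoh.pull i').obj F) =
    (EtCoh.pull i).map (thp p V F) ≫
      EtCoh.baseChange0 p i p' i' w ((EU ((EtCoh.bc p).obj V)).obj F) ≫
        (EtCoh.push p').map (lam w V F) := by
  refine pull_EU_hom_ext i V _ _ _ (fun W a s => ?_)
  rw [map_comp_app, map_comp_app, kap_sec, sec_map, baseChange0_eta, map_comp_app, map_comp_app,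
    eta_map]
  refine (thp_sec p' ((EtCoh.bc i).obj V) ((EtCoh.pull i').obj F) ((EtCoh.bc i).map a) _).trans ?_
  have h1 : (thp p V F).hom.app (op W) (sec a s) = sec ((EtCoh.bc p).map a) s :=
    thp_sec p V F a s
  rw [h1, baseChange0_eta]
  change _ = (lam w V F).hom.app (op ((EtCoh.bc p').obj ((EtCoh.bc i).obj W)))
    (((EtCoh.pull i').obj ((EU ((EtCoh.bc p).obj V)).obj F)).obj.map (theta w W).hom.op
      (eta i' ((EU ((EtCoh.bc p).obj V)).obj F) ((EtCoh.bc p).obj W)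
        (sec ((EtCoh.bc p).map a) s)))
  rw [map_res, lam_sec, sec_res, theta_nat]

theorem cp_BC_zero (F : EtCoh.Ab X) : AbsHex.cp (BC w) 0 F = (bc0 w).app F :=
  congrArg (fun k => k.app F) (BC_app_zero w)

/-- The hexagon in degree zero. -/
theorem hex0 (V : Y.Etale) (F : EtCoh.Ab X) :
    kap i V ((EtCoh.Rpush p 0).obj F) ≫
      (EU ((EtCoh.bc i).obj V)).map ((EtCoh.pull i).map ((zeroIso p).hom.app F) ≫
        EtCoh.baseChange0 p i p' i' w F ≫ (zeroIso p').inv.app ((EtCoh.pull i').obj F)) ≫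
        th0 p' ((EtCoh.bc i).obj V) ((EtCoh.pull i').obj F) =
    (EtCoh.pull i).map (th0 p V F) ≫
      ((EtCoh.pull i).map ((zeroIso p).hom.app ((EU ((EtCoh.bc p).obj V)).obj F)) ≫
        EtCoh.baseChange0 p i p' i' w ((EU ((EtCoh.bc p).obj V)).obj F) ≫
          (zeroIso p').inv.app ((EtCoh.pull i').obj ((EU ((EtCoh.bc p).obj V)).obj F))) ≫
        (EtCoh.Rpush p' 0).map (lam w V F) := by
  have h1 := hexP w V F
  have h2 := (zeroIso p').inv.naturality (lam w V F)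
  have h3 := kap_naturality i V ((zeroIso p).hom.app F)
  have h4 : (EU ((EtCoh.bc i).obj V)).map ((zeroIso p').inv.app ((EtCoh.pull i').obj F)) ≫
      (EU ((EtCoh.bc i).obj V)).map ((zeroIso p').hom.app ((EtCoh.pull i').obj F)) = 𝟙 _ := by
    rw [← Functor.map_comp, Iso.inv_hom_id_app, CategoryTheory.Functor.map_id]
  have h5 : (EtCoh.pull i).map ((zeroIso p).inv.app ((EU ((EtCoh.bc p).obj V)).obj F)) ≫
      (EtCoh.pull i).map ((zeroIso p).hom.app ((EU ((EtCoh.bc p).obj V)).obj F)) = 𝟙 _ := by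
    rw [← Functor.map_comp, Iso.inv_hom_id_app, CategoryTheory.Functor.map_id]
  unfold th0
  simp only [Functor.map_comp, Category.assoc]
  rw [reassoc_of% h4, reassoc_of% h5, ← h2, ← reassoc_of% h1, ← reassoc_of% h3]

/-- The hexagon. -/
theorem hex (V : Y.Etale) (n : ℕ) (F : EtCoh.Ab X) :
    kap i V (((RpushD p).T n).obj F) ≫ (EU ((EtCoh.bc i).obj V)).map (AbsHex.cp (BC w) n F) ≫
        AbsHex.cp (TH p' ((EtCoh.bc i).obj V)) n ((EtCoh.pull i').obj F) =
    (EtCoh.pull i).map (AbsHex.cp (TH p V) n F) ≫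
      AbsHex.cp (BC w) n ((EU ((EtCoh.bc p).obj V)).obj F) ≫
        ((RpushD p').T n).map (lam w V F) := by
  refine AbsHex.hex (RpushD p) (RpushD p') (EtCoh.pull i) (EtCoh.pull i') (EU V)
    (EU ((EtCoh.bc p).obj V)) (EU ((EtCoh.bc i).obj V))
    (EU ((EtCoh.bc p').obj ((EtCoh.bc i).obj V))) (kapNat i V) (lamN w V) (BC w) (TH p V)
    (TH p' ((EtCoh.bc i).obj V)) (RpushD_eff p) (fun F => ?_) n F
  unfold AbsHex.hexL AbsHex.hexR
  rw [cp_BC_zero, cp_BC_zero, cp_TH_zero, cp_TH_zero]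
  exact hex0 w V F

end Groth.Agent.Sga4B.ThetaHex
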