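import Groth.Agent.Sga4B.ThetaHex
import Groth.Agent.Sga4B.DisjBc

/-!
# `E_V R^q p_* ⟶ R^q p_* E_{p⁻¹V}` over a separably closed field
-/

set_option autoImplicit false
universe u

open CategoryTheory CategoryTheory.Limits AlgebraicGeometry Opposite

namespace Groth.Agent.Sga4B.ThetaPt

open Groth.Agent.Etcore.PullCoh Groth.Agent.Sga4B.EUFun Groth.Agent.Sga4B.EUConst
  Groth.Agent.EtpbcA.JZero Groth.Agent.Sga4B.DirSum
  Groth.Agent.Sga4B.EUDisj Groth.Agent.Sga4B.BCDelta Groth.Agent.Localalg.DeltaFun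
  Groth.Agent.Sga4B.ThetaE Groth.Agent.Sga4B.DisjBc

open scoped Groth.Agent.Sga4B.EtAbInst

variable {X Y : Scheme.{u}} (p : X ⟶ Y)

theorem thp_cc (V : Y.Etale) (F : EtCoh.Ab X) :
    thp p V F ≫ (EtCoh.push p).map (cc ((EtCoh.bc p).obj V) F) = cc V ((EtCoh.push p).obj F) := by
  apply EUFun.hom_ext
  intro W a s
  rw [map_comp_app, cc_sec]
  refine (congrArg _ (thp_sec p V F a s)).trans ?_
  exact cc_sec ((EtCoh.bc p).obj V) F ((EtCoh.bc p).map a) s

/-- The base change of a terminal object is terminal. -/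
noncomputable def bcTerminal {V : Y.Etale} (hV : IsTerminal V) :
    IsTerminal ((EtCoh.bc p).obj V) :=
  IsTerminal.isTerminalObj (EtCoh.bc p) V hV

theorem isIso_thp {V : Y.Etale} (hV : IsTerminal V) (F : EtCoh.Ab X) : IsIso (thp p V F) := by
  have h1 : IsIso (cc V ((EtCoh.push p).obj F)) := isIso_cc hV _
  have h2 : IsIso (cc ((EtCoh.bc p).obj V) F) := isIso_cc (bcTerminal p hV) F
  have h3 : IsIso (thp p V F ≫ (EtCoh.push p).map (cc ((EtCoh.bc p).obj V) F)) := by
    rw [thp_cc]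
    exact h1
  exact IsIso.of_isIso_comp_right (thp p V F) ((EtCoh.push p).map (cc ((EtCoh.bc p).obj V) F))

theorem isIso_th0 {V : Y.Etale} (hV : IsTerminal V) (F : EtCoh.Ab X) : IsIso (th0 p V F) := by
  have h := isIso_thp p hV F
  unfold th0
  infer_instance

theorem isIso_th0N {V : Y.Etale} (hV : IsTerminal V) : IsIso (th0N p V) := by
  have : ∀ F, IsIso ((th0N p V).app F) := fun F => isIso_th0 p hV F
  exact NatIso.isIso_of_isIso_app _

theorem tD_eff {V : Y.Etale} (hV : IsTerminal V) :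
    ((RpushD p).precomp (EU ((EtCoh.bc p).obj V))).Effaceable := by
  intro J _ n
  have h2 : IsIso (cc ((EtCoh.bc p).obj V) J) := isIso_cc (bcTerminal p hV) J
  exact (RpushD_eff p J n).of_iso (((RpushD p).T (n + 1)).mapIso (asIso (cc ((EtCoh.bc p).obj V) J)))

theorem isIso_TH_of_terminal {V : Y.Etale} (hV : IsTerminal V) (q : ℕ) (F : EtCoh.Ab X) :
    IsIso (AbsHex.cp (TH p V) q F) := by
  have h0 : IsIso ((TH p V).app 0) := by
    rw [TH_app_zero]
    exact isIso_th0N p hV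
  have h1 := (TH p V).isIso (sD_eff p V) (tD_eff p hV) h0 q
  exact (NatTrans.isIso_iff_isIso_app _).1 h1 F

theorem isIso_TH_of_disj {I : Type} [Fintype I] {T : I → Y.Etale} {V : Y.Etale}
    (D : DisjCover Y.smallEtaleTopology T V) (q : ℕ) (F : EtCoh.Ab X)
    (h : ∀ j, IsIso (AbsHex.cp (TH p (T j)) q F)) : IsIso (AbsHex.cp (TH p V) q F) :=
  (isDS_EU D (((RpushD p).T q).obj F)).isIso
    ((isDS_EU (mapBc p D) F).map ((RpushD p).T q)) (AbsHex.cp (TH p V) q F)
    (fun j => AbsHex.cp (TH p (T j)) q F) (fun j => cp_TH_naturality p (D.ι j) q F)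

/-- Over a separably closed field `TH p V` is an isomorphism for `V` quasi-compact. -/
theorem isIso_TH_point {Ω : Type u} [Field Ω] [IsSepClosed Ω] {X : Scheme.{u}}
    (p : X ⟶ Spec (CommRingCat.of Ω)) (V : (Spec (CommRingCat.of Ω)).Etale) [QuasiCompact V.hom]
    (q : ℕ) (F : EtCoh.Ab X) : IsIso (AbsHex.cp (TH p V) q F) := by
  obtain ⟨m, ⟨D⟩⟩ := exists_disjCover_point V
  exact isIso_TH_of_disj p D q F (fun _ => isIso_TH_of_terminal p (isTerminalTop _) q F)

end Groth.Agent.Sga4B.ThetaPt
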