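import Groth.Agent.Sga4B.TraceRel

/-!
# The trace map of a finite locally free morphism

Given local splittings (`LocSplit f`), the trace relation defines a morphism `f_* f⁻¹ F ⟶ F`.
-/

set_option autoImplicit false
universe u
set_option linter.unusedSectionVars false

open CategoryTheory CategoryTheory.Limits AlgebraicGeometry Opposite

namespace Groth.Agent.Sga4B.TraceMap

open EtUnit UnitInj ClopenRank TraceRel

variable {X S : Scheme.{u}} (f : X ⟶ S) [EtCoh.BCCont f]

/-- étale-locally on `S` every section of `f_* f⁻¹ F` splits -/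
def LocSplit : Prop :=
  ∀ (F : EtCoh.Ab S) (V : S.Etale) (t : EtCoh.sect ((EtCoh.pull f).obj F) ((EtCoh.bc f).obj V))
    (v : V.left), ∃ (V' : S.Etale) (g : V' ⟶ V) (v' : V'.left), g.left v' = v ∧
      ∃ (ι : Type u) (_ : Fintype ι) (c : ((EtCoh.bc f).obj V').left → ι)
        (_ : IsLocallyConstant c) (m : ι → EtCoh.sect F V'),
        Split f F V' (((EtCoh.pull f).obj F).obj.map ((EtCoh.bc f).map g).op t) c m

variable [IsFinite f] [Flat f]

/-- the subgroup of pairs `(t, trace of t)` -/
def relSubgroup (F : EtCoh.Ab S) (V : S.Etale) :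
    AddSubgroup (EtCoh.sect ((EtCoh.pull f).obj F) ((EtCoh.bc f).obj V) × EtCoh.sect F V) where
  carrier := {x | Rel f F V x.1 x.2}
  zero_mem' := Rel.zero F V
  add_mem' := fun h h' => h.add h'
  neg_mem' := fun h => h.neg

/-- restriction of pairs -/
noncomputable def relRes (F : EtCoh.Ab S) {V V' : S.Etale} (g : V' ⟶ V) :
    relSubgroup f F V →+ relSubgroup f F V' where
  toFun x := ⟨(((EtCoh.pull f).obj F).obj.map ((EtCoh.bc f).map g).op x.1.1,
    F.obj.map g.op x.1.2), x.2.comp g⟩
  map_zero' := by
    apply Subtype.ext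
    exact Prod.ext (map_zero _) (map_zero _)
  map_add' x y := by
    apply Subtype.ext
    exact Prod.ext (map_add _ _ _) (map_add _ _ _)

/-- the presheaf of pairs -/
noncomputable def relPresheaf (F : EtCoh.Ab S) : S.Etaleᵒᵖ ⥤ AddCommGrpCat.{u + 1} where
  obj V := AddCommGrpCat.of (relSubgroup f F V.unop)
  map g := AddCommGrpCat.ofHom (relRes f F g.unop)
  map_id V := by
    apply AddCommGrpCat.ext
    intro x
    apply Subtype.ext
    refine Prod.ext ?_ ?_
    · change ((EtCoh.pull f).obj F).obj.map ((EtCoh.bc f).map (𝟙 V.unop)).op x.1.1 = x.1.1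
      rw [CategoryTheory.Functor.map_id, op_id, CategoryTheory.Functor.map_id]
      rfl
    · change F.obj.map (𝟙 _) x.1.2 = x.1.2
      rw [CategoryTheory.Functor.map_id]
      rfl
  map_comp g h := by
    apply AddCommGrpCat.ext
    intro x
    apply Subtype.ext
    refine Prod.ext ?_ ?_
    · change ((EtCoh.pull f).obj F).obj.map ((EtCoh.bc f).map (h.unop ≫ g.unop)).op x.1.1 =
        ((EtCoh.pull f).obj F).obj.map ((EtCoh.bc f).map h.unop).op
          (((EtCoh.pull f).obj F).obj.map ((EtCoh.bc f).map g.unop).op x.1.1)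
      rw [map_map_apply, ← Functor.map_comp]
    · change F.obj.map (h.unop ≫ g.unop).op x.1.2 = F.obj.map h.unop.op (F.obj.map g.unop.op x.1.2)
      rw [map_map_apply]

/-- first projection -/
noncomputable def relFst (F : EtCoh.Ab S) :
    relPresheaf f F ⟶ ((EtCoh.push f).obj ((EtCoh.pull f).obj F)).obj where
  app V := AddCommGrpCat.ofHom ((AddMonoidHom.fst _ _).comp (relSubgroup f F V.unop).subtype)
  naturality V V' g := by
    ext x
    rfl

/-- second projection -/
noncomputable def relSnd (F : EtCoh.Ab S) : relPresheaf f F ⟶ F.obj where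
  app V := AddCommGrpCat.ofHom ((AddMonoidHom.snd _ _).comp (relSubgroup f F V.unop).subtype)
  naturality V V' g := by
    ext x
    rfl

/-- naturality of the presheaf of pairs in the sheaf -/
noncomputable def relMap {F F' : EtCoh.Ab S} (φ : F ⟶ F') : relPresheaf f F ⟶ relPresheaf f F' where
  app V := AddCommGrpCat.ofHom
    { toFun := fun x => ⟨(((EtCoh.pull f).map φ).hom.app (op ((EtCoh.bc f).obj V.unop)) x.1.1,
        φ.hom.app V x.1.2), x.2.natural φ⟩
      map_zero' := by
        apply Subtype.ext
        exact Prod.ext (map_zero _) (map_zero _)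
      map_add' := fun x y => by
        apply Subtype.ext
        exact Prod.ext (map_add _ _ _) (map_add _ _ _) }
  naturality V V' g := by
    ext x
    apply Subtype.ext
    refine Prod.ext ?_ ?_
    · exact ConcreteCategory.congr_hom
        (((EtCoh.pull f).map φ).hom.naturality ((EtCoh.bc f).map g.unop).op) x.1.1
    · exact ConcreteCategory.congr_hom (φ.hom.naturality g) x.1.2

theorem relMap_fst {F F' : EtCoh.Ab S} (φ : F ⟶ F') :
    relMap f φ ≫ relFst f F' =
      relFst f F ≫ ((EtCoh.push f).map ((EtCoh.pull f).map φ)).hom := by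
  ext V x
  rfl

theorem relMap_snd {F F' : EtCoh.Ab S} (φ : F ⟶ F') :
    relMap f φ ≫ relSnd f F' = relSnd f F ≫ φ.hom := by
  ext V x
  rfl

/-- the section `m ↦ (m, n m)` -/
noncomputable def relUnit {n : ℕ} (hn : ∀ s : S, f.finrank s = n) (F : EtCoh.Ab S) :
    F.obj ⟶ relPresheaf f F where
  app V := AddCommGrpCat.ofHom
    { toFun := fun m => ⟨(usec f F V.unop m, n • m), Rel.usec hn F V.unop m⟩
      map_zero' := by
        apply Subtype.ext
        exact Prod.ext (map_zero _) (smul_zero _)
      map_add' := fun x y => by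
        apply Subtype.ext
        exact Prod.ext (map_add _ _ _) (smul_add _ _ _) }
  naturality V V' g := by
    ext x
    apply Subtype.ext
    refine Prod.ext ?_ ?_
    · exact (usec_map f F g.unop x).symm
    · exact (map_nsmul (F.obj.map g).hom n x).symm

theorem relUnit_fst {n : ℕ} (hn : ∀ s : S, f.finrank s = n) (F : EtCoh.Ab S) :
    relUnit f hn F ≫ relFst f F = ((EtCoh.pullPushAdj f).unit.app F).hom := by
  ext V x
  rfl

variable [LocallyOfFinitePresentation f]

theorem relFst_injective (F : EtCoh.Ab S) (V : S.Etaleᵒᵖ)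
    (x y : (relPresheaf f F).obj V) (h : (relFst f F).app V x = (relFst f F).app V y) : x = y := by
  have h1 : (x - y).1.1 = 0 := by
    have : x.1.1 = y.1.1 := h
    change x.1.1 - y.1.1 = 0
    rw [this, sub_self]
  have h2 : Rel f F V.unop 0 (x - y).1.2 := by
    rw [← h1]
    exact (x - y).2
  have h3 := h2.eq_zero
  rw [← sub_eq_zero]
  apply Subtype.ext
  exact Prod.ext h1 h3

instance (F : EtCoh.Ab S) : Presheaf.IsLocallyInjective S.smallEtaleTopology (relFst f F) where
  equalizerSieve_mem {V} x y h := by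
    obtain rfl := relFst_injective f F V x y h
    have : Presheaf.equalizerSieve x x = ⊤ := by
      rw [eq_top_iff]
      intro W g _
      rfl
    rw [this]
    exact GrothendieckTopology.top_mem _ _

theorem relFst_isLocallySurjective (hf : LocSplit f) (F : EtCoh.Ab S) :
    Presheaf.IsLocallySurjective S.smallEtaleTopology (relFst f F) where
  imageSieve_mem {V} t := by
    rw [Groth.Agent.Etbase.EtSite.mem_iff]
    intro v
    obtain ⟨V', g, v', hv', ι, _, c, hc, m, hs⟩ := hf F V t v
    obtain ⟨V'', g', v'', hv'', τ, hτ⟩ := exists_rel_of_split hc hs v'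
    refine ⟨V'', g' ≫ g, v'', ⟨⟨(_, τ), hτ⟩, ?_⟩, ?_⟩
    · change ((EtCoh.pull f).obj F).obj.map ((EtCoh.bc f).map g').op
          (((EtCoh.pull f).obj F).obj.map ((EtCoh.bc f).map g).op t) =
        ((EtCoh.pull f).obj F).obj.map ((EtCoh.bc f).map (g' ≫ g)).op t
      rw [map_map_apply, ← Functor.map_comp]
    · change g.left (g'.left v'') = v
      rw [hv'', hv']

theorem W_relFst (hf : LocSplit f) (F : EtCoh.Ab S) :
    S.smallEtaleTopology.W (relFst f F) := by
  have := relFst_isLocallySurjective f hf F
  exact S.smallEtaleTopology.W_of_isLocallyBijective (relFst f F)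

/-- the trace -/
noncomputable def traceApp (hf : LocSplit f) (F : EtCoh.Ab S) :
    (EtCoh.push f).obj ((EtCoh.pull f).obj F) ⟶ F :=
  ⟨(ObjectProperty.isLocal.homEquiv (W_relFst f hf F) F.obj F.property).symm (relSnd f F)⟩

theorem relFst_traceApp (hf : LocSplit f) (F : EtCoh.Ab S) :
    relFst f F ≫ (traceApp f hf F).hom = relSnd f F :=
  (ObjectProperty.isLocal.homEquiv (W_relFst f hf F) F.obj F.property).apply_symm_apply (relSnd f F)

theorem hom_ext (hf : LocSplit f) {F G : EtCoh.Ab S}
    {a b : (EtCoh.push f).obj ((EtCoh.pull f).obj F) ⟶ G}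
    (h : relFst f F ≫ a.hom = relFst f F ≫ b.hom) : a = b := by
  apply (fullyFaithfulSheafToPresheaf _ _).map_injective
  exact (ObjectProperty.isLocal.homEquiv (W_relFst f hf F) G.obj G.property).injective h

/-- the trace as a natural transformation -/
noncomputable def trace (hf : LocSplit f) : EtCoh.pull f ⋙ EtCoh.push f ⟶ 𝟭 (EtCoh.Ab S) where
  app F := traceApp f hf F
  naturality F F' φ := by
    apply hom_ext f hf
    change relFst f F ≫ ((EtCoh.push f).map ((EtCoh.pull f).map φ)).hom ≫ (traceApp f hf F').hom =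
      relFst f F ≫ (traceApp f hf F).hom ≫ φ.hom
    rw [← Category.assoc, ← relMap_fst, Category.assoc, relFst_traceApp, relMap_snd,
      ← Category.assoc, relFst_traceApp]

theorem unit_trace (hf : LocSplit f) {n : ℕ} (hn : ∀ s : S, f.finrank s = n) (F : EtCoh.Ab S) :
    (EtCoh.pullPushAdj f).unit.app F ≫ (trace f hf).app F = n • 𝟙 F := by
  apply (fullyFaithfulSheafToPresheaf _ _).map_injective
  change ((EtCoh.pullPushAdj f).unit.app F).hom ≫ (traceApp f hf F).hom = _
  rw [← relUnit_fst f hn F, Category.assoc, relFst_traceApp]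
  rw [Functor.map_nsmul]
  ext V x
  rfl

end Groth.Agent.Sga4B.TraceMap
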