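import Groth.Agent.Sga4B.UnitInj
import Groth.Agent.Sga4B.ClopenRank

/-!
# The trace relation for finite locally free morphisms

For `f : X ⟶ S` finite locally free and `F` an abelian étale sheaf on `S`, `Rel f F V t τ` says
that the section `τ` of `F` over `V` is the trace of the section `t` of `f⁻¹ F` over `X ×_S V`:
there is a finite clopen decomposition of `X ×_S V` on the pieces of which `t` is the pullback of
sections `m i` of `F` and `τ = ∑ (rank of piece i) • m i`.
-/

set_option autoImplicit false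
universe u
set_option linter.unusedSectionVars false

open CategoryTheory CategoryTheory.Limits AlgebraicGeometry Opposite

namespace Groth.Agent.Sga4B.TraceRel

open EtUnit UnitInj ClopenRank

/-! ### open subobjects -/

section Opens

variable {X : Scheme.{u}}

/-- an open of an étale `X`-scheme, as an object of the small étale site -/
noncomputable def openObj (U : X.Etale) (O : U.left.Opens) : X.Etale :=
  haveI : AlgebraicGeometry.Etale U.hom := U.prop
  MorphismProperty.Over.mk ⊤ (O.ι ≫ U.hom) (inferInstanceAs (AlgebraicGeometry.Etale (O.ι ≫ U.hom)))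

/-- the inclusion -/
noncomputable def openMap (U : X.Etale) (O : U.left.Opens) : openObj U O ⟶ U :=
  MorphismProperty.Over.homMk O.ι rfl

theorem openMap_left (U : X.Etale) (O : U.left.Opens) : (openMap U O).left = O.ι := rfl

theorem map_map_apply (F : EtCoh.Ab X) {U V W : X.Etale} (g : V ⟶ U) (h : W ⟶ V)
    (s : EtCoh.sect F U) :
    F.obj.map h.op (F.obj.map g.op s) = F.obj.map (h ≫ g).op s := by
  rw [op_comp, Functor.map_comp]
  rfl

end Opens

variable {X S : Scheme.{u}} (f : X ⟶ S) [EtCoh.BCCont f]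

instance pr_finite [IsFinite f] (V : S.Etale) : IsFinite (pr f V) :=
  inferInstanceAs (IsFinite (pullback.fst V.hom f))

instance pr_flat [Flat f] (V : S.Etale) : Flat (pr f V) :=
  inferInstanceAs (Flat (pullback.fst V.hom f))

instance pr_lfp [LocallyOfFinitePresentation f] (V : S.Etale) :
    LocallyOfFinitePresentation (pr f V) :=
  inferInstanceAs (LocallyOfFinitePresentation (pullback.fst V.hom f))

theorem finrank_pr [IsFinite f] [Flat f] (V : S.Etale) (v : V.left) :
    (pr f V).finrank v = f.finrank (V.hom v) :=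
  Scheme.Hom.finrank_pullback_fst f V.hom v

/-- a decomposition of the section `t` into pullbacks of sections of `F` -/
def Split (F : EtCoh.Ab S) (V : S.Etale) (t : EtCoh.sect ((EtCoh.pull f).obj F) ((EtCoh.bc f).obj V))
    {ι : Type u} (c : ((EtCoh.bc f).obj V).left → ι) (m : ι → EtCoh.sect F V) : Prop :=
  ∀ (i : ι) (U : X.Etale) (h : U ⟶ (EtCoh.bc f).obj V), (∀ u : U.left, c (h.left u) = i) →
    ((EtCoh.pull f).obj F).obj.map h.op t = ((EtCoh.pull f).obj F).obj.map h.op (usec f F V (m i))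

/-- `τ` is the weighted sum of the `m i` -/
def IsSum (F : EtCoh.Ab S) (V : S.Etale) (τ : EtCoh.sect F V)
    {ι : Type u} [Fintype ι] (c : ((EtCoh.bc f).obj V).left → ι) (hc : IsLocallyConstant c)
    (m : ι → EtCoh.sect F V) : Prop :=
  ∀ (V' : S.Etale) (g : V' ⟶ V) (r : ι → ℕ), Nonempty V'.left →
    (∀ i (v' : V'.left), rk (pr f V) c hc i (g.left v') = r i) →
    F.obj.map g.op τ = ∑ i, r i • F.obj.map g.op (m i)

/-- the trace relation -/
def Rel (F : EtCoh.Ab S) (V : S.Etale) (t : EtCoh.sect ((EtCoh.pull f).obj F) ((EtCoh.bc f).obj V))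
    (τ : EtCoh.sect F V) : Prop :=
  ∃ (ι : Type u) (_ : Fintype ι) (c : ((EtCoh.bc f).obj V).left → ι) (hc : IsLocallyConstant c)
    (m : ι → EtCoh.sect F V), Split f F V t c m ∧ IsSum f F V τ c hc m

variable {f}

theorem Split.comp {F : EtCoh.Ab S} {V : S.Etale}
    {t : EtCoh.sect ((EtCoh.pull f).obj F) ((EtCoh.bc f).obj V)}
    {ι : Type u} {c : ((EtCoh.bc f).obj V).left → ι} {m : ι → EtCoh.sect F V}
    (h : Split f F V t c m) {V' : S.Etale} (g : V' ⟶ V) :
    Split f F V' (((EtCoh.pull f).obj F).obj.map ((EtCoh.bc f).map g).op t)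
      (fun y => c (((EtCoh.bc f).map g).left y)) (fun i => F.obj.map g.op (m i)) := by
  intro i U k hk
  have h1 := h i U (k ≫ (EtCoh.bc f).map g) (fun u => hk u)
  rw [map_map_apply, h1, ← map_map_apply, usec_map]

theorem isLocallyConstant_comp {V V' : S.Etale} (g : V' ⟶ V) {ι : Type u}
    {c : ((EtCoh.bc f).obj V).left → ι} (hc : IsLocallyConstant c) :
    IsLocallyConstant (fun y => c (((EtCoh.bc f).map g).left y)) :=
  hc.comp_continuous ((EtCoh.bc f).map g).left.continuous

section

variable [IsFinite f] [Flat f]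

theorem rk_comp {V V' : S.Etale} (g : V' ⟶ V) {ι : Type u}
    {c : ((EtCoh.bc f).obj V).left → ι} (hc : IsLocallyConstant c) (i : ι) (v' : V'.left) :
    rk (pr f V') (fun y => c (((EtCoh.bc f).map g).left y)) (isLocallyConstant_comp g hc) i v' =
      rk (pr f V) c hc i (g.left v') :=
  rk_baseChange (isPullback_map f g) c hc _ _ (fun _ => rfl) i v'

theorem IsSum.comp {F : EtCoh.Ab S} {V : S.Etale} {τ : EtCoh.sect F V}
    {ι : Type u} [Fintype ι] {c : ((EtCoh.bc f).obj V).left → ι} {hc : IsLocallyConstant c}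
    {m : ι → EtCoh.sect F V} (h : IsSum f F V τ c hc m) {V' : S.Etale} (g : V' ⟶ V) :
    IsSum f F V' (F.obj.map g.op τ) (fun y => c (((EtCoh.bc f).map g).left y))
      (isLocallyConstant_comp g hc) (fun i => F.obj.map g.op (m i)) := by
  intro V'' g' r hne hr
  have h1 := h V'' (g' ≫ g) r hne (fun i v'' => by
    rw [← hr i v'', rk_comp]
    rfl)
  simp only [map_map_apply, h1]

theorem Rel.comp {F : EtCoh.Ab S} {V : S.Etale}
    {t : EtCoh.sect ((EtCoh.pull f).obj F) ((EtCoh.bc f).obj V)} {τ : EtCoh.sect F V}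
    (h : Rel f F V t τ) {V' : S.Etale} (g : V' ⟶ V) :
    Rel f F V' (((EtCoh.pull f).obj F).obj.map ((EtCoh.bc f).map g).op t) (F.obj.map g.op τ) := by
  obtain ⟨ι, _, c, hc, m, h1, h2⟩ := h
  exact ⟨ι, inferInstance, _, isLocallyConstant_comp g hc, _, h1.comp g, h2.comp g⟩

theorem Rel.neg {F : EtCoh.Ab S} {V : S.Etale}
    {t : EtCoh.sect ((EtCoh.pull f).obj F) ((EtCoh.bc f).obj V)} {τ : EtCoh.sect F V}
    (h : Rel f F V t τ) : Rel f F V (-t) (-τ) := by
  obtain ⟨ι, _, c, hc, m, h1, h2⟩ := h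
  refine ⟨ι, inferInstance, c, hc, fun i => - m i, ?_, ?_⟩
  · intro i U k hk
    rw [map_neg, map_neg, map_neg, h1 i U k hk]
  · intro V' g r hne hr
    simp only [map_neg, smul_neg, Finset.sum_neg_distrib, h2 V' g r hne hr]

theorem Rel.zero (F : EtCoh.Ab S) (V : S.Etale) : Rel f F V 0 0 := by
  refine ⟨PUnit, inferInstance, fun _ => PUnit.unit, IsLocallyConstant.const _, fun _ => 0, ?_, ?_⟩
  · intro i U k hk
    rw [map_zero, map_zero, map_zero]
  · intro V' g r hne hr
    simp

theorem Rel.add {F : EtCoh.Ab S} {V : S.Etale}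
    {t t' : EtCoh.sect ((EtCoh.pull f).obj F) ((EtCoh.bc f).obj V)} {τ τ' : EtCoh.sect F V}
    (h : Rel f F V t τ) (h' : Rel f F V t' τ') : Rel f F V (t + t') (τ + τ') := by
  classical
  obtain ⟨ι, _, c, hc, m, h1, h2⟩ := h
  obtain ⟨κ, _, d, hd, m', h1', h2'⟩ := h'
  refine ⟨ι × κ, inferInstance, fun y => (c y, d y), hc.prodMk hd,
    fun x => m x.1 + m' x.2, ?_, ?_⟩
  · rintro ⟨i, j⟩ U k hk
    have e1 : ∀ u : U.left, c (k.left u) = i := fun u => congrArg Prod.fst (hk u)
    have e2 : ∀ u : U.left, d (k.left u) = j := fun u => congrArg Prod.snd (hk u)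
    rw [map_add, map_add, map_add, h1 i U k e1, h1' j U k e2]
  · intro V' g r hne hr
    have a1 := h2 V' g (fun i => ∑ x : {x : ι × κ // x.1 = i}, r x.1) hne (fun i v' => by
      rw [rk_eq_sum (pr f V) c hc _ (hc.prodMk hd) Prod.fst (fun _ => rfl)]
      exact Finset.sum_congr rfl fun x _ => hr x.1 v')
    have a2 := h2' V' g (fun j => ∑ x : {x : ι × κ // x.2 = j}, r x.1) hne (fun j v' => by
      rw [rk_eq_sum (pr f V) d hd _ (hc.prodMk hd) Prod.snd (fun _ => rfl)]
      exact Finset.sum_congr rfl fun x _ => hr x.1 v')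
    rw [map_add, a1, a2]
    have b1 : ∑ i, (∑ x : {x : ι × κ // x.1 = i}, r x.1) • F.obj.map g.op (m i) =
        ∑ x : ι × κ, r x • F.obj.map g.op (m x.1) := by
      rw [← Fintype.sum_fiberwise (fun x : ι × κ => x.1)]
      refine Finset.sum_congr rfl fun i _ => ?_
      rw [Finset.sum_smul]
      refine Finset.sum_congr rfl fun x _ => ?_
      rw [x.2]
    have b2 : ∑ j, (∑ x : {x : ι × κ // x.2 = j}, r x.1) • F.obj.map g.op (m' j) =
        ∑ x : ι × κ, r x • F.obj.map g.op (m' x.2) := by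
      rw [← Fintype.sum_fiberwise (fun x : ι × κ => x.2)]
      refine Finset.sum_congr rfl fun i _ => ?_
      rw [Finset.sum_smul]
      refine Finset.sum_congr rfl fun x _ => ?_
      rw [x.2]
    rw [b1, b2, ← Finset.sum_add_distrib]
    refine Finset.sum_congr rfl fun x _ => ?_
    rw [map_add, smul_add]

theorem Rel.usec {n : ℕ} (hn : ∀ s : S, f.finrank s = n) (F : EtCoh.Ab S) (V : S.Etale)
    (m : EtCoh.sect F V) : Rel f F V (EtUnit.usec f F V m) (n • m) := by
  refine ⟨PUnit, inferInstance, fun _ => PUnit.unit, IsLocallyConstant.const _, fun _ => m, ?_, ?_⟩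
  · intro i U k hk
    rfl
  · intro V' g r hne hr
    obtain ⟨v'⟩ := hne
    have e1 := hr PUnit.unit v'
    have e2 := finrank_eq_sum_rk (pr f V) (fun _ => (PUnit.unit : PUnit.{u+1}))
      (IsLocallyConstant.const _) (g.left v')
    rw [Finset.univ_unique, Finset.sum_singleton, finrank_pr, hn] at e2
    have e3 : r PUnit.unit = n := e1.symm.trans e2.symm
    rw [map_nsmul, Finset.univ_unique, Finset.sum_singleton]
    exact congrArg (· • F.obj.map g.op m) e3.symm

theorem Rel.natural {F F' : EtCoh.Ab S} (φ : F ⟶ F') {V : S.Etale}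
    {t : EtCoh.sect ((EtCoh.pull f).obj F) ((EtCoh.bc f).obj V)} {τ : EtCoh.sect F V}
    (h : Rel f F V t τ) :
    Rel f F' V (((EtCoh.pull f).map φ).hom.app (op ((EtCoh.bc f).obj V)) t)
      (φ.hom.app (op V) τ) := by
  obtain ⟨ι, _, c, hc, m, h1, h2⟩ := h
  have nat : ∀ {V' : S.Etale} (g : V' ⟶ V) (s : EtCoh.sect F V),
      F'.obj.map g.op (φ.hom.app (op V) s) = φ.hom.app (op V') (F.obj.map g.op s) := fun g s =>
    (ConcreteCategory.congr_hom (φ.hom.naturality g.op) s).symm
  have nat' : ∀ {U : X.Etale} (g : U ⟶ (EtCoh.bc f).obj V)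
      (s : EtCoh.sect ((EtCoh.pull f).obj F) ((EtCoh.bc f).obj V)),
      ((EtCoh.pull f).obj F').obj.map g.op
        (((EtCoh.pull f).map φ).hom.app (op ((EtCoh.bc f).obj V)) s) =
      ((EtCoh.pull f).map φ).hom.app (op U) (((EtCoh.pull f).obj F).obj.map g.op s) := fun g s =>
    (ConcreteCategory.congr_hom (((EtCoh.pull f).map φ).hom.naturality g.op) s).symm
  refine ⟨ι, inferInstance, c, hc, fun i => φ.hom.app (op V) (m i), ?_, ?_⟩
  · intro i U k hk
    rw [nat', h1 i U k hk, ← nat', usec_natural]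
  · intro V' g r hne hr
    rw [nat, h2 V' g r hne hr, map_sum]
    refine Finset.sum_congr rfl fun i _ => ?_
    rw [map_nsmul, nat]

variable [LocallyOfFinitePresentation f]

/-- étale (even Zariski) locally all ranks are constant -/
theorem exists_const_rk (V : S.Etale) {ι : Type u} [Fintype ι] (c : ((EtCoh.bc f).obj V).left → ι)
    (hc : IsLocallyConstant c) (v : V.left) :
    ∃ (V' : S.Etale) (g : V' ⟶ V) (v' : V'.left), g.left v' = v ∧
      ∀ i (w : V'.left), rk (pr f V) c hc i (g.left w) = rk (pr f V) c hc i v := by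
  have h (i : ι) : ∃ O : V.left.Opens, v ∈ O ∧ ∀ w ∈ O, rk (pr f V) c hc i w =
      rk (pr f V) c hc i v := by
    obtain ⟨O, hO, hv, hw⟩ := (IsLocallyConstant.iff_exists_open _).1
      (isLocallyConstant_rk (pr f V) c hc i) v
    exact ⟨⟨O, hO⟩, hv, hw⟩
  choose O hO hO' using h
  let O' : V.left.Opens := Finset.univ.inf O
  have hv : v ∈ O' := by
    have : ∀ s : Finset ι, v ∈ s.inf O := by
      classical
      intro s
      induction s using Finset.induction with
      | empty => trivial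
      | insert a s _ ih => rw [Finset.inf_insert]; exact ⟨hO a, ih⟩
    exact this _
  refine ⟨openObj V O', openMap V O', ⟨v, hv⟩, rfl, fun i w => hO' i _ ?_⟩
  exact (Finset.inf_le (Finset.mem_univ i) : O' ≤ O i) w.2

theorem Rel.eq_zero {F : EtCoh.Ab S} {V : S.Etale} {τ : EtCoh.sect F V}
    (h : Rel f F V 0 τ) : τ = 0 := by
  obtain ⟨ι, _, c, hc, m, h1, h2⟩ := h
  apply Groth.Agent.Etbase.EtSite.sect_eq_zero
  intro v
  obtain ⟨V', g, v', hv', hr⟩ := exists_const_rk V c hc v
  refine ⟨V', g, v', hv', ?_⟩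
  rw [h2 V' g _ ⟨v'⟩ hr]
  refine Finset.sum_eq_zero fun i _ => ?_
  by_cases h0 : rk (pr f V) c hc i v = 0
  · rw [h0, zero_smul]
  · have hc' := isLocallyConstant_comp g hc
    have : F.obj.map g.op (m i) = 0 := by
      let c' : ((EtCoh.bc f).obj V').left → ι := fun y => c (((EtCoh.bc f).map g).left y)
      refine usec_eq_zero f F V' _ (openObj ((EtCoh.bc f).obj V') (piece c' hc' i))
        (openMap _ _) ?_ ?_
      · intro w
        have hw : 1 ≤ rk (pr f V') c' hc' i w := by
          rw [rk_comp g hc, hr]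
          omega
        obtain ⟨y, hy1, hy2⟩ := exists_of_rk_pos (pr f V') c' hc' i w hw
        exact ⟨⟨y, hy1⟩, hy2⟩
      · have := h1.comp g i (openObj ((EtCoh.bc f).obj V') (piece c' hc' i)) (openMap _ _)
          (fun u => u.2)
        rw [← this, map_zero, map_zero]
    rw [this, smul_zero]

/-- if `t` splits then, locally, it has a trace. -/
theorem exists_rel_of_split {F : EtCoh.Ab S} {V : S.Etale}
    {t : EtCoh.sect ((EtCoh.pull f).obj F) ((EtCoh.bc f).obj V)}
    {ι : Type u} [Fintype ι] {c : ((EtCoh.bc f).obj V).left → ι} (hc : IsLocallyConstant c)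
    {m : ι → EtCoh.sect F V} (h : Split f F V t c m) (v : V.left) :
    ∃ (V' : S.Etale) (g : V' ⟶ V) (v' : V'.left), g.left v' = v ∧
      ∃ τ : EtCoh.sect F V',
        Rel f F V' (((EtCoh.pull f).obj F).obj.map ((EtCoh.bc f).map g).op t) τ := by
  obtain ⟨V', g, v', hv', hr⟩ := exists_const_rk V c hc v
  refine ⟨V', g, v', hv', ∑ i, rk (pr f V) c hc i v • F.obj.map g.op (m i), ?_⟩
  refine ⟨ι, inferInstance, _, isLocallyConstant_comp g hc, _, h.comp g, ?_⟩
  intro V'' g' r hne hr'
  obtain ⟨w⟩ := hne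
  have e : r = fun i => rk (pr f V) c hc i v := by
    funext i
    rw [← hr' i w, rk_comp g hc, hr]
  rw [map_sum, e]
  exact Finset.sum_congr rfl fun i _ => map_nsmul _ _ _

end

end Groth.Agent.Sga4B.TraceRel
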