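import Groth.Agent.Sga4B.AdjExt
import Groth.Agent.Etrest.RDer4

/-!
# Edge maps of the Leray spectral sequence and the two-row exact sequence

For `adj : L ⊣ F` with `L` exact, `F` additive, `A` with K-injective resolutions:
* `high adj m n i : Ext^n(LZ, G) ⟶ Ext^i(Z, R^m F G)` (`i + m = n`, `R^q F G = 0` for `q > m`),
* `low adj m n i : Ext^i(Z, R^m F G) ⟶ Ext^n(LZ, G)` (`i + m = n`, `R^q F G = 0` for `q < m`),
both natural in `G` and `Z`; exactness `exact_low_high` of the two-row sequence; criteria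
`high_bijective`, `low_bijective`, `subsingleton_of`.
-/

set_option autoImplicit false
universe w w' v v' u u'
open CategoryTheory CategoryTheory.Limits CategoryTheory.Abelian
open Groth.Agent.Etrest

namespace Groth.Agent.Sga4B.TwoRow

variable {A : Type u} [Category.{v} A] [Abelian A] {B : Type u'} [Category.{v'} B] [Abelian B]
  [HasExt.{w} A] [HasExt.{w'} B] [RDer3.HasKInj A] [EnoughInjectives A] [HasInjectiveResolutions A]
  {L : B ⥤ A} [L.Additive] [PreservesFiniteLimits L] [PreservesFiniteColimits L]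
  {F : A ⥤ B} [F.Additive] (adj : L ⊣ F)

attribute [local instance] HasDerivedCategory.standard

/-- The edge map `Ext^n(LZ, G) ⟶ Ext^i(Z, R^m F G)`, `i + m = n`, for `G` with `R^q F G = 0`, `q > m`. -/
noncomputable def high (m n i : ℕ) (h : i + m = n) (Z : B) (G : A)
    (hG : ∀ q, m < q → IsZero ((F.rightDerived q).obj G)) :
    Ext.{w} (L.obj Z) G n →+ Ext.{w'} Z ((F.rightDerived m).obj G) i :=
  AdjExt.high (RDer4.dAdj adj) F (fun q => RDer3.HTRsingle F q)
    (fun G => RDer3.TR_isGE F ((DerivedCategory.singleFunctor A 0).obj G) 0) m n i h Z G hG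

/-- The edge map `Ext^i(Z, R^m F G) ⟶ Ext^n(LZ, G)`, `i + m = n`, for `G` with `R^q F G = 0`, `q < m`. -/
noncomputable def low (m n i : ℕ) (h : i + m = n) (Z : B) (G : A)
    (hG : ∀ q, q < m → IsZero ((F.rightDerived q).obj G)) :
    Ext.{w'} Z ((F.rightDerived m).obj G) i →+ Ext.{w} (L.obj Z) G n :=
  AdjExt.low (RDer4.dAdj adj) F (fun q => RDer3.HTRsingle F q)
    (fun G => RDer3.TR_isGE F ((DerivedCategory.singleFunctor A 0).obj G) 0) m n i h Z G hG

theorem high_naturality (m n i : ℕ) (h : i + m = n) (Z : B) {G G' : A} (g : G ⟶ G')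
    (hG : ∀ q, m < q → IsZero ((F.rightDerived q).obj G))
    (hG' : ∀ q, m < q → IsZero ((F.rightDerived q).obj G')) (x : Ext.{w} (L.obj Z) G n) :
    high.{w, w'} adj m n i h Z G' hG' (x.comp (Ext.mk₀ g) (add_zero n)) =
      (high adj m n i h Z G hG x).comp (Ext.mk₀ ((F.rightDerived m).map g)) (add_zero i) :=
  AdjExt.high_naturality (RDer4.dAdj adj) F (fun q => RDer3.HTRsingle F q)
    (fun G => RDer3.TR_isGE F ((DerivedCategory.singleFunctor A 0).obj G) 0) m n i h Z g hG hG' x

theorem low_naturality (m n i : ℕ) (h : i + m = n) (Z : B) {G G' : A} (g : G ⟶ G')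
    (hG : ∀ q, q < m → IsZero ((F.rightDerived q).obj G))
    (hG' : ∀ q, q < m → IsZero ((F.rightDerived q).obj G')) (x : Ext.{w'} Z ((F.rightDerived m).obj G) i) :
    low.{w, w'} adj m n i h Z G' hG' (x.comp (Ext.mk₀ ((F.rightDerived m).map g)) (add_zero i)) =
      (low adj m n i h Z G hG x).comp (Ext.mk₀ g) (add_zero n) :=
  AdjExt.low_naturality (RDer4.dAdj adj) F (fun q => RDer3.HTRsingle F q)
    (fun G => RDer3.TR_isGE F ((DerivedCategory.singleFunctor A 0).obj G) 0) m n i h Z g hG hG' x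

theorem high_precomp (m n i : ℕ) (h : i + m = n) {Z Z' : B} (z : Z' ⟶ Z) (G : A)
    (hG : ∀ q, m < q → IsZero ((F.rightDerived q).obj G)) (x : Ext.{w} (L.obj Z) G n) :
    high.{w, w'} adj m n i h Z' G hG ((Ext.mk₀ (L.map z)).comp x (zero_add n)) =
      (Ext.mk₀ z).comp (high adj m n i h Z G hG x) (zero_add i) :=
  AdjExt.high_precomp (RDer4.dAdj adj) F (fun q => RDer3.HTRsingle F q)
    (fun G => RDer3.TR_isGE F ((DerivedCategory.singleFunctor A 0).obj G) 0) m n i h z G hG x

theorem low_precomp (m n i : ℕ) (h : i + m = n) {Z Z' : B} (z : Z' ⟶ Z) (G : A)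
    (hG : ∀ q, q < m → IsZero ((F.rightDerived q).obj G)) (x : Ext.{w'} Z ((F.rightDerived m).obj G) i) :
    low.{w, w'} adj m n i h Z' G hG ((Ext.mk₀ z).comp x (zero_add i)) =
      (Ext.mk₀ (L.map z)).comp (low adj m n i h Z G hG x) (zero_add n) :=
  AdjExt.low_precomp (RDer4.dAdj adj) F (fun q => RDer3.HTRsingle F q)
    (fun G => RDer3.TR_isGE F ((DerivedCategory.singleFunctor A 0).obj G) 0) m n i h z G hG x

/-- The two-row Leray sequence: if `R^q F G = 0` for `q ∉ {m, m+1}` then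
`Ext^i(Z, R^m F G) ⟶ Ext^n(LZ, G) ⟶ Ext^{i'}(Z, R^{m+1} F G)` is exact (`i + m = n = i' + m + 1`). -/
theorem exact_low_high (m m' n i i' : ℕ) (hm : m + 1 = m') (h : i + m = n) (h' : i' + m' = n) (Z : B) (G : A)
    (hG : ∀ q, q < m → IsZero ((F.rightDerived q).obj G))
    (hG' : ∀ q, m' < q → IsZero ((F.rightDerived q).obj G)) :
    Function.Exact (low.{w, w'} adj m n i h Z G hG) (high.{w, w'} adj m' n i' h' Z G hG') :=
  AdjExt.exact_low_high (RDer4.dAdj adj) F (fun q => RDer3.HTRsingle F q)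
    (fun G => RDer3.TR_isGE F ((DerivedCategory.singleFunctor A 0).obj G) 0) m m' n i i' hm h h' Z G hG hG'

/-- Top degree criterion for the edge map `high`. -/
theorem high_bijective (m n i : ℕ) (h : i + m = n) (Z : B) (G : A)
    (hG : ∀ q, m < q → IsZero ((F.rightDerived q).obj G))
    (hv : ∀ q j : ℕ, q < m → (j + q = n ∨ j + q = n + 1) →
      Subsingleton (Ext.{w'} Z ((F.rightDerived q).obj G) j)) :
    Function.Bijective (high.{w, w'} adj m n i h Z G hG) :=
  AdjExt.high_bijective (RDer4.dAdj adj) F (fun q => RDer3.HTRsingle F q)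
    (fun G => RDer3.TR_isGE F ((DerivedCategory.singleFunctor A 0).obj G) 0) m n i h Z G hG hv

/-- Criterion for bijectivity of the edge map `low` (higher rows do not contribute). -/
theorem low_bijective (m b n i : ℕ) (h : i + m = n) (Z : B) (G : A)
    (hG : ∀ q, q < m → IsZero ((F.rightDerived q).obj G))
    (hb : ∀ q, b < q → IsZero ((F.rightDerived q).obj G))
    (hv : ∀ q j : ℕ, m < q → q ≤ b → (j + q = n ∨ j + q + 1 = n) →
      Subsingleton (Ext.{w'} Z ((F.rightDerived q).obj G) j)) :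
    Function.Bijective (low.{w, w'} adj m n i h Z G hG) :=
  AdjExt.low_bijective (RDer4.dAdj adj) F (fun q => RDer3.HTRsingle F q)
    (fun G => RDer3.TR_isGE F ((DerivedCategory.singleFunctor A 0).obj G) 0) m b n i h Z G hG hb hv

include adj in
/-- Vanishing of `Ext^n(LZ, G)` from the vanishing of all `Ext^j(Z, R^q F G)`, `j + q = n`. -/
theorem subsingleton_of (b n : ℕ) (Z : B) (G : A) (hb : ∀ q, b < q → IsZero ((F.rightDerived q).obj G))
    (hv : ∀ q j : ℕ, q ≤ b → j + q = n → Subsingleton (Ext.{w'} Z ((F.rightDerived q).obj G) j)) :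
    Subsingleton (Ext.{w} (L.obj Z) G n) :=
  AdjExt.subsingleton_of (RDer4.dAdj adj) F (fun q => RDer3.HTRsingle F q)
    (fun G => RDer3.TR_isGE F ((DerivedCategory.singleFunctor A 0).obj G) 0) b n Z G hb hv

end Groth.Agent.Sga4B.TwoRow
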