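import Mathlib.CategoryTheory.Sites.Point.Comap

/-!
# The germ of the unit section

For a continuous, flat, cover preserving functor `F : C ⥤ D` and a point `Φ` of `D`, the
isomorphism `sheafFiberComapIso` sends the germ of a section `m : G(X)` to the germ of the section
of the pullback sheaf given by the unit of the adjunction.
-/

set_option autoImplicit false

universe w v

open CategoryTheory CategoryTheory.Limits Opposite

namespace Groth.Agent.Sga4B.UnitGerm

open GrothendieckTopology.Point

variable {C D : Type*} [Category* C] [Category* D]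
  {K : GrothendieckTopology D} {A : Type*} [Category.{v} A] [HasProducts.{w} A]
  [HasColimitsOfSize.{w, w} A]

section

variable (Φ : GrothendieckTopology.Point.{w} K)

lemma counit_app (M : A) :
    Φ.skyscraperSheafAdjunction.counit.app M =
      Φ.skyscraperPresheafHomEquiv.symm (𝟙 (Φ.skyscraperPresheaf M)) := rfl

lemma toPresheafFiber_counit (M : A) (X : D) (x : Φ.fiber.obj X) :
    Φ.toPresheafFiber X x (Φ.skyscraperPresheaf M) ≫
      Φ.skyscraperPresheafHomEquiv.symm (𝟙 (Φ.skyscraperPresheaf M)) =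
      Pi.π (fun _ : Φ.fiber.obj X ↦ M) x := by
  rw [Φ.toPresheafFiber_skyscraperPresheafHomEquiv_symm]
  exact Category.id_comp _

lemma unit_app_hom (G : Sheaf K A) :
    (Φ.skyscraperSheafAdjunction.unit.app G).hom =
      Φ.skyscraperPresheafHomEquiv (𝟙 (Φ.presheafFiber.obj G.obj)) := rfl

lemma unit_π (G : Sheaf K A) (X : D) (x : Φ.fiber.obj X) :
    (Φ.skyscraperPresheafHomEquiv (𝟙 (Φ.presheafFiber.obj G.obj))).app (op X) ≫
      Pi.π (fun _ : Φ.fiber.obj X ↦ Φ.presheafFiber.obj G.obj) x = Φ.toPresheafFiber X x G.obj := by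
  rw [Φ.skyscraperPresheafHomEquiv_app_π]
  exact Category.comp_id _

omit [HasProducts.{w} A] in
lemma toPresheafFiber_sheafFiber_map {G₁ G₂ : Sheaf K A} (g : G₁ ⟶ G₂) {T : A}
    (h : Φ.sheafFiber.obj G₂ ⟶ T) (X : D) (x : Φ.fiber.obj X) :
    Φ.toPresheafFiber X x G₁.obj ≫ Φ.sheafFiber.map g ≫ h =
      g.hom.app (op X) ≫ Φ.toPresheafFiber X x G₂.obj ≫ h :=
  (Category.assoc _ _ _).symm.trans
    ((congrArg (· ≫ h) (Φ.toPresheafFiber_naturality g.hom X x)).trans (Category.assoc _ _ _))

end

variable (Φ : GrothendieckTopology.Point.{w} K) (F : C ⥤ D) [RepresentablyFlat F]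
  {J : GrothendieckTopology C}
  (hF : CoverPreserving J K F)
  [InitiallySmall (F ⋙ Φ.fiber).Elements]
  (A)
  [Functor.IsContinuous F J K]
  [(F.sheafPushforwardContinuous A J K).IsRightAdjoint]

lemma toPresheafFiber_sheafFiberComapIso_hom_app (G : Sheaf J A) (X : C)
    (x : Φ.fiber.obj (F.obj X)) :
    (Φ.comap F hF).toPresheafFiber X x G.obj ≫ (Φ.sheafFiberComapIso F hF A).hom.app G =
      ((F.sheafAdjunctionContinuous A J K).unit.app G).hom.app (op X) ≫
        Φ.toPresheafFiber (F.obj X) x ((F.sheafPullback A J K).obj G).obj := by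
  rw [sheafFiberComapIso_hom_app]
  refine (toPresheafFiber_sheafFiber_map (Φ.comap F hF) _ _ X x).trans ?_
  refine congrArg _ ?_
  refine (toPresheafFiber_sheafFiber_map (Φ.comap F hF) _ _ X x).trans ?_
  refine Eq.trans ?_ (unit_π Φ ((F.sheafPullback A J K).obj G) (F.obj X) x)
  refine congrArg _ ?_
  refine (toPresheafFiber_sheafFiber_map (Φ.comap F hF) _ _ X x).trans ?_
  refine Eq.trans ?_ (Category.id_comp _)
  exact congrArg₂ _ rfl (toPresheafFiber_counit (Φ.comap F hF) _ X x)

end Groth.Agent.Sga4B.UnitGerm
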