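import Groth.Agent.Sga4B.EtUnit
import Mathlib.FieldTheory.IsAlgClosed.AlgebraicClosure

/-!
# Injectivity of the unit for surjective morphisms

If the unit section of `m : F(V)` vanishes on an étale `X`-scheme `U → X ×_S V` which is
surjective onto `V`, then `m = 0`.
-/

set_option autoImplicit false
universe u
set_option linter.unusedSectionVars false

open CategoryTheory CategoryTheory.Limits AlgebraicGeometry Opposite

namespace Groth.Agent.Sga4B.UnitInj

open EtUnit

/-- a geometric point over a given point -/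
noncomputable def geomPt (Y : Scheme.{u}) (y : Y) :
    Spec (CommRingCat.of (AlgebraicClosure (Y.residueField y))) ⟶ Y :=
  Spec.map (CommRingCat.ofHom (algebraMap (Y.residueField y) (AlgebraicClosure (Y.residueField y)))) ≫
    Y.fromSpecResidueField y

theorem geomPt_apply (Y : Scheme.{u}) (y : Y)
    (z : Spec (CommRingCat.of (AlgebraicClosure (Y.residueField y)))) : geomPt Y y z = y := by
  rw [geomPt, Scheme.Hom.comp_apply]
  exact Scheme.fromSpecResidueField_apply _ _

variable {X S : Scheme.{u}} (f : X ⟶ S) [EtCoh.BCCont f]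

/-- projection `X ×_S V → V` -/
noncomputable def pr (V : S.Etale) : ((EtCoh.bc f).obj V).left ⟶ V.left := pullback.fst V.hom f

/-- projection `X ×_S V → X` -/
theorem bc_hom (V : S.Etale) : ((EtCoh.bc f).obj V).hom = pullback.snd V.hom f := rfl

theorem isPullback_pr (V : S.Etale) :
    IsPullback (pr f V) ((EtCoh.bc f).obj V).hom V.hom f := IsPullback.of_hasPullback V.hom f

theorem isPullback_map {V V' : S.Etale} (g : V' ⟶ V) :
    IsPullback ((EtCoh.bc f).map g).left (pr f V') (pr f V) g.left :=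
  EtCoh.isPullback_bc_map f g

theorem map_left_pr {V V' : S.Etale} (g : V' ⟶ V) :
    ((EtCoh.bc f).map g).left ≫ pr f V = pr f V' ≫ g.left := (isPullback_map f g).w

theorem usec_eq_zero (F : EtCoh.Ab S) (V : S.Etale) (m : EtCoh.sect F V) (U : X.Etale)
    (h : U ⟶ (EtCoh.bc f).obj V) (hs : ∀ v : V.left, ∃ u : U.left, pr f V (h.left u) = v)
    (h0 : ((EtCoh.pull f).obj F).obj.map h.op (usec f F V m) = 0) : m = 0 := by
  apply Groth.Agent.Etbase.EtSite.sect_eq_zero
  intro v
  obtain ⟨u, hu⟩ := hs v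
  let ζ := geomPt U.left u
  let ξ : _ ⟶ X := ζ ≫ U.hom
  let xU : (Scheme.pointSmallEtale ξ).fiber.obj U := Over.homMk ζ rfl
  have e1 : germ ξ ((EtCoh.pull f).obj F) ((EtCoh.bc f).obj V)
      ((Scheme.pointSmallEtale ξ).fiber.map h xU) (usec f F V m) = 0 := by
    rw [← germ_map, h0, map_zero]
  rw [← map_zero (germ ξ ((EtCoh.pull f).obj F) ((EtCoh.bc f).obj V)
      ((Scheme.pointSmallEtale ξ).fiber.map h xU)), ← map_zero (usec f F V), germ_usec_eq_iff] at e1
  obtain ⟨V', g, y, hy, h2⟩ := e1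
  let yl : Spec (CommRingCat.of (AlgebraicClosure (U.left.residueField u))) ⟶
    ((EtCoh.bc f).obj V').left := y.left
  refine ⟨V', g, pr f V' (yl default), ?_, by rw [h2, map_zero]⟩
  have e2 : yl ≫ ((EtCoh.bc f).map g).left = ζ ≫ h.left :=
    congrArg (fun a : Over.mk ξ ⟶ (Scheme.Etale.forget X).obj ((EtCoh.bc f).obj V) => a.left) hy
  have e3 : yl ≫ pr f V' ≫ g.left = ζ ≫ h.left ≫ pr f V :=
    calc yl ≫ pr f V' ≫ g.left = yl ≫ ((EtCoh.bc f).map g).left ≫ pr f V :=
          congrArg _ (map_left_pr f g).symm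
      _ = (yl ≫ ((EtCoh.bc f).map g).left) ≫ pr f V := (Category.assoc _ _ _).symm
      _ = (ζ ≫ h.left) ≫ pr f V := congrArg (· ≫ pr f V) e2
      _ = ζ ≫ h.left ≫ pr f V := Category.assoc _ _ _
  have e4 : (yl ≫ pr f V' ≫ g.left) default = (ζ ≫ h.left ≫ pr f V) default := by rw [e3]
  simp only [Scheme.Hom.comp_apply] at e4
  rw [e4]
  have : ζ default = u := geomPt_apply _ _ _
  rw [this, hu]

end Groth.Agent.Sga4B.UnitInj
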