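import Groth.Agent.Etbase.PullUnit2

/-!
# Pulled back sections

For `f : X ⟶ S`, `F` on `S`, étale schemes `W` over `X` and `V` over `S` and a morphism
`π : W ⟶ V` over `S`, the pulled back section `us f F W V π h σ ∈ (f⁻¹F)(W)` of `σ ∈ F(V)`.
-/

set_option autoImplicit false
universe u

open CategoryTheory CategoryTheory.Limits AlgebraicGeometry Opposite

namespace Groth.Agent.Sga4B.UsCalc

open Groth.Agent.Etbase Groth.Agent.Etbase.EtSections Groth.Agent.Etbase.PullUnit

variable {X S : Scheme.{u}} (f : X ⟶ S)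

/-- The morphism `W ⟶ V ×_S X` given by `π : W ⟶ V`. -/
noncomputable def lft (W : X.Etale) (V : S.Etale) (π : W.left ⟶ V.left)
    (h : π ≫ V.hom = W.hom ≫ f) : W ⟶ (EtCoh.bc f).obj V :=
  MorphismProperty.Over.homMk (pullback.lift π W.hom h) (pullback.lift_snd _ _ _)

theorem lft_fst (W : X.Etale) (V : S.Etale) (π : W.left ⟶ V.left)
    (h : π ≫ V.hom = W.hom ≫ f) : (lft f W V π h).left ≫ pullback.fst V.hom f = π :=
  pullback.lift_fst _ _ _

theorem hom_ext_bc {W : X.Etale} {V : S.Etale} {a b : W ⟶ (EtCoh.bc f).obj V}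
    (h : a.left ≫ pullback.fst V.hom f = b.left ≫ pullback.fst V.hom f) : a = b := by
  have h2 : a.left ≫ pullback.snd V.hom f = b.left ≫ pullback.snd V.hom f :=
    (Over.w a.hom).trans (Over.w b.hom).symm
  have h3 : a.left = b.left := pullback.hom_ext h h2
  exact MorphismProperty.Over.Hom.ext h3

/-- Every morphism to `V ×_S X` is of the form `lft`. -/
theorem eq_lft {W : X.Etale} {V : S.Etale} (b : W ⟶ (EtCoh.bc f).obj V)
    (h : (b.left ≫ pullback.fst V.hom f) ≫ V.hom = W.hom ≫ f) :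
    b = lft f W V (b.left ≫ pullback.fst V.hom f) h :=
  hom_ext_bc f (lft_fst f W V _ h).symm

theorem fst_w {W : X.Etale} {V : S.Etale} (b : W ⟶ (EtCoh.bc f).obj V) :
    (b.left ≫ pullback.fst V.hom f) ≫ V.hom = W.hom ≫ f := by
  have h2 : b.left ≫ pullback.snd V.hom f = W.hom := Over.w b.hom
  exact (Category.assoc _ _ _).trans ((congrArg (fun t => b.left ≫ t) pullback.condition).trans
    ((Category.assoc _ _ _).symm.trans (congrArg (· ≫ f) h2)))

/-- The pulled back section. -/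
noncomputable def us (F : EtCoh.Ab S) (W : X.Etale) (V : S.Etale) (π : W.left ⟶ V.left)
    (h : π ≫ V.hom = W.hom ≫ f) :
    EtCoh.sect F V →+ EtCoh.sect ((EtCoh.pull f).obj F) W :=
  (((EtCoh.pull f).obj F).obj.map (lft f W V π h).op).hom.comp (unitSect f F V).hom

theorem us_apply (F : EtCoh.Ab S) (W : X.Etale) (V : S.Etale) (π : W.left ⟶ V.left)
    (h : π ≫ V.hom = W.hom ≫ f) (σ : EtCoh.sect F V) :
    us f F W V π h σ = ((EtCoh.pull f).obj F).obj.map (lft f W V π h).op (unitSect f F V σ) := rfl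

theorem us_congr (F : EtCoh.Ab S) (W : X.Etale) (V : S.Etale) {π π' : W.left ⟶ V.left}
    (e : π = π') (h : π ≫ V.hom = W.hom ≫ f) (h' : π' ≫ V.hom = W.hom ≫ f) (σ : EtCoh.sect F V) :
    us f F W V π h σ = us f F W V π' h' σ := by subst e; rfl

theorem w_left {W W' : X.Etale} {V : S.Etale} {π : W.left ⟶ V.left}
    (h : π ≫ V.hom = W.hom ≫ f) (a : W' ⟶ W) :
    (a.left ≫ π) ≫ V.hom = W'.hom ≫ f := by
  have h2 : a.left ≫ W.hom = W'.hom := Over.w a.hom
  rw [Category.assoc, h, ← Category.assoc, h2]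

theorem w_right {W : X.Etale} {V V' : S.Etale} {π : W.left ⟶ V'.left}
    (h : π ≫ V'.hom = W.hom ≫ f) (g : V' ⟶ V) :
    (π ≫ g.left) ≫ V.hom = W.hom ≫ f := by
  have h2 : g.left ≫ V.hom = V'.hom := Over.w g.hom
  rw [Category.assoc, h2, h]

/-- naturality in `W` -/
theorem map_us (F : EtCoh.Ab S) {W W' : X.Etale} (V : S.Etale) (π : W.left ⟶ V.left)
    (h : π ≫ V.hom = W.hom ≫ f) (a : W' ⟶ W) (σ : EtCoh.sect F V) :
    ((EtCoh.pull f).obj F).obj.map a.op (us f F W V π h σ) =
      us f F W' V (a.left ≫ π) (w_left f h a) σ := by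
  rw [us_apply, us_apply, map_map]
  have : a ≫ lft f W V π h = lft f W' V (a.left ≫ π) (w_left f h a) := by
    apply hom_ext_bc
    rw [lft_fst]
    exact (Category.assoc _ _ _).trans (congrArg (fun t => a.left ≫ t) (lft_fst f W V π h))
  rw [this]

/-- naturality in `V` -/
theorem us_map (F : EtCoh.Ab S) {W : X.Etale} {V V' : S.Etale} (π : W.left ⟶ V'.left)
    (h : π ≫ V'.hom = W.hom ≫ f) (g : V' ⟶ V) (σ : EtCoh.sect F V) :
    us f F W V' π h (F.obj.map g.op σ) = us f F W V (π ≫ g.left) (w_right f h g) σ := by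
  rw [us_apply, us_apply, map_unitSect, map_map]
  have : lft f W V' π h ≫ (EtCoh.bc f).map g = lft f W V (π ≫ g.left) (w_right f h g) := by
    apply hom_ext_bc
    rw [lft_fst]
    have h1 : ((EtCoh.bc f).map g).left ≫ pullback.fst V.hom f =
      pullback.fst V'.hom f ≫ g.left := pullback.lift_fst _ _ _
    calc (lft f W V' π h ≫ (EtCoh.bc f).map g).left ≫ pullback.fst V.hom f
        = (lft f W V' π h).left ≫ (((EtCoh.bc f).map g).left ≫ pullback.fst V.hom f) :=
          Category.assoc _ _ _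
      _ = (lft f W V' π h).left ≫ pullback.fst V'.hom f ≫ g.left := congrArg _ h1
      _ = ((lft f W V' π h).left ≫ pullback.fst V'.hom f) ≫ g.left := (Category.assoc _ _ _).symm
      _ = π ≫ g.left := congrArg (· ≫ g.left) (lft_fst f W V' π h)
  rw [this]

/-- the vanishing locus of a pulled back section -/
theorem vanishesAt_us_iff (F : EtCoh.Ab S) (W : X.Etale) (V : S.Etale) (π : W.left ⟶ V.left)
    (h : π ≫ V.hom = W.hom ≫ f) (σ : EtCoh.sect F V) (w : W.left) :
    VanishesAt ((EtCoh.pull f).obj F) W (us f F W V π h σ) w ↔ VanishesAt F V σ (π w) := by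
  rw [us_apply, vanishesAt_map_iff, vanishesAt_unitSect_iff]
  have h1 : (pullback.fst V.hom f : ((EtCoh.bc f).obj V).left ⟶ V.left) ((lft f W V π h).left w) =
      π w := by
    have := congrArg (fun t : W.left ⟶ V.left => t w) (lft_fst f W V π h)
    exact this
  rw [h1]

/-- local surjectivity -/
theorem exists_locally_us (F : EtCoh.Ab S) (W : X.Etale)
    (s : EtCoh.sect ((EtCoh.pull f).obj F) W) (w : W.left) :
    ∃ (V : S.Etale) (σ : EtCoh.sect F V) (W' : X.Etale) (a : W' ⟶ W) (π : W'.left ⟶ V.left)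
      (h : π ≫ V.hom = W'.hom ≫ f) (w' : W'.left), a.left w' = w ∧
      ((EtCoh.pull f).obj F).obj.map a.op s = us f F W' V π h σ := by
  obtain ⟨V, σ, W', a, b, w', h1, h2⟩ := PullUnit2.exists_locally_unitSect f F W s w
  refine ⟨V, σ, W', a, b.left ≫ pullback.fst V.hom f, fst_w f b, w', h1, ?_⟩
  rw [h2, us_apply, ← eq_lft]

end Groth.Agent.Sga4B.UsCalc
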