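import Groth.Agent.Sga4B.UsCalc
import Groth.Agent.Etbase.PullConn

/-!
# Sections of inverse images over schemes with connected geometric fibres

`us_surjective`: if `π : W ⟶ T` is surjective, universally open, with connected geometric fibres
(`W` étale over `X`, `T` étale over `S`), then every section of `f⁻¹F` over `W` is pulled back from
`T`.
-/

set_option autoImplicit false
universe u

open CategoryTheory CategoryTheory.Limits AlgebraicGeometry Opposite

namespace Groth.Agent.Sga4B.UsSurj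

open Groth.Agent.Etbase Groth.Agent.Etbase.EtSections Groth.Agent.Etbase.PullUnit UsCalc

variable {X S : Scheme.{u}} (f : X ⟶ S)

section PB

variable {W : X.Etale} {T T₁ : S.Etale} (π : W.left ⟶ T.left) (g : T₁ ⟶ T)

/-- `W ×_T T₁` as an étale scheme over `X` -/
noncomputable def pb : X.Etale := Scheme.Etale.mk (pullback.fst π g.left ≫ W.hom)

noncomputable def pbFst : pb π g ⟶ W :=
  MorphismProperty.Over.homMk (pullback.fst π g.left) rfl

noncomputable def pbSnd : (pb π g).left ⟶ T₁.left := pullback.snd π g.left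

theorem pb_comm : (pbFst π g).left ≫ π = pbSnd π g ≫ g.left := pullback.condition

theorem pb_w (h : π ≫ T.hom = W.hom ≫ f) : pbSnd π g ≫ T₁.hom = (pb π g).hom ≫ f := by
  have h2 : g.left ≫ T.hom = T₁.hom := Over.w g.hom
  calc pbSnd π g ≫ T₁.hom = pbSnd π g ≫ g.left ≫ T.hom := congrArg _ h2.symm
    _ = (pbSnd π g ≫ g.left) ≫ T.hom := (Category.assoc _ _ _).symm
    _ = ((pbFst π g).left ≫ π) ≫ T.hom := congrArg (· ≫ T.hom) (pb_comm π g).symm
    _ = (pbFst π g).left ≫ π ≫ T.hom := Category.assoc _ _ _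
    _ = (pbFst π g).left ≫ W.hom ≫ f := congrArg _ h
    _ = (pb π g).hom ≫ f := (Category.assoc _ _ _).symm

variable {π g}

noncomputable def pbLift {W₁ : X.Etale} (a₁ : W₁ ⟶ W) (π₁ : W₁.left ⟶ T₁.left)
    (e : a₁.left ≫ π = π₁ ≫ g.left) : W₁ ⟶ pb π g :=
  MorphismProperty.Over.homMk (pullback.lift a₁.left π₁ e) (by
    have h2 : a₁.left ≫ W.hom = W₁.hom := Over.w a₁.hom
    have h3 : pullback.lift a₁.left π₁ e ≫ pullback.fst π g.left = a₁.left :=
      pullback.lift_fst _ _ _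
    exact (Category.assoc _ _ _).symm.trans ((congrArg (· ≫ W.hom) h3).trans h2))

theorem pbLift_fst {W₁ : X.Etale} (a₁ : W₁ ⟶ W) (π₁ : W₁.left ⟶ T₁.left)
    (e : a₁.left ≫ π = π₁ ≫ g.left) : pbLift a₁ π₁ e ≫ pbFst π g = a₁ := by
  have h3 : pullback.lift a₁.left π₁ e ≫ pullback.fst π g.left = a₁.left :=
    pullback.lift_fst _ _ _
  exact MorphismProperty.Over.Hom.ext h3

theorem pbLift_snd {W₁ : X.Etale} (a₁ : W₁ ⟶ W) (π₁ : W₁.left ⟶ T₁.left)
    (e : a₁.left ≫ π = π₁ ≫ g.left) : (pbLift a₁ π₁ e).left ≫ pbSnd π g = π₁ :=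
  pullback.lift_snd _ _ _

instance [Surjective π] : Surjective (pbSnd π g) :=
  inferInstanceAs (Surjective (pullback.snd π g.left))

instance [UniversallyOpen π] : UniversallyOpen (pbSnd π g) :=
  inferInstanceAs (UniversallyOpen (pullback.snd π g.left))

theorem connectedSpace_pb {Ω : Type u} [Field Ω]
    (hc : ∀ s : Spec (CommRingCat.of Ω) ⟶ T.left, ConnectedSpace ↥(pullback π s))
    (s : Spec (CommRingCat.of Ω) ⟶ T₁.left) : ConnectedSpace ↥(pullback (pbSnd π g) s) := by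
  have h1 := hc (s ≫ g.left)
  let e : pullback (pullback.snd π g.left) s ≅ pullback π (s ≫ g.left) :=
    pullbackLeftPullbackSndIso π g.left s
  exact e.hom.homeomorph.symm.surjective.connectedSpace e.hom.homeomorph.symm.continuous

theorem exists_pb_point (w : W.left) (t : T₁.left) (e : π w = g.left t) :
    ∃ p : (pb π g).left, (pbFst π g).left p = w ∧ pbSnd π g p = t :=
  Scheme.Pullback.exists_preimage_pullback (f := π) (g := g.left) w t e

end PB

/-- The vanishing of a section of `f⁻¹F` is locally constant on geometric fibres. -/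
theorem isLocallyConstant_vanishesAt (F : EtCoh.Ab S) (W : X.Etale) (T : S.Etale)
    (π : W.left ⟶ T.left) (h : π ≫ T.hom = W.hom ≫ f)
    (D : EtCoh.sect ((EtCoh.pull f).obj F) W) {Ω : Type u} [Field Ω]
    (η : Spec (CommRingCat.of Ω) ⟶ T.left) :
    IsLocallyConstant (fun z : ↥(pullback π η) =>
      VanishesAt ((EtCoh.pull f).obj F) W D (pullback.fst π η z)) := by
  rw [IsLocallyConstant.iff_exists_open]
  intro z
  let q := pullback.fst π η
  let r := pullback.snd π η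
  obtain ⟨V, σ, W', a, π', h', w', hw', hD⟩ := exists_locally_us f F W D (q z)
  have key : ∀ y : W'.left, VanishesAt ((EtCoh.pull f).obj F) W D (a.left y) ↔
      VanishesAt F V σ (π' y) := by
    intro y
    rw [← vanishesAt_map_iff, hD, vanishesAt_us_iff]
  have e1 : AlgebraicGeometry.Etale a.left := inferInstance
  let N := pullback a.left q
  let E := pullback V.hom (η ≫ T.hom)
  have hE : DiscreteTopology E :=
    PullConn.discreteTopology_of_etale (pullback.snd V.hom (η ≫ T.hom))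
  have ha : a.left ≫ W.hom = W'.hom := Over.w a.hom
  have hw : (pullback.fst a.left q ≫ π') ≫ V.hom = (pullback.snd a.left q ≫ r) ≫ η ≫ T.hom := by
    calc (pullback.fst a.left q ≫ π') ≫ V.hom
        = pullback.fst a.left q ≫ π' ≫ V.hom := Category.assoc _ _ _
      _ = pullback.fst a.left q ≫ W'.hom ≫ f := by rw [h']
      _ = pullback.fst a.left q ≫ (a.left ≫ W.hom) ≫ f := by rw [ha]
      _ = (pullback.fst a.left q ≫ a.left) ≫ W.hom ≫ f := by simp only [Category.assoc]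
      _ = (pullback.snd a.left q ≫ q) ≫ W.hom ≫ f := by rw [pullback.condition]
      _ = (pullback.snd a.left q ≫ q) ≫ π ≫ T.hom := by rw [h]
      _ = pullback.snd a.left q ≫ (q ≫ π) ≫ T.hom := by simp only [Category.assoc]
      _ = pullback.snd a.left q ≫ (r ≫ η) ≫ T.hom := by
          rw [show q ≫ π = r ≫ η from pullback.condition]
      _ = _ := by simp only [Category.assoc]
  let lam : N ⟶ E := pullback.lift _ _ hw
  obtain ⟨n, hn1, hn2⟩ := Scheme.Pullback.exists_preimage_pullback (f := a.left) (g := q) w' z hw'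
  have hopen : IsOpenMap (pullback.snd a.left q) := Scheme.Hom.isOpenMap _
  refine ⟨pullback.snd a.left q '' (lam ⁻¹' {lam n}), ?_, ?_, ?_⟩
  · exact hopen _ ((isOpen_discrete {lam n}).preimage lam.continuous)
  · exact ⟨n, rfl, hn2⟩
  · rintro _ ⟨n', hn', rfl⟩
    have c1 : ∀ k : N, VanishesAt ((EtCoh.pull f).obj F) W D
        (q (pullback.snd a.left q k)) ↔ VanishesAt F V σ (pullback.fst V.hom (η ≫ T.hom) (lam k)) := by
      intro k
      have d1 : q (pullback.snd a.left q k) = a.left (pullback.fst a.left q k) := by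
        rw [← Scheme.Hom.comp_apply, ← Scheme.Hom.comp_apply, pullback.condition]
      have d2 : pullback.fst V.hom (η ≫ T.hom) (lam k) = π' (pullback.fst a.left q k) := by
        rw [← Scheme.Hom.comp_apply, ← Scheme.Hom.comp_apply]
        simp only [lam, pullback.lift_fst]
      rw [d1, d2]
      exact key _
    have c2 := c1 n'
    have c3 := c1 n
    rw [hn2] at c3
    have c4 : lam n' = lam n := hn'
    rw [c4] at c2
    exact propext (c2.trans c3.symm)

/-- If the geometric fibres of `π` are connected, vanishing loci are saturated for `π`. -/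
theorem vanishesAt_of_eq (F : EtCoh.Ab S) (W : X.Etale) (T : S.Etale)
    (π : W.left ⟶ T.left) (h : π ≫ T.hom = W.hom ≫ f)
    (hc : ∀ (Ω : Type u) [Field Ω] [IsAlgClosed Ω] (s : Spec (CommRingCat.of Ω) ⟶ T.left),
      ConnectedSpace ↥(pullback π s))
    (D : EtCoh.sect ((EtCoh.pull f).obj F) W) (w w' : W.left) (e : π w = π w')
    (hw : VanishesAt ((EtCoh.pull f).obj F) W D w) :
    VanishesAt ((EtCoh.pull f).obj F) W D w' := by
  obtain ⟨Ω, _, _, η, hη⟩ := EtSections.exists_geometricPoint (π w)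
  have hconn := hc Ω η
  obtain ⟨p, hp, -⟩ := Scheme.Pullback.exists_preimage_pullback (f := π) (g := η)
    w default hη.symm
  obtain ⟨p', hp', -⟩ := Scheme.Pullback.exists_preimage_pullback (f := π) (g := η)
    w' default (hη.trans e).symm
  have hl := (isLocallyConstant_vanishesAt f F W T π h D η).apply_eq_of_preconnectedSpace p p'
  simp only [hp, hp'] at hl
  exact hl.mp hw

/-- If `π` is surjective then `us` is injective. -/
theorem us_injective (F : EtCoh.Ab S) (W : X.Etale) (T : S.Etale)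
    (π : W.left ⟶ T.left) [Surjective π] (h : π ≫ T.hom = W.hom ≫ f) :
    Function.Injective (us f F W T π h) := by
  rw [injective_iff_map_eq_zero]
  intro s hs
  refine eq_zero_of_vanishesAt F T s (fun x => ?_)
  obtain ⟨z, hz⟩ := π.surjective x
  rw [← hz, ← vanishesAt_us_iff f F W T π h, hs]
  exact vanishesAt_zero _ _ _

/-- `σ ∈ F(T₁)` lifts the section `s` along `g : T₁ ⟶ T`. -/
def Lifts (F : EtCoh.Ab S) {W : X.Etale} {T : S.Etale} (π : W.left ⟶ T.left)
    (s : EtCoh.sect ((EtCoh.pull f).obj F) W) {T₁ : S.Etale} (g : T₁ ⟶ T)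
    (σ : EtCoh.sect F T₁) : Prop :=
  ∀ (W₁ : X.Etale) (a₁ : W₁ ⟶ W) (π₁ : W₁.left ⟶ T₁.left) (h₁ : π₁ ≫ T₁.hom = W₁.hom ≫ f),
    a₁.left ≫ π = π₁ ≫ g.left → us f F W₁ T₁ π₁ h₁ σ = ((EtCoh.pull f).obj F).obj.map a₁.op s

theorem Lifts.map {F : EtCoh.Ab S} {W : X.Etale} {T : S.Etale} {π : W.left ⟶ T.left}
    {s : EtCoh.sect ((EtCoh.pull f).obj F) W} {T₁ : S.Etale} {g : T₁ ⟶ T}
    {σ : EtCoh.sect F T₁} (hσ : Lifts f F π s g σ) {T₂ : S.Etale} (k : T₂ ⟶ T₁) :
    Lifts f F π s (k ≫ g) (F.obj.map k.op σ) := by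
  intro W₂ a₂ π₂ h₂ e
  rw [us_map]
  refine hσ W₂ a₂ _ _ (e.trans (Category.assoc _ _ _).symm)

theorem Lifts.unique {F : EtCoh.Ab S} {W : X.Etale} {T : S.Etale} {π : W.left ⟶ T.left}
    [Surjective π] (h : π ≫ T.hom = W.hom ≫ f)
    {s : EtCoh.sect ((EtCoh.pull f).obj F) W} {T₁ : S.Etale} {g : T₁ ⟶ T}
    {σ σ' : EtCoh.sect F T₁} (hσ : Lifts f F π s g σ) (hσ' : Lifts f F π s g σ') : σ = σ' := by
  apply us_injective f F (pb π g) T₁ (pbSnd π g) (pb_w f π g h)
  rw [hσ _ (pbFst π g) _ _ (pb_comm π g), hσ' _ (pbFst π g) _ _ (pb_comm π g)]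

theorem exists_lift_local (F : EtCoh.Ab S) (W : X.Etale) (T : S.Etale)
    (π : W.left ⟶ T.left) (h : π ≫ T.hom = W.hom ≫ f) [Surjective π] [UniversallyOpen π]
    (hc : ∀ (Ω : Type u) [Field Ω] [IsAlgClosed Ω] (s : Spec (CommRingCat.of Ω) ⟶ T.left),
      ConnectedSpace ↥(pullback π s))
    (s : EtCoh.sect ((EtCoh.pull f).obj F) W) (t₀ : T.left) :
    ∃ (T₁ : S.Etale) (g : T₁ ⟶ T) (t : T₁.left) (σ : EtCoh.sect F T₁), g.left t = t₀ ∧
      Lifts f F π s g σ := by
  obtain ⟨w₀, hw₀⟩ := π.surjective t₀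
  obtain ⟨V, σ, W', a, π', h', w', hw', hs⟩ := exists_locally_us f F W s w₀
  let T' : S.Etale := Scheme.Etale.mk (pullback.fst T.hom V.hom ≫ T.hom)
  let p₁ : T' ⟶ T := MorphismProperty.Over.homMk (pullback.fst T.hom V.hom) rfl
  let p₂ : T' ⟶ V := MorphismProperty.Over.homMk (pullback.snd T.hom V.hom)
    pullback.condition.symm
  have ha : a.left ≫ W.hom = W'.hom := Over.w a.hom
  have e0 : (a.left ≫ π) ≫ T.hom = π' ≫ V.hom := (w_left f h a).trans h'.symm
  let ρ : W'.left ⟶ T'.left := pullback.lift (a.left ≫ π) π' e0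
  have hρ1 : ρ ≫ p₁.left = a.left ≫ π := pullback.lift_fst _ _ _
  have hρ2 : ρ ≫ p₂.left = π' := pullback.lift_snd _ _ _
  let c : W' ⟶ pb π p₁ := pbLift a ρ hρ1.symm
  let D : EtCoh.sect ((EtCoh.pull f).obj F) (pb π p₁) :=
    ((EtCoh.pull f).obj F).obj.map (pbFst π p₁).op s -
      us f F (pb π p₁) T' (pbSnd π p₁) (pb_w f π p₁ h) (F.obj.map p₂.op σ)
  have hcD : ((EtCoh.pull f).obj F).obj.map c.op D = 0 := by
    rw [map_sub, map_map, pbLift_fst, map_us, us_map, hs, sub_eq_zero]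
    refine us_congr f F W' V ?_ _ _ σ
    exact hρ2.symm.trans (congrArg (· ≫ p₂.left) (pbLift_snd a ρ hρ1.symm).symm)
  let Z : Set (pb π p₁).left := {y | VanishesAt ((EtCoh.pull f).obj F) (pb π p₁) D y}
  have hZo : IsOpen Z := isOpen_vanishesAt _ _ _
  let O : T'.left.Opens := ⟨pbSnd π p₁ '' Z, Scheme.Hom.isOpenMap (pbSnd π p₁) _ hZo⟩
  have hO : ∀ y : (pb π p₁).left, pbSnd π p₁ y ∈ O →
      VanishesAt ((EtCoh.pull f).obj F) (pb π p₁) D y := by
    rintro y ⟨z, hz, hzy⟩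
    exact vanishesAt_of_eq f F (pb π p₁) T' (pbSnd π p₁) (pb_w f π p₁ h)
      (fun Ω _ _ s => connectedSpace_pb (hc Ω) s) D z y hzy hz
  let T₁ : S.Etale := Scheme.Etale.mk (O.ι ≫ T'.hom)
  let u₁ : T₁ ⟶ T' := MorphismProperty.Over.homMk O.ι rfl
  have hmem : pbSnd π p₁ (c.left w') ∈ O := by
    refine ⟨c.left w', ?_, rfl⟩
    exact ⟨W', c, w', rfl, hcD⟩
  refine ⟨T₁, u₁ ≫ p₁, ⟨_, hmem⟩, F.obj.map u₁.op (F.obj.map p₂.op σ), ?_, ?_⟩
  · change p₁.left (pbSnd π p₁ (c.left w')) = t₀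
    have e1 : (c.left ≫ pbSnd π p₁ ≫ p₁.left) w' = t₀ := by
      have e2 : c.left ≫ pbSnd π p₁ ≫ p₁.left = a.left ≫ π :=
        (Category.assoc _ _ _).symm.trans
          ((congrArg (· ≫ p₁.left) (pbLift_snd a ρ hρ1.symm)).trans hρ1)
      rw [e2, Scheme.Hom.comp_apply, hw', hw₀]
    exact e1
  · intro W₁ a₁ π₁ h₁ e
    have e' : a₁.left ≫ π = (π₁ ≫ u₁.left) ≫ p₁.left := e.trans (Category.assoc _ _ _).symm
    let k : W₁ ⟶ pb π p₁ := pbLift a₁ (π₁ ≫ u₁.left) e'
    have hk : ((EtCoh.pull f).obj F).obj.map k.op D = 0 := by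
      refine eq_zero_of_vanishesAt _ _ _ (fun y => ?_)
      rw [vanishesAt_map_iff]
      apply hO
      have e3 : pbSnd π p₁ (k.left y) = u₁.left (π₁ y) := by
        have e4 := congrArg (fun t : W₁.left ⟶ T'.left => t y) (pbLift_snd a₁ (π₁ ≫ u₁.left) e')
        exact e4
      rw [e3]
      exact (π₁ y : O.toScheme).2
    rw [map_sub, map_map, pbLift_fst, map_us, sub_eq_zero] at hk
    rw [hk, us_map]
    refine us_congr f F W₁ T' ?_ _ _ _
    exact (pbLift_snd a₁ (π₁ ≫ u₁.left) e').symm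

/-- Sections of `f⁻¹F` over `W` come from `T` if `π : W ⟶ T` is surjective, universally open and
has connected geometric fibres. -/
theorem us_surjective (F : EtCoh.Ab S) (W : X.Etale) (T : S.Etale)
    (π : W.left ⟶ T.left) (h : π ≫ T.hom = W.hom ≫ f) [Surjective π] [UniversallyOpen π]
    (hc : ∀ (Ω : Type u) [Field Ω] [IsAlgClosed Ω] (s : Spec (CommRingCat.of Ω) ⟶ T.left),
      ConnectedSpace ↥(pullback π s)) :
    Function.Surjective (us f F W T π h) := by
  intro s
  let R : Sieve T :=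
    { arrows := fun T₁ g => ∃ σ : EtCoh.sect F T₁, Lifts f F π s g σ
      downward_closed := fun {V W} g hg k => by
        obtain ⟨σ, hσ⟩ := hg
        exact ⟨_, hσ.map f k⟩ }
  obtain ⟨σ, hσ⟩ := exists_glue F T R (fun t₀ => by
      obtain ⟨T₁, g, t, σ, ht, hσ⟩ := exists_lift_local f F W T π h hc s t₀
      exact ⟨T₁, g, t, ⟨σ, hσ⟩, ht⟩) (fun V g hg => hg.choose) (fun V W g hg k hk =>
      Lifts.unique f h (hg.choose_spec.map f k) hk.choose_spec)
  refine ⟨σ, ?_⟩
  refine EtSite.sect_ext _ _ _ _ (fun w₀ => ?_)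
  obtain ⟨T₁, g, t, τ, ht, hτ⟩ := exists_lift_local f F W T π h hc s (π w₀)
  have hR : R g := ⟨τ, hτ⟩
  obtain ⟨w₁, hw₁, -⟩ := exists_pb_point w₀ t ht.symm
  refine ⟨pb π g, pbFst π g, w₁, hw₁, ?_⟩
  rw [map_us]
  have h1 := hR.choose_spec _ (pbFst π g) (pbSnd π g) (pb_w f π g h) (pb_comm π g)
  rw [← h1, ← hσ T₁ g hR, us_map]
  exact us_congr f F _ T (pb_comm π g) _ _ σ

end Groth.Agent.Sga4B.UsSurj
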